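import Groth.Agent.IndEtLib.Basic
import Groth.Agent.HenselLib.IndEtale
import Mathlib.RingTheory.Flat.EquationalCriterion
import Mathlib.CategoryTheory.Limits.Types.Filtered
import Mathlib.Algebra.Category.Ring.FilteredColimits

/-! A local flat algebra covered by etale algebras is ind-etale. -/

set_option autoImplicit false
set_option linter.style.haveILetI false
set_option maxHeartbeats 1600000
set_option backward.isDefEq.respectTransparency false
set_option backward.defeqAttrib.useBackward true
universe u

open CategoryTheory CategoryTheory.Limits TensorProduct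

namespace HenselBranchLib

noncomputable section

theorem flat_of_etale_hom {R S U : Type u} [CommRing R] [CommRing S] [CommRing U] [Algebra R S] [Algebra R U]
    [Module.Flat R S] [Algebra.Etale R U] (ξ : U →ₐ[R] S) : ξ.toRingHom.Flat := by
  let T := S ⊗[R] U
  let μ : T →ₐ[S] S := Algebra.TensorProduct.lift (Algebra.ofId S S) ξ fun _ _ => Commute.all _ _
  letI : Algebra T S := μ.toRingHom.toAlgebra
  haveI : IsScalarTower S T S := .of_algebraMap_eq fun s => (μ.commutes s).symm
  haveI : Algebra.Etale T S := Algebra.Etale.of_restrictScalars (R := S) (A := T) (B := S)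
  have h1 : μ.toRingHom.Flat := (inferInstance : Module.Flat T S)
  have h2 : (Algebra.TensorProduct.includeRight (R := R) (A := S) (B := U)).toRingHom.Flat := by
    let j : U ⊗[R] S ≃ₐ[R] T := Algebra.TensorProduct.comm R U S
    have h3 : (algebraMap U (U ⊗[R] S)).Flat := RingHom.flat_algebraMap_iff.2 inferInstance
    have h4 := h3.comp (RingHom.Flat.of_bijective (f := j.toRingEquiv.toRingHom) j.bijective)
    rwa [show j.toRingEquiv.toRingHom.comp (algebraMap U (U ⊗[R] S)) =
      (Algebra.TensorProduct.includeRight (R := R) (A := S) (B := U)).toRingHom from RingHom.ext fun u =>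
        (Algebra.TensorProduct.comm_tmul (R := R) (A := U) (B := S) u (1 : S))] at h4
  have h := h2.comp h1
  rwa [show μ.toRingHom.comp (Algebra.TensorProduct.includeRight (R := R) (A := S) (B := U)).toRingHom = ξ.toRingHom from
    RingHom.ext fun u => (Algebra.TensorProduct.lift_tmul (Algebra.ofId S S) ξ (fun _ _ => Commute.all _ _) (1 : S) u).trans (by rw [map_one, one_mul]; rfl)] at h

/-- If a flat map into a local ring kills an element, a multiplier invertible there kills it. -/
theorem exists_isUnit_mul_eq_zero {U S : Type u} [CommRing U] [CommRing S] [IsLocalRing S] (f : U →+* S)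
    (hf : f.Flat) (v : U) (hv : f v = 0) : ∃ a : U, IsUnit (f a) ∧ a * v = 0 := by
  letI := f.toAlgebra
  haveI : Module.Flat U S := hf
  obtain ⟨k, a, y, ha, hb⟩ := Module.Flat.isTrivialRelation_of_sum_smul_eq_zero (R := U) (M := S)
    (f := fun _ : Fin 1 => v) (x := fun _ => (1 : S)) (by simp [Algebra.smul_def, show algebraMap U S v = 0 from hv])
  by_contra hc
  refine (IsLocalRing.maximalIdeal.isMaximal S).ne_top (Ideal.eq_top_iff_one _ |>.2 ?_)
  rw [show (1 : S) = ∑ j, a 0 j • y j from ha 0]
  refine Ideal.sum_mem _ fun j _ => ?_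
  rw [Algebra.smul_def]
  refine Ideal.mul_mem_right _ _ fun hu => hc ⟨a 0 j, hu, ?_⟩
  rw [mul_comm]
  have := hb j
  simpa using this

variable (R S : Type u) [CommRing R] [CommRing S] [Algebra R S]

/-- Etale algebras over `S`, in a small model. -/
structure EtObj : Type u where
  n : ℕ
  I : Ideal (MvPolynomial (Fin n) R)
  etale : Algebra.Etale R (MvPolynomial (Fin n) R ⧸ I)
  ξ : (MvPolynomial (Fin n) R ⧸ I) →ₐ[R] S

variable {R S}

/-- The ring of a model. -/
def EtObj.U (j : EtObj R S) : Type u := MvPolynomial (Fin j.n) R ⧸ j.I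

instance (j : EtObj R S) : CommRing j.U := inferInstanceAs (CommRing (MvPolynomial (Fin j.n) R ⧸ j.I))

instance (j : EtObj R S) : Algebra R j.U := inferInstanceAs (Algebra R (MvPolynomial (Fin j.n) R ⧸ j.I))

instance EtObj.etale_U (j : EtObj R S) : Algebra.Etale R j.U := j.etale

/-- The structure map of a model. -/
def EtObj.hom (j : EtObj R S) : j.U →ₐ[R] S := j.ξ

instance : SmallCategory (EtObj R S) where
  Hom i j := {φ : i.U →ₐ[R] j.U // j.hom.comp φ = i.hom}
  id i := ⟨AlgHom.id R _, AlgHom.comp_id _⟩
  comp {i j k} f g := ⟨g.1.comp f.1, by rw [← AlgHom.comp_assoc, g.2, f.2]⟩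
  id_comp f := Subtype.ext (AlgHom.comp_id _)
  comp_id f := Subtype.ext (AlgHom.id_comp _)
  assoc f g h := Subtype.ext (AlgHom.comp_assoc _ _ _).symm

theorem exists_obj {U : Type u} [CommRing U] [Algebra R U] [Algebra.Etale R U] (ξ : U →ₐ[R] S) :
    ∃ (j : EtObj R S) (e : U ≃ₐ[R] j.U), j.hom.comp e.toAlgHom = ξ := by
  obtain ⟨n, f, hf, -⟩ := (inferInstance : Algebra.FinitePresentation R U).out
  let e := Ideal.quotientKerAlgEquivOfSurjective hf
  haveI : Algebra.Etale R (MvPolynomial (Fin n) R ⧸ RingHom.ker f) := Algebra.Etale.of_equiv e.symm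
  exact ⟨⟨n, RingHom.ker f, inferInstance, ξ.comp e.toAlgHom⟩, (e.symm : U ≃ₐ[R] (MvPolynomial (Fin n) R ⧸ RingHom.ker f)),
    AlgHom.ext fun u => congrArg ξ (e.apply_symm_apply u)⟩

theorem isFiltered_etObj [IsLocalRing S] [Module.Flat R S] : IsFiltered (EtObj R S) := by
  haveI : Nonempty (EtObj R S) := ⟨(exists_obj (Algebra.ofId R S)).choose⟩
  haveI : IsFilteredOrEmpty (EtObj R S) := by
    refine ⟨fun i j => ?_, fun i j f g => ?_⟩
    · haveI := i.etale_U
      haveI := j.etale_U
      haveI : Algebra.Etale R (i.U ⊗[R] j.U) := Algebra.Etale.comp R i.U (i.U ⊗[R] j.U)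
      obtain ⟨k, e, he⟩ := exists_obj (Algebra.TensorProduct.lift i.hom j.hom fun _ _ => Commute.all _ _)
      refine ⟨k, ⟨e.toAlgHom.comp Algebra.TensorProduct.includeLeft, ?_⟩,
        ⟨e.toAlgHom.comp Algebra.TensorProduct.includeRight, ?_⟩, trivial⟩
      · rw [← AlgHom.comp_assoc, he]; ext x; simp
      · rw [← AlgHom.comp_assoc, he]; ext x; simp
    · haveI := j.etale_U
      haveI := i.etale_U
      obtain ⟨s, hs⟩ := (inferInstance : Algebra.FiniteType R i.U).out
      have hd : ∀ x : i.U, ∃ a : j.U, IsUnit (j.hom a) ∧ a * (f.1 x - g.1 x) = 0 := fun x =>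
        exists_isUnit_mul_eq_zero j.hom.toRingHom (flat_of_etale_hom j.hom) _ (by
          show j.hom (f.1 x - g.1 x) = 0
          rw [map_sub, ← AlgHom.comp_apply, f.2, ← AlgHom.comp_apply, g.2, sub_self])
      choose a ha ha' using hd
      let b := ∏ x ∈ s, a x
      have hb : IsUnit (j.hom b) := by
        rw [map_prod]
        exact IsUnit.prod_iff.2 fun x _ => ha x
      haveI : Algebra.Etale R (Localization.Away b) := Algebra.Etale.comp R j.U (Localization.Away b)
      obtain ⟨k, e, he⟩ := exists_obj (IsLocalization.Away.liftAlgHom b (f := j.hom) hb (S := Localization.Away b))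
      refine ⟨k, ⟨e.toAlgHom.comp (IsScalarTower.toAlgHom R j.U (Localization.Away b)), ?_⟩, Subtype.ext ?_⟩
      · rw [← AlgHom.comp_assoc, he]; ext x; simp
      · refine AlgHom.ext_of_adjoin_eq_top hs fun x hx => ?_
        show e (algebraMap j.U (Localization.Away b) (f.1 x)) = e (algebraMap j.U (Localization.Away b) (g.1 x))
        congr 1
        rw [← sub_eq_zero, ← map_sub, IsLocalization.map_eq_zero_iff (Submonoid.powers b)]
        refine ⟨⟨b, Submonoid.mem_powers b⟩, ?_⟩
        show b * (f.1 x - g.1 x) = 0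
        rw [show b = (∏ y ∈ s, a y) from rfl]
        obtain ⟨c, hc⟩ := Finset.dvd_prod_of_mem a (Finset.mem_coe.1 hx)
        rw [hc, mul_comm (a x) c, mul_assoc, ha', mul_zero]
  exact {}

/-- A flat local algebra all whose elements come from etale algebras is ind-etale. -/
theorem isIndEtale_of_etCov [IsLocalRing S] [Module.Flat R S] (h : ∀ x : S, HenselLib.EtCov (R := R) x) :
    EtPBC.IsIndEtale R S := by
  haveI := isFiltered_etObj (R := R) (S := S)
  let D : EtObj R S ⥤ CommRingCat.{u} :=
    { obj := fun j => CommRingCat.of j.U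
      map := fun f => CommRingCat.ofHom f.1.toRingHom }
  let t : (Functor.const (EtObj R S)).obj (CommRingCat.of R) ⟶ D :=
    { app := fun j => CommRingCat.ofHom (algebraMap R j.U)
      naturality := fun i j f => by ext r; exact (f.1.commutes r).symm }
  let s : D ⟶ (Functor.const (EtObj R S)).obj (CommRingCat.of S) :=
    { app := fun j => CommRingCat.ofHom j.hom.toRingHom
      naturality := fun i j f => by ext x; exact AlgHom.congr_fun f.2 x }
  have hsurj : ∀ x : S, ∃ (j : EtObj R S) (y : j.U), x = j.hom y := fun x => by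
    obtain ⟨U, _, _, _, ξ, u, rfl⟩ := h x
    obtain ⟨j, e, he⟩ := exists_obj ξ
    exact ⟨j, e u, (AlgHom.congr_fun he u).symm⟩
  have hinj : ∀ (i : EtObj R S) (x y : i.U), i.hom x = i.hom y → ∃ (k : EtObj R S) (f : i ⟶ k), f.1 x = f.1 y := by
    intro i x y hxy
    haveI := i.etale_U
    obtain ⟨a, ha, ha'⟩ := exists_isUnit_mul_eq_zero i.hom.toRingHom (flat_of_etale_hom i.hom) (x - y)
      (show i.hom (x - y) = 0 by rw [map_sub, hxy, sub_self])
    haveI : Algebra.Etale R (Localization.Away a) := Algebra.Etale.comp R i.U (Localization.Away a)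
    obtain ⟨k, e, he⟩ := exists_obj (IsLocalization.Away.liftAlgHom a (f := i.hom) ha (S := Localization.Away a))
    refine ⟨k, ⟨e.toAlgHom.comp (IsScalarTower.toAlgHom R i.U (Localization.Away a)), ?_⟩, ?_⟩
    · rw [← AlgHom.comp_assoc, he]; ext z; simp
    · show e (algebraMap i.U (Localization.Away a) x) = e (algebraMap i.U (Localization.Away a) y)
      congr 1
      rw [← sub_eq_zero, ← map_sub, IsLocalization.map_eq_zero_iff (Submonoid.powers a)]
      exact ⟨⟨a, Submonoid.mem_powers a⟩, ha'⟩
  have hc : IsColimit (Cocone.mk _ s) :=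
    haveI : PreservesColimitsOfShape (EtObj R S) (forget CommRingCat.{u}) :=
      PreservesFilteredColimitsOfSize.preserves_filtered_colimits _
    haveI : ReflectsColimit D (forget CommRingCat.{u}) := reflectsColimit_of_reflectsIsomorphisms D _
    isColimitOfReflects (forget CommRingCat.{u})
      (Types.FilteredColimit.isColimitOf' _ _ hsurj hinj)
  rw [IndEtLib.isIndEtale_iff]
  refine ⟨EtObj R S, inferInstance, inferInstance, D, t, s, hc, fun j => ⟨?_, ?_⟩⟩
  · haveI := j.etale_U
    exact RingHom.etale_algebraMap.2 inferInstance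
  · ext r
    exact j.hom.commutes r

end

end HenselBranchLib
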