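import Groth.Agent.HenselBranchLib.NbhdCount
import Groth.Agent.BirUnibLib.Local
import Groth.Agent.S0538
import Groth.Agent.S0540
import Mathlib.RingTheory.Ideal.KrullsHeightTheorem
import Mathlib.Topology.Connected.Basic

/-! Geometric unibranchness and connected punctured spectra of strict henselizations. -/

set_option autoImplicit false
set_option linter.style.haveILetI false
set_option linter.overlappingInstances false
set_option maxHeartbeats 1000000
set_option backward.isDefEq.respectTransparency false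
universe u

open CategoryTheory AlgebraicGeometry IsLocalRing Topology

namespace HenselBranchLib

noncomputable section

theorem card_minimalPrimes_eq_one_of_prime (S : Type u) [CommRing S] [Nontrivial S] (h : (nilradical S).IsPrime) :
    ENat.card (minimalPrimes S) = 1 := by
  rw [ENat.card_coe_set_eq, Set.encard_eq_one]
  obtain ⟨P, hP⟩ := Ideal.nonempty_minimalPrimes (I := (⊥ : Ideal S)) bot_ne_top
  exact ⟨nilradical S, Set.eq_singleton_iff_unique_mem.2
    ⟨BranchLib.eq_nilradical_of_mem_minimalPrimes hP ▸ hP, fun q hq => BranchLib.eq_nilradical_of_mem_minimalPrimes hq⟩⟩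

theorem isGeomUnibranch_iff_SH (A : Type u) [CommRing A] [IsLocalRing A] :
    CAlg2.IsGeomUnibranch A ↔ (nilradical (HenselLib.SH A)).IsPrime :=
  (Groth.Agent.S2135.result (A := A) (Ash := HenselLib.SH A)).trans (hasUniqueMinimalPrime_iff _)

/-- Below a point over a geometrically unibranch prime there is one minimal prime. -/
theorem minimal_unique_below (A S : Type u) [CommRing A] [IsLocalRing A] [CommRing S] [IsLocalRing S] [Algebra A S]
    [Module.Flat A S] [IsLocalHom (algebraMap A S)] (hcov : ∀ x : S, HenselLib.EtCov (R := A) x)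
    (P : Ideal S) [P.IsPrime]
    (hP : CAlg2.IsGeomUnibranch (Localization.AtPrime (P.comap (algebraMap A S))))
    (P₁ P₂ : Ideal S) (h₁ : P₁ ∈ minimalPrimes S) (h₂ : P₂ ∈ minimalPrimes S) (hle₁ : P₁ ≤ P) (hle₂ : P₂ ≤ P) :
    P₁ = P₂ := by
  classical
  by_contra hne
  obtain ⟨x, hx₁, hx₂⟩ : ∃ x, x ∈ P₁ ∧ x ∉ P₂ := SetLike.not_le_iff_exists.1 fun h =>
    hne (le_antisymm h (h₂.2 ⟨h₁.1.1, bot_le⟩ h))
  haveI : IsLocalization.AtPrime A (maximalIdeal A) := IsLocalization.self fun _ ha => notMem_maximalIdeal.1 ha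
  obtain ⟨E, _, _, q, hq, θ, het, -, ⟨hff, hθA⟩, hθ, -⟩ := exists_nbhd_of_finset (R := A) (maximalIdeal A) A S hcov {x}
  haveI := hq
  haveI := het
  obtain ⟨y, rfl⟩ := hθ x (Finset.mem_singleton_self x)
  letI := θ.toAlgebra
  haveI : Module.FaithfullyFlat (Localization.AtPrime q) S := RingHom.faithfullyFlat_algebraMap_iff.1 hff
  let π := algebraMap E (Localization.AtPrime q)
  let r : Ideal E := (P.comap θ).comap π
  haveI : (P.comap θ).IsPrime := Ideal.IsPrime.comap _
  haveI : r.IsPrime := Ideal.IsPrime.comap _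
  haveI : Module.Flat E (Localization.AtPrime q) := IsLocalization.flat _ q.primeCompl
  have hmin : ∀ Q ∈ minimalPrimes S, Q ≤ P → (Q.comap θ).comap π ∈ minimalPrimes E ∧ (Q.comap θ).comap π ≤ r :=
    fun Q hQ hle => ⟨comap_mem_minimalPrimes_of_flat E (Localization.AtPrime q)
      (comap_mem_minimalPrimes_of_flat (Localization.AtPrime q) S hQ), Ideal.comap_mono (Ideal.comap_mono hle)⟩
  let p := P.comap (algebraMap A S)
  haveI : p.IsPrime := Ideal.IsPrime.comap _
  let S' := HenselLib.SH (Localization.AtPrime p)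
  haveI : HenselianLocalRing S' := Hensel.IsStrictHenselization.henselian (R := Localization.AtPrime p)
  haveI := (Hensel.IsStrictHenselization.isSepClosure (R := Localization.AtPrime p) (S := S')).sep_closed
  haveI : Module.FaithfullyFlat (Localization.AtPrime p) S' := Groth.Agent.S0539.result (Localization.AtPrime p) S'
  letI : Algebra A S' := ((algebraMap (Localization.AtPrime p) S').comp (algebraMap A (Localization.AtPrime p))).toAlgebra
  haveI : IsScalarTower A (Localization.AtPrime p) S' := .of_algebraMap_eq' rfl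
  have hrp : r.comap (algebraMap A E) = p := by
    show ((P.comap θ).comap π).comap (algebraMap A E) = P.comap (algebraMap A S)
    rw [Ideal.comap_comap, Ideal.comap_comap, ← IsScalarTower.algebraMap_eq A E (Localization.AtPrime q)]
    exact congrArg (fun φ => Ideal.comap φ P) hθA
  have hcard := card_nbhd_le (R := A) p (Localization.AtPrime p) S' E r hrp (Or.inr ‹_›)
  rw [card_minimalPrimes_eq_one_of_prime S' ((isGeomUnibranch_iff_SH _).1 hP)] at hcard
  have hprime : (nilradical (Localization.AtPrime r)).IsPrime := by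
    refine BirUnibLib.nilradical_isPrime_of_unique _ fun Q hQ Q' hQ' => ?_
    haveI := (ENat.card_le_one_iff_subsingleton _).1 hcard
    exact congrArg Subtype.val (Subsingleton.elim (⟨Q, hQ⟩ : minimalPrimes (Localization.AtPrime r)) ⟨Q', hQ'⟩)
  have heq : (P₁.comap θ).comap π = (P₂.comap θ).comap π :=
    ((BirUnibLib.minimal_le_iff r _ hprime (hmin P₁ h₁ hle₁).1).1 (hmin P₁ h₁ hle₁).2).trans
      ((BirUnibLib.minimal_le_iff r _ hprime (hmin P₂ h₂ hle₂).1).1 (hmin P₂ h₂ hle₂).2).symm
  have heq' : P₁.comap θ = P₂.comap θ := by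
    rw [← IsLocalization.map_under q.primeCompl (Localization.AtPrime q) (P₁.comap θ),
      ← IsLocalization.map_under q.primeCompl (Localization.AtPrime q) (P₂.comap θ)]
    exact congrArg (Ideal.map π) heq
  exact hx₂ ((heq' ▸ (Ideal.mem_comap.2 hx₁ : y ∈ P₁.comap θ) : y ∈ P₂.comap θ))

/-- Every prime of a strict henselization over the closed point is closed. -/
theorem comap_eq_maximal_iff (A S : Type u) [CommRing A] [IsLocalRing A] [CommRing S] [IsLocalRing S] [Algebra A S]
    [IsLocalHom (algebraMap A S)] [Hensel.IsStrictHenselization A S] (P : Ideal S) [P.IsPrime] :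
    P.comap (algebraMap A S) = maximalIdeal A ↔ P = maximalIdeal S := by
  refine ⟨fun h => le_antisymm (le_maximalIdeal (Ideal.IsPrime.ne_top ‹_›)) ?_, fun h => ?_⟩
  · rw [← Groth.Agent.S0538.result A S]
    exact Ideal.map_le_iff_le_comap.2 h.ge
  · rw [h]
    exact ((IsLocalRing.local_hom_TFAE (algebraMap A S)).out 0 4 :).1 ‹_›

theorem isGeomUnibranch_of_dim_zero (A : Type u) [CommRing A] [IsLocalRing A]
    (h : ∀ p : Ideal A, p.IsPrime → p = maximalIdeal A) : CAlg2.IsGeomUnibranch A := by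
  rw [isGeomUnibranch_iff_SH]
  refine BirUnibLib.nilradical_isPrime_of_unique _ fun P hP P' hP' => ?_
  haveI := hP.1.1
  haveI := hP'.1.1
  rw [(comap_eq_maximal_iff A (HenselLib.SH A) P).1 (h _ (Ideal.IsPrime.comap _)),
    (comap_eq_maximal_iff A (HenselLib.SH A) P').1 (h _ (Ideal.IsPrime.comap _))]

theorem isGeomUnibranch_of_punctured (A : Type u) [CommRing A] [IsLocalRing A] [IsNoetherianRing A]
    (hdim : ∃ p : Ideal A, p.IsPrime ∧ p ≠ maximalIdeal A)
    (hconn : ConnectedSpace ↥({closedPoint (HenselLib.SH A)}ᶜ : Set (PrimeSpectrum (HenselLib.SH A))))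
    (hloc : ∀ (p : Ideal A) [p.IsPrime], p ≠ maximalIdeal A → CAlg2.IsGeomUnibranch (Localization.AtPrime p)) :
    CAlg2.IsGeomUnibranch A := by
  classical
  rw [isGeomUnibranch_iff_SH]
  let S := HenselLib.SH A
  haveI : Module.FaithfullyFlat A S := Groth.Agent.S0539.result A S
  haveI : IsNoetherianRing S := (Groth.Agent.S0540.result A S).1 ‹_›
  obtain ⟨e⟩ := HenselLib.nonempty_algEquiv_SH (R := A) S
  have hcov := HenselLib.etCov_of_algEquiv e (HenselLib.etCov_hens _)
  obtain ⟨p, hp, hpm⟩ := hdim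
  obtain ⟨⟨Pp, hPp'⟩, hPp⟩ := PrimeSpectrum.comap_surjective_of_faithfullyFlat (A := A) (B := S) ⟨p, hp⟩
  haveI := hPp'
  have hPpm : Pp ≠ maximalIdeal S := fun h => hpm
    ((congrArg PrimeSpectrum.asIdeal hPp).symm.trans ((comap_eq_maximal_iff A S Pp).2 h))
  have hminm : ∀ Q ∈ minimalPrimes S, Q ≠ maximalIdeal S := fun Q hQ h =>
    hPpm (le_antisymm (le_maximalIdeal hPp'.ne_top) (h ▸ hQ.2 ⟨hPp', bot_le⟩ (h ▸ le_maximalIdeal hPp'.ne_top)))
  refine BirUnibLib.nilradical_isPrime_of_unique _ fun Q hQ Q' hQ' => by_contra fun hne => ?_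
  let C₁ : Set (PrimeSpectrum S) := PrimeSpectrum.zeroLocus (Q : Set S)
  let C₂ : Set (PrimeSpectrum S) := ⋃ R ∈ minimalPrimes S \ {Q}, PrimeSpectrum.zeroLocus (R : Set S)
  have hC₂ : IsClosed C₂ := ((minimalPrimes.finite_of_isNoetherianRing S).sdiff).isClosed_biUnion fun R _ =>
    PrimeSpectrum.isClosed_zeroLocus _
  have hU := isPreconnected_iff_preconnectedSpace.2 (hconn.toPreconnectedSpace)
  rw [isPreconnected_closed_iff] at hU
  obtain ⟨z, hz, hz₁, hz₂⟩ := hU C₁ C₂ (PrimeSpectrum.isClosed_zeroLocus _) hC₂ (fun z _ => by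
      obtain ⟨R, hR, hle⟩ := Ideal.exists_minimalPrimes_le (I := (⊥ : Ideal S)) (J := z.asIdeal) bot_le
      by_cases h : R = Q
      · exact Or.inl (show Q ≤ z.asIdeal from h ▸ hle)
      · exact Or.inr (Set.mem_iUnion₂.2 ⟨R, ⟨hR, h⟩, hle⟩))
    ⟨⟨Q, hQ.1.1⟩, fun h => hminm Q hQ (congrArg PrimeSpectrum.asIdeal h), le_refl Q⟩
    ⟨⟨Q', hQ'.1.1⟩, fun h => hminm Q' hQ' (congrArg PrimeSpectrum.asIdeal h),
      Set.mem_iUnion₂.2 ⟨Q', ⟨hQ', Ne.symm hne⟩, le_refl Q'⟩⟩
  obtain ⟨R, ⟨hR, hRQ⟩, hRz⟩ := Set.mem_iUnion₂.1 hz₂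
  haveI : (z.asIdeal.comap (algebraMap A S)).IsPrime := Ideal.IsPrime.comap _
  exact hRQ (minimal_unique_below A S hcov z.asIdeal
    (hloc _ fun h => hz (PrimeSpectrum.ext ((comap_eq_maximal_iff A S z.asIdeal).1 h))) R Q hR hQ hRz hz₁)

theorem connectedSpace_punctured (A S : Type u) [CommRing A] [IsLocalRing A] [CommRing S] [IsLocalRing S] [Algebra A S]
    [IsLocalHom (algebraMap A S)] [Hensel.IsStrictHenselization A S] (hA : CAlg2.IsGeomUnibranch A)
    (hdim : ∃ p : Ideal A, p.IsPrime ∧ p ≠ maximalIdeal A) :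
    ConnectedSpace ↥({closedPoint S}ᶜ : Set (PrimeSpectrum S)) := by
  have hnil := (hasUniqueMinimalPrime_iff S).1 ((Groth.Agent.S2135.result (A := A) (Ash := S)).1 hA)
  haveI := hnil
  haveI : Module.FaithfullyFlat A S := Groth.Agent.S0539.result A S
  obtain ⟨p, hp, hpm⟩ := hdim
  obtain ⟨P, hP⟩ := PrimeSpectrum.comap_surjective_of_faithfullyFlat (A := A) (B := S) ⟨p, hp⟩
  haveI := P.isPrime
  let η : PrimeSpectrum S := ⟨nilradical S, hnil⟩
  have hη : η ∈ ({closedPoint S}ᶜ : Set (PrimeSpectrum S)) := fun h => by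
    refine hpm ((congrArg PrimeSpectrum.asIdeal hP).symm.trans ((comap_eq_maximal_iff A S P.asIdeal).2 ?_))
    exact le_antisymm (le_maximalIdeal P.isPrime.ne_top)
      ((congrArg PrimeSpectrum.asIdeal h).ge.trans (nilradical_le_prime P.asIdeal))
  rw [← isConnected_iff_connectedSpace]
  refine ⟨⟨η, hη⟩, isPreconnected_of_forall η fun z hz => ?_⟩
  refine ⟨{closedPoint S}ᶜ ∩ closure {η}, Set.inter_subset_left, ⟨hη, subset_closure rfl⟩, ⟨hz, ?_⟩, ?_⟩
  · haveI := z.isPrime
    exact ((PrimeSpectrum.le_iff_specializes η z).1 (nilradical_le_prime z.asIdeal)).mem_closure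
  · exact isPreconnected_singleton.subset_closure (Set.singleton_subset_iff.2 ⟨hη, subset_closure rfl⟩)
      Set.inter_subset_right

theorem isGeomUnibranch_stalks_iff (X : Scheme.{u}) [IsNoetherian X] :
    (∀ x : X, CAlg2.IsGeomUnibranch (X.presheaf.stalk x)) ↔
      ∀ (x : X), closure ({x} : Set X) ∉ irreducibleComponents X →
        ∀ (Ash : Type u) [CommRing Ash] [IsLocalRing Ash] [Algebra (X.presheaf.stalk x) Ash]
          [IsLocalHom (algebraMap (X.presheaf.stalk x) Ash)]
          [Hensel.IsStrictHenselization (X.presheaf.stalk x) Ash],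
          ConnectedSpace ↥({IsLocalRing.closedPoint Ash}ᶜ : Set (PrimeSpectrum Ash)) := by
  have hgen : ∀ x : X, closure ({x} : Set X) ∈ irreducibleComponents X ↔
      ∀ p : Ideal (X.presheaf.stalk x), p.IsPrime → p = maximalIdeal (X.presheaf.stalk x) := by
    intro x
    obtain ⟨_, ⟨V, hV, rfl⟩, hxV, -⟩ := X.isBasis_affineOpens.exists_subset_of_mem_open (Set.mem_univ x) isOpen_univ
    letI := TopCat.Presheaf.algebra_section_stalk X.presheaf (⟨x, hxV⟩ : V)
    haveI := hV.isLocalization_stalk ⟨x, hxV⟩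
    rw [show closure ({x} : Set X) ∈ irreducibleComponents X ↔ (hV.primeIdealOf ⟨x, hxV⟩).asIdeal ∈ minimalPrimes Γ(X, V)
      from (BirUnibLib.minimalPrimes_iff hV hxV).symm]
    let q := (hV.primeIdealOf ⟨x, hxV⟩).asIdeal
    let ι := algebraMap Γ(X, V) (X.presheaf.stalk x)
    have hmax : (maximalIdeal (X.presheaf.stalk x)).comap ι = q := IsLocalization.AtPrime.comap_maximalIdeal _ q
    constructor
    · intro hq p hp
      haveI := hp
      have h1 : p.comap ι ≤ q := (Ideal.comap_mono (le_maximalIdeal hp.ne_top)).trans hmax.le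
      have h2 := le_antisymm h1 (hq.2 ⟨Ideal.IsPrime.comap _, bot_le⟩ h1)
      rw [← IsLocalization.map_under q.primeCompl (X.presheaf.stalk x) p,
        ← IsLocalization.map_under q.primeCompl (X.presheaf.stalk x) (maximalIdeal (X.presheaf.stalk x))]
      exact congrArg (Ideal.map ι) (h2.trans hmax.symm)
    · intro h
      refine ⟨⟨(hV.primeIdealOf ⟨x, hxV⟩).isPrime, bot_le⟩, fun p hp hle => ?_⟩
      haveI := hp.1
      have hd : Disjoint (q.primeCompl : Set Γ(X, V)) p := Set.disjoint_left.2 fun a ha hap => ha (hle hap)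
      have h1 := h _ (IsLocalization.isPrime_of_isPrime_disjoint q.primeCompl _ p hp.1 hd)
      rw [← IsLocalization.comap_map_of_isPrime_disjoint q.primeCompl (X.presheaf.stalk x) hp.1 hd, h1]
      exact hmax.ge
  constructor
  · intro h x hx Ash _ _ _ _ _
    obtain ⟨p, hp, hpm⟩ : ∃ p : Ideal (X.presheaf.stalk x), p.IsPrime ∧ p ≠ maximalIdeal _ := by
      by_contra hc
      push Not at hc
      exact hx ((hgen x).2 hc)
    exact connectedSpace_punctured (X.presheaf.stalk x) Ash (h x) ⟨p, hp, hpm⟩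
  · intro h x
    obtain ⟨_, ⟨V, hV, rfl⟩, hxV, -⟩ := X.isBasis_affineOpens.exists_subset_of_mem_open (Set.mem_univ x) isOpen_univ
    haveI : IsNoetherianRing Γ(X, V) := IsLocallyNoetherian.component_noetherian ⟨V, hV⟩
    suffices key : ∀ (n : ℕ) (z : X) (hz : z ∈ V), (hV.primeIdealOf ⟨z, hz⟩).asIdeal.height ≤ n →
        CAlg2.IsGeomUnibranch (X.presheaf.stalk z) by
      haveI := (hV.primeIdealOf ⟨x, hxV⟩).isPrime
      obtain ⟨n, hn⟩ := ENat.ne_top_iff_exists.1
        (Ideal.height_ne_top (hV.primeIdealOf ⟨x, hxV⟩).isPrime.ne_top : (hV.primeIdealOf ⟨x, hxV⟩).asIdeal.height ≠ ⊤)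
      exact key n x hxV hn.ge
    intro n
    induction n using Nat.strong_induction_on with
    | h n ih =>
      intro z hz hn
      by_cases hdim : ∀ p : Ideal (X.presheaf.stalk z), p.IsPrime → p = maximalIdeal (X.presheaf.stalk z)
      · exact isGeomUnibranch_of_dim_zero _ hdim
      push Not at hdim
      haveI : IsNoetherianRing (X.presheaf.stalk z) := inferInstance
      refine isGeomUnibranch_of_punctured _ hdim
        (h z (fun hc => by obtain ⟨p, hp, hpm⟩ := hdim; exact hpm ((hgen z).1 hc p hp)) (HenselLib.SH _)) fun p _ hpm => ?_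
      letI := TopCat.Presheaf.algebra_section_stalk X.presheaf (⟨z, hz⟩ : V)
      haveI := hV.isLocalization_stalk ⟨z, hz⟩
      let q := (hV.primeIdealOf ⟨z, hz⟩).asIdeal
      let q' := p.comap (algebraMap Γ(X, V) (X.presheaf.stalk z))
      have hmax : (maximalIdeal (X.presheaf.stalk z)).comap (algebraMap Γ(X, V) (X.presheaf.stalk z)) = q :=
        IsLocalization.AtPrime.comap_maximalIdeal _ q
      haveI : q.IsPrime := (hV.primeIdealOf ⟨z, hz⟩).isPrime
      haveI : q'.IsPrime := Ideal.IsPrime.comap _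
      have hlt : q' < q := lt_of_le_of_ne ((Ideal.comap_mono (le_maximalIdeal (Ideal.IsPrime.ne_top ‹_›))).trans hmax.le) fun he =>
        hpm (by rw [← IsLocalization.map_under q.primeCompl (X.presheaf.stalk z) p,
          ← IsLocalization.map_under q.primeCompl (X.presheaf.stalk z) (maximalIdeal (X.presheaf.stalk z))]
                exact congrArg (Ideal.map _) (he.trans hmax.symm))
      obtain ⟨w, hw, hwq⟩ := BirUnibLib.exists_point hV q'
      have hlt' := Ideal.height_strict_mono_of_isPrime_of_isPrime hlt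
      obtain ⟨m, hm⟩ := ENat.ne_top_iff_exists.1 (Ideal.height_ne_top (Ideal.IsPrime.ne_top ‹q'.IsPrime›) : q'.height ≠ ⊤)
      have hmn : m < n := by
        rw [← hm] at hlt'
        exact_mod_cast hlt'.trans_le hn
      have hw' := ih m hmn w hw (by rw [hwq, ← hm])
      letI := TopCat.Presheaf.algebra_section_stalk X.presheaf (⟨w, hw⟩ : V)
      haveI := hV.isLocalization_stalk ⟨w, hw⟩
      haveI : IsLocalization.AtPrime (Localization.AtPrime p) q' :=
        IsLocalization.isLocalization_isLocalization_atPrime_isLocalization q.primeCompl _ p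
      haveI : IsLocalization.AtPrime (X.presheaf.stalk w) q' := by
        have := hV.isLocalization_stalk ⟨w, hw⟩
        convert this using 2
        exact hwq.symm
      exact BirUnibLib.isGeomUnibranch_of_ringEquiv
        (IsLocalization.algEquiv q'.primeCompl (X.presheaf.stalk w) (Localization.AtPrime p)).toRingEquiv hw'

end

end HenselBranchLib
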