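import Groth.Agent.HenselLib.NilradicalCover
import Groth.Agent.HenselLib.Normal
import Groth.Agent.HensFormalLib.Apps
import Groth.Agent.HensFormalLib.SepClosed
import Groth.Agent.HensFormalLib.Radicial
import Groth.Agent.BranchLib.One
import Groth.Prelude.Def_CAlgX
import Mathlib.RingTheory.TensorProduct.Quotient

/-! Unibranch local rings and the minimal primes of their henselizations. -/

set_option autoImplicit false
set_option linter.style.haveILetI false
set_option maxHeartbeats 1000000
set_option linter.overlappingInstances false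
universe u

open IsLocalRing TensorProduct

namespace HenselBranchLib

noncomputable section

theorem normRed_normal (A : Type u) [CommRing A] [IsDomain (CAlg2.red A)] :
    IsIntegrallyClosed (CAlg2.normRed A) := by
  haveI : IsFractionRing (CAlg2.normRed A) (FractionRing (CAlg2.red A)) := IsFractionRing.of_field _ _ fun z => by
    obtain ⟨a, b, -, rfl⟩ := IsFractionRing.div_surjective (CAlg2.red A) z
    exact ⟨algebraMap _ (CAlg2.normRed A) a, algebraMap _ (CAlg2.normRed A) b, rfl⟩
  exact (isIntegrallyClosed_iff_isIntegrallyClosedIn (FractionRing (CAlg2.red A))).2 inferInstance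

theorem hasUniqueMinimalPrime_iff (S : Type u) [CommRing S] :
    CAlgX.HasUniqueMinimalPrime S ↔ (nilradical S).IsPrime := by
  constructor
  · rintro ⟨p, hp, huniq⟩
    haveI := hp.1.1
    have : nilradical S = p := le_antisymm (nilradical_le_prime p) fun x hx => by
      show x ∈ (⊥ : Ideal S).radical
      rw [← Ideal.sInf_minimalPrimes, Ideal.mem_sInf]
      exact fun {q} hq => (huniq q hq).symm ▸ hx
    rw [this]; exact hp.1.1
  · intro h
    haveI := h
    refine ⟨nilradical S, ⟨⟨h, bot_le⟩, fun q hq _ => ?_⟩,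
      fun q hq => BranchLib.eq_nilradical_of_mem_minimalPrimes hq⟩
    haveI := hq.1
    exact nilradical_le_prime q

variable (A S : Type u) [CommRing A] [IsLocalRing A] [CommRing S] [IsLocalRing S] [Algebra A S]
  [IsLocalHom (algebraMap A S)] [Module.Flat A S]

omit [IsLocalRing A] [IsLocalRing S] [IsLocalHom (algebraMap A S)] [Module.Flat A S] in
theorem etCov_bc (hcov : ∀ x : S, HenselLib.EtCov (R := A) x) (B : Type u) [CommRing B] [Algebra A B]
    (t : B ⊗[A] S) : HenselLib.EtCov (R := B) t := by
  suffices t ∈ HenselLib.etCovSubalgebra B (B ⊗[A] S) from this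
  induction t using TensorProduct.induction_on with
  | zero => exact zero_mem _
  | tmul b s =>
    obtain ⟨U, _, _, _, ξ, u, rfl⟩ := hcov s
    exact ⟨B ⊗[A] U, inferInstance, inferInstance, inferInstance,
      Algebra.TensorProduct.map (AlgHom.id B B) ξ, b ⊗ₜ u, by simp⟩
  | add x y hx hy => exact add_mem hx hy

omit [IsLocalHom (algebraMap A S)] in
theorem isPrime_nilradical (hcov : ∀ x : S, HenselLib.EtCov (R := A) x) [IsDomain (CAlg2.red A)]
    [IsLocalRing (S ⊗[A] CAlg2.normRed A)] : (nilradical S).IsPrime := by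
  let B := CAlg2.normRed A
  haveI := normRed_normal A
  haveI : IsLocalRing (B ⊗[A] S) :=
    (Algebra.TensorProduct.comm A S B).toRingEquiv.isLocalRing
  haveI hd : IsDomain (B ⊗[A] S) := (HenselLib.normal_of_etCov (R := B) (etCov_bc A S hcov B)).1
  let T := S ⊗[A] B
  haveI : IsDomain T := (Algebra.TensorProduct.comm A S B).toMulEquiv.isDomain (B ⊗[A] S)
  have hnil : RingHom.ker (algebraMap S T) = nilradical S := by
    refine le_antisymm (fun z hz => ?_) fun z hz => ((mem_nilradical.1 hz).map (algebraMap S T)).eq_zero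
    rw [← HenselLib.nilradical_map_of_etCov hcov]
    have h1 : (z ⊗ₜ[A] (1 : CAlg2.red A)) = 0 := by
      refine Module.Flat.lTensor_preserves_injective_linearMap (M := S)
        (IsScalarTower.toAlgHom A (CAlg2.red A) B).toLinearMap (fun a b hab => ?_) ?_
      · exact IsFractionRing.injective (CAlg2.red A) (FractionRing (CAlg2.red A)) (congrArg Subtype.val hab)
      · rw [map_zero, LinearMap.lTensor_tmul]
        have : (IsScalarTower.toAlgHom A (CAlg2.red A) B).toLinearMap 1 = 1 :=
          map_one (IsScalarTower.toAlgHom A (CAlg2.red A) B)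
        rw [this]
        exact hz
    have h2 := congrArg (Algebra.TensorProduct.quotIdealMapEquivTensorQuot S (nilradical A)).symm h1
    rw [map_zero] at h2
    exact Ideal.Quotient.eq_zero_iff_mem.1
      ((Algebra.TensorProduct.quotIdealMapEquivTensorQuot_symm_tmul _ _ z 1).symm.trans h2 |> fun e => by simpa using e)
  rw [← hnil]
  exact RingHom.ker_isPrime _

theorem domain_data (hcov : ∀ x : S, HenselLib.EtCov (R := A) x) [HenselianLocalRing S] (h : (nilradical S).IsPrime) :
    IsDomain (CAlg2.red A) ∧ IsLocalRing (CAlg2.normRed A) ∧ IsDomain (S ⊗[A] CAlg2.normRed A) := by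
  haveI := h
  haveI : Module.FaithfullyFlat A S := Module.FaithfullyFlat.of_flat_of_isLocalHom
  have hnil := HenselLib.nilradical_map_of_etCov hcov
  have hA : nilradical A = (nilradical S).comap (algebraMap A S) :=
    le_antisymm (fun a ha => (mem_nilradical.1 ha).map _) fun a ha =>
      mem_nilradical.2 ((IsNilpotent.map_iff (FaithfulSMul.algebraMap_injective A S)).1 (mem_nilradical.1 ha))
  haveI : IsDomain (CAlg2.red A) := (Ideal.Quotient.isDomain_iff_prime _).2 (by rw [hA]; infer_instance)
  haveI : IsDomain (CAlg2.red S) := (Ideal.Quotient.isDomain_iff_prime _).2 h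
  haveI : IsDomain (S ⊗[A] CAlg2.red A) :=
    (((Ideal.quotEquivOfEq hnil.symm).trans
      (Algebra.TensorProduct.quotIdealMapEquivTensorQuot S (nilradical A)).toRingEquiv).symm.toMulEquiv).isDomain
        (CAlg2.red S)
  let K := FractionRing (CAlg2.red A)
  haveI : Nontrivial (S ⊗[A] K) := Module.FaithfullyFlat.lTensor_nontrivial A S K
  haveI : IsDomain (S ⊗[A] K) := HensFormalLib.isDomain_tensor_fractionField (A := A) (Ah := S) (B := CAlg2.red A) K
    (IsFractionRing.injective _ _) fun x => by
      obtain ⟨⟨c, b⟩, hcb⟩ := IsLocalization.surj (nonZeroDivisors (CAlg2.red A)) x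
      exact ⟨b, c, nonZeroDivisors.ne_zero b.2, by rw [mul_comm]; exact hcb⟩
  let B := CAlg2.normRed A
  let ι : B →ₐ[A] K := IsScalarTower.toAlgHom A B K
  haveI hT : IsDomain (S ⊗[A] B) := Function.Injective.isDomain
    (Algebra.TensorProduct.map (AlgHom.id A S) ι).toRingHom
    (Module.Flat.lTensor_preserves_injective_linearMap (M := S) ι.toLinearMap Subtype.val_injective)
  haveI : Algebra.IsIntegral A B := Algebra.IsIntegral.trans (CAlg2.red A)
  haveI : IsLocalRing (S ⊗[A] B) := HensFormalLib.isLocalRing_of_integral_domain S _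
  refine ⟨‹_›, ?_, hT⟩
  haveI : IsLocalRing (B ⊗[A] S) := (Algebra.TensorProduct.comm A S B).toRingEquiv.isLocalRing
  haveI : IsLocalHom (algebraMap B (B ⊗[A] S)) := ⟨fun b hb => by
    by_contra hu
    obtain ⟨M, hM, hbM⟩ := exists_max_ideal_of_mem_nonunits hu
    obtain ⟨P, hP⟩ := PrimeSpectrum.comap_surjective_of_faithfullyFlat (B := B ⊗[A] S) ⟨M, hM.isPrime⟩
    exact P.isPrime.ne_top (Ideal.eq_top_of_isUnit_mem _
      (show algebraMap B (B ⊗[A] S) b ∈ P.asIdeal from (congrArg PrimeSpectrum.asIdeal hP).ge hbM) hb)⟩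
  exact RingHom.domain_isLocalRing (algebraMap B (B ⊗[A] S))

theorem isUnibranch_iff (hcov : ∀ x : S, HenselLib.EtCov (R := A) x) [HenselianLocalRing S]
    (hres : ∀ s : S, ∃ a : A, s - algebraMap A S a ∈ maximalIdeal S) :
    CAlg2.IsUnibranch A ↔ CAlgX.HasUniqueMinimalPrime S := by
  rw [hasUniqueMinimalPrime_iff]
  constructor
  · rintro ⟨hd, hl⟩
    haveI := hd
    haveI := hl
    haveI : Module.FaithfullyFlat A S := Module.FaithfullyFlat.of_flat_of_isLocalHom
    haveI : Algebra.IsIntegral A (CAlg2.normRed A) := Algebra.IsIntegral.trans (CAlg2.red A)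
    haveI : Nontrivial (S ⊗[A] CAlg2.normRed A) := Module.FaithfullyFlat.lTensor_nontrivial A S _
    haveI := HensFormalLib.isLocalRing_tensor A S (CAlg2.normRed A) hres
    exact isPrime_nilradical A S hcov
  · intro h
    obtain ⟨h1, h2, -⟩ := domain_data A S hcov h
    exact ⟨h1, h2⟩

omit [Algebra A S] [IsLocalHom (algebraMap A S)] [Module.Flat A S] in
theorem residue_condition (Ω : Type u) [Field Ω] [IsAlgClosed Ω] [Algebra A Ω]
    (hΩ : ∀ a ∈ maximalIdeal A, algebraMap A Ω a = 0)
    (hsub : ∀ σ τ : CAlg2.normRed A →ₐ[A] Ω, σ = τ) (M : Ideal (CAlg2.normRed A)) [hM : M.IsMaximal] :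
    ∀ x : CAlg2.normRed A ⧸ M, ∃ n : ℕ,
      x ^ (ringExpChar (CAlg2.normRed A ⧸ M)) ^ n ∈ (Brnch.toResidue A ⟨M, hM⟩).range := by
  refine (BranchLib.emb_equiv A ⟨M, hM⟩).2.1 ⟨fun s t => Subtype.ext ?_⟩
  letI : Algebra (ResidueField A) Ω := (Ideal.Quotient.lift (maximalIdeal A) (algebraMap A Ω) hΩ).toAlgebra
  let ι : AlgebraicClosure (ResidueField A) →ₐ[ResidueField A] Ω := IsAlgClosed.lift
  let toΩ : Brnch.Emb A ⟨M, hM⟩ → (CAlg2.normRed A →ₐ[A] Ω) := fun s =>
    { (ι.toRingHom.comp (s.1.comp (Ideal.Quotient.mk M))) with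
      commutes' := fun a => by
        show ι (s.1 (Brnch.toResidue A ⟨M, hM⟩ a)) = _
        rw [show s.1 (Brnch.toResidue A ⟨M, hM⟩ a) = Brnch.toClosure A a from RingHom.congr_fun s.2 a]
        exact ι.commutes (residue A a) }
  refine RingHom.ext fun y => ι.toRingHom.injective ?_
  obtain ⟨x, rfl⟩ := Ideal.Quotient.mk_surjective y
  exact congrFun (congrArg DFunLike.coe (hsub (toΩ s) (toΩ t))) x

theorem isGeomUnibranch_iff (hcov : ∀ x : S, HenselLib.EtCov (R := A) x) [HenselianLocalRing S]
    [IsSepClosed (ResidueField S)] : CAlg2.IsGeomUnibranch A ↔ CAlgX.HasUniqueMinimalPrime S := by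
  haveI : Module.FaithfullyFlat A S := Module.FaithfullyFlat.of_flat_of_isLocalHom
  rw [hasUniqueMinimalPrime_iff]
  constructor
  · intro hA
    haveI := hA.1.1
    haveI := hA.1.2
    haveI : Algebra.IsIntegral A (CAlg2.normRed A) := Algebra.IsIntegral.trans (CAlg2.red A)
    haveI : Nontrivial (S ⊗[A] CAlg2.normRed A) := Module.FaithfullyFlat.lTensor_nontrivial A S _
    obtain ⟨q, hq⟩ := ExpChar.exists (ResidueField A)
    haveI := hq
    haveI := HensFormalLib.isLocalRing_tensor_of_pow A S (CAlg2.normRed A) q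
      fun b => HensFormalLib.residue_pow hA (maximalIdeal _) q b
    exact isPrime_nilradical A S hcov
  · intro h
    obtain ⟨hd, hl, hT⟩ := domain_data A S hcov h
    haveI := hd
    haveI := hl
    haveI := hT
    let B := CAlg2.normRed A
    let T := S ⊗[A] B
    haveI : Algebra.IsIntegral A B := Algebra.IsIntegral.trans (CAlg2.red A)
    haveI : IsLocalRing T := HensFormalLib.isLocalRing_of_integral_domain S T
    haveI : IsLocalHom (algebraMap S T) := HensFormalLib.isLocalHom_of_isIntegral S T
    haveI := (HensFormalLib.sepClosed_residue S T).2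
    let Ω := AlgebraicClosure (ResidueField S)
    let ρ : S →+* Ω := algebraMap S Ω
    letI : Algebra A Ω := (ρ.comp (algebraMap A S)).toAlgebra
    have hρ : ∀ s ∈ maximalIdeal S, ρ s = 0 := fun s hs => by
      show algebraMap S Ω s = 0
      rw [IsScalarTower.algebraMap_apply S (ResidueField S) Ω, ResidueField.algebraMap_eq,
        (residue_eq_zero_iff _).2 hs, map_zero]
    obtain ⟨q, hq⟩ := ExpChar.exists (ResidueField S)
    haveI := hq
    haveI : ExpChar Ω q := expChar_of_injective_ringHom (algebraMap (ResidueField S) Ω).injective q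
    refine ⟨⟨hd, hl⟩, fun M hM => residue_condition A Ω (fun a ha => hρ _ (map_nonunit (algebraMap A S) a ha))
      (fun σ τ => ?_) M⟩
    let ext : (B →ₐ[A] Ω) → (T →ₐ[A] Ω) := fun σ =>
      Algebra.TensorProduct.lift { ρ with commutes' := fun a => rfl } σ fun _ _ => Commute.all _ _
    have hker : ∀ σ, RingHom.ker (ext σ).toRingHom = maximalIdeal T := fun σ => by
      haveI : (RingHom.ker (ext σ).toRingHom).IsPrime := RingHom.ker_isPrime _
      refine IsLocalRing.eq_maximalIdeal (Ideal.isMaximal_of_isIntegral_of_isMaximal_comap (R := S) _ ?_)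
      have h2 : (ext σ).toRingHom.comp (algebraMap S T) = ρ := RingHom.ext fun s => by
        show ext σ (s ⊗ₜ 1) = ρ s
        rw [Algebra.TensorProduct.lift_tmul, map_one, mul_one]; rfl
      rw [RingHom.comap_ker, h2,
        show ρ = (algebraMap (ResidueField S) Ω).comp (residue S) from IsScalarTower.algebraMap_eq S (ResidueField S) Ω,
        RingHom.ker_comp_of_injective _ (algebraMap (ResidueField S) Ω).injective, IsLocalRing.ker_residue]
      exact maximalIdeal.isMaximal S
    refine AlgHom.ext fun x => iterateFrobenius_inj Ω q ?_ ?_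
    · exact (IsPurelyInseparable.pow_mem (ResidueField S) q (residue T (1 ⊗ₜ x))).choose
    obtain ⟨c, hc⟩ := (IsPurelyInseparable.pow_mem (ResidueField S) q (residue T (1 ⊗ₜ x))).choose_spec
    generalize (IsPurelyInseparable.pow_mem (ResidueField S) q (residue T (1 ⊗ₜ x))).choose = n at hc ⊢
    obtain ⟨s, rfl⟩ := residue_surjective c
    rw [ResidueField.algebraMap_residue, ← map_pow] at hc
    have key : ∀ σ, ρ s = ext σ (1 ⊗ₜ x) ^ q ^ n := fun σ => by
      have h3 : algebraMap S T s - (1 ⊗ₜ x) ^ q ^ n ∈ maximalIdeal T :=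
        (residue_eq_zero_iff _).1 (by rw [map_sub, hc, sub_self])
      have h4 := RingHom.mem_ker.1 ((hker σ).ge h3)
      rw [map_sub, map_pow, sub_eq_zero] at h4
      refine Eq.trans ?_ h4
      show ρ s = ext σ (s ⊗ₜ 1)
      rw [Algebra.TensorProduct.lift_tmul, map_one, mul_one]; rfl
    have e1 := key σ
    have e2 := key τ
    rw [Algebra.TensorProduct.lift_tmul, map_one, one_mul] at e1 e2
    rw [iterateFrobenius_def, iterateFrobenius_def, ← e1, ← e2]

theorem reduced_iff_isDomain (hcov : ∀ x : S, HenselLib.EtCov (R := A) x) {P : Prop}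
    (h : P ↔ CAlgX.HasUniqueMinimalPrime S) : (IsReduced A ∧ P) ↔ IsDomain S := by
  haveI : Module.FaithfullyFlat A S := Module.FaithfullyFlat.of_flat_of_isLocalHom
  rw [h, hasUniqueMinimalPrime_iff]
  constructor
  · rintro ⟨hr, hp⟩
    haveI := hr
    haveI := HenselLib.isReduced_of_etCov hcov
    rw [nilradical_eq_zero] at hp
    haveI : IsDomain (S ⧸ (0 : Ideal S)) := (Ideal.Quotient.isDomain_iff_prime _).2 hp
    exact (RingEquiv.quotientBot S).symm.toMulEquiv.isDomain (S ⧸ (⊥ : Ideal S))
  · intro hS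
    refine ⟨isReduced_of_injective (algebraMap A S) (FaithfulSMul.algebraMap_injective A S), ?_⟩
    rw [nilradical_eq_zero]
    exact Ideal.isPrime_bot

end

end HenselBranchLib
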