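import Groth.Agent.HenselBranchLib.EtaleNbhd
import Groth.Agent.HensFormalLib.SmoothBC
import Groth.Agent.S2052
import Groth.Agent.S2135
import Groth.Prelude.Def_Hens2
import Mathlib.AlgebraicGeometry.Morphisms.Etale

/-! Branches and étale neighbourhoods of a point of a scheme. -/

set_option autoImplicit false
set_option linter.style.haveILetI false
set_option linter.overlappingInstances false
set_option maxHeartbeats 1000000
set_option backward.isDefEq.respectTransparency false
universe u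

open CategoryTheory AlgebraicGeometry IsLocalRing Topology

namespace HenselBranchLib

noncomputable section

theorem nilradical_prime_equiv {B S : Type u} [CommRing B] [CommRing S] (e : B ≃+* S) :
    (nilradical B).IsPrime ↔ (nilradical S).IsPrime :=
  ⟨nilradical_prime_of_injective e.symm.toRingHom e.symm.injective, nilradical_prime_of_injective e.toRingHom e.injective⟩

theorem prime_iff_unique_minimal {E : Type u} [CommRing E] (q : Ideal E) [q.IsPrime] (L : Type u) [CommRing L]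
    [IsLocalRing L] [Algebra E L] [IsLocalization.AtPrime L q] :
    (nilradical L).IsPrime ↔ ∀ ω ∈ minimalPrimes E, ω ≤ q → ∀ ω' ∈ minimalPrimes E, ω' ≤ q → ω = ω' := by
  constructor
  · intro h ω hω hle ω' hω' hle'
    rw [(BirUnibLib.minimal_le_iff q L h hω).1 hle, (BirUnibLib.minimal_le_iff q L h hω').1 hle']
  · intro h
    refine BirUnibLib.nilradical_isPrime_of_unique L fun P hP P' hP' => ?_
    have key : ∀ P ∈ minimalPrimes L, P.comap (algebraMap E L) ∈ minimalPrimes E ∧ P.comap (algebraMap E L) ≤ q := by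
      intro P hP
      haveI := hP.1.1
      refine ⟨⟨⟨inferInstance, bot_le⟩, fun p hp hle => ?_⟩, ?_⟩
      · haveI := hp.1
        have hd : Disjoint (q.primeCompl : Set E) p := Set.disjoint_left.2 fun x hx hxp =>
          ((IsLocalization.isPrime_iff_isPrime_disjoint q.primeCompl L P).1 ‹_›).2.le_bot ⟨hx, hle hxp⟩
        have h2 := IsLocalization.isPrime_of_isPrime_disjoint q.primeCompl L p ‹_› hd
        have h4 := hP.2 ⟨h2, bot_le⟩ (Ideal.map_le_iff_le_comap.2 hle)
        rw [← IsLocalization.comap_map_of_isPrime_disjoint q.primeCompl L ‹p.IsPrime› hd]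
        exact Ideal.comap_mono h4
      · rw [← IsLocalization.AtPrime.comap_maximalIdeal L q]
        exact Ideal.comap_mono (IsLocalRing.le_maximalIdeal hP.1.1.ne_top)
    rw [← IsLocalization.map_under q.primeCompl L P, ← IsLocalization.map_under q.primeCompl L P']
    exact congrArg (Ideal.map (algebraMap E L)) (h _ (key P hP).1 (key P hP).2 _ (key P' hP').1 (key P' hP').2)

theorem encard_components_iff (U : Scheme.{u}) (u : U) :
    {Z : Set U | Z ∈ irreducibleComponents U ∧ u ∈ Z}.encard = 1 ↔ (nilradical (U.presheaf.stalk u)).IsPrime := by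
  obtain ⟨_, ⟨W, hW, rfl⟩, huW, -⟩ := U.isBasis_affineOpens.exists_subset_of_mem_open (Set.mem_univ u) isOpen_univ
  letI := TopCat.Presheaf.algebra_section_stalk U.presheaf (⟨u, huW⟩ : W)
  haveI := hW.isLocalization_stalk ⟨u, huW⟩
  rw [prime_iff_unique_minimal (hW.primeIdealOf ⟨u, huW⟩).asIdeal (U.presheaf.stalk u), Set.encard_eq_one]
  constructor
  · rintro ⟨Z, hZ⟩ ω hω hle ω' hω' hle'
    have key : ∀ ω ∈ minimalPrimes Γ(U, W), ω ≤ (hW.primeIdealOf ⟨u, huW⟩).asIdeal →
        ∃ (η : U) (hη : η ∈ W), (hW.primeIdealOf ⟨η, hη⟩).asIdeal = ω ∧ closure {η} = Z := by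
      intro ω hω hle
      haveI := hω.1.1
      obtain ⟨η, hη, rfl⟩ := BirUnibLib.exists_point hW ω
      refine ⟨η, hη, rfl, ?_⟩
      have h1 : closure {η} ∈ {Z : Set U | Z ∈ irreducibleComponents U ∧ u ∈ Z} :=
        ⟨(BirUnibLib.minimalPrimes_iff hW hη).1 hω, ((BirUnibLib.le_iff_specializes hW hη huW).1 hle).mem_closure⟩
      rwa [hZ, Set.mem_singleton_iff] at h1
    obtain ⟨η, hη, rfl, h1⟩ := key ω hω hle
    obtain ⟨η', hη', rfl, h2⟩ := key ω' hω' hle'
    obtain rfl : η = η' := (inseparable_iff_closure_eq.2 (h1.trans h2.symm)).eq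
    rfl
  · intro h
    have key : ∀ Z ∈ {Z : Set U | Z ∈ irreducibleComponents U ∧ u ∈ Z},
        ∃ (η : U) (hη : η ∈ W), closure {η} = Z ∧ (hW.primeIdealOf ⟨η, hη⟩).asIdeal ∈ minimalPrimes Γ(U, W) ∧
          (hW.primeIdealOf ⟨η, hη⟩).asIdeal ≤ (hW.primeIdealOf ⟨u, huW⟩).asIdeal := by
      rintro Z ⟨hZ, huZ⟩
      obtain ⟨η, hη⟩ := QuasiSober.sober hZ.1 (isClosed_of_mem_irreducibleComponents Z hZ)
      have hs : η ⤳ u := hη.specializes huZ
      have hηW : η ∈ W := hs.mem_open W.2 huW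
      refine ⟨η, hηW, hη.def, (BirUnibLib.minimalPrimes_iff hW hηW).2 ?_, (BirUnibLib.le_iff_specializes hW hηW huW).2 hs⟩
      show closure {η} ∈ irreducibleComponents U
      rw [hη.def]; exact hZ
    let η₀ := irreducibleComponent u
    refine ⟨η₀, Set.eq_singleton_iff_unique_mem.2 ⟨⟨irreducibleComponent_mem_irreducibleComponents u,
      mem_irreducibleComponent⟩, fun Z hZ => ?_⟩⟩
    obtain ⟨η, hη, rfl, h1, h2⟩ := key Z hZ
    obtain ⟨η', hη', e', h1', h2'⟩ := key η₀ ⟨irreducibleComponent_mem_irreducibleComponents u, mem_irreducibleComponent⟩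
    obtain rfl := BirUnibLib.point_inj hW hη hη' (h _ h1 h2 _ h1' h2')
    exact e'

theorem stalk_spec_iff {E : Type u} [CommRing E] (q : PrimeSpectrum E) :
    (nilradical ((Spec (CommRingCat.of E)).presheaf.stalk (q : Spec (CommRingCat.of E)))).IsPrime ↔
      (nilradical (Localization.AtPrime q.asIdeal)).IsPrime := by
  letI : Algebra E ((Spec (CommRingCat.of E)).presheaf.stalk (q : Spec (CommRingCat.of E))) := StructureSheaf.stalkAlgebra E q
  haveI : IsLocalization.AtPrime ((Spec (CommRingCat.of E)).presheaf.stalk (q : Spec (CommRingCat.of E))) q.asIdeal :=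
    StructureSheaf.IsLocalization.to_stalk E q
  exact nilradical_prime_equiv (IsLocalization.algEquiv q.asIdeal.primeCompl
    ((Spec (CommRingCat.of E)).presheaf.stalk (q : Spec (CommRingCat.of E))) (Localization.AtPrime q.asIdeal)).toRingEquiv

theorem isFrac_of_bijective {X U : Scheme.{u}} (g : U ⟶ X) {V : X.Opens} (hV : IsAffineOpen V) {W : U.Opens}
    (hW : IsAffineOpen W) (hWV : W ≤ g ⁻¹ᵁ V) {u : U} (hu : u ∈ W) (hb : Function.Bijective (g.residueFieldMap u)) :
    ApproxLib.IsFrac (g.appLE V W hWV).hom (hW.primeIdealOf ⟨u, hu⟩).asIdeal := by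
  intro e
  letI := TopCat.Presheaf.algebra_section_stalk X.presheaf (⟨g u, hWV hu⟩ : V)
  haveI := hV.isLocalization_stalk ⟨g u, hWV hu⟩
  letI := TopCat.Presheaf.algebra_section_stalk U.presheaf (⟨u, hu⟩ : W)
  haveI := hW.isLocalization_stalk ⟨u, hu⟩
  obtain ⟨z, hz⟩ := hb.2 (U.residue u (U.presheaf.germ W u hu e))
  obtain ⟨c, rfl⟩ := Ideal.Quotient.mk_surjective z
  obtain ⟨⟨a, s⟩, hc⟩ := IsLocalization.surj (hV.primeIdealOf ⟨g u, hWV hu⟩).asIdeal.primeCompl c
  have hcomap : Ideal.comap (g.appLE V W hWV).hom (hW.primeIdealOf ⟨u, hu⟩).asIdeal =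
      (hV.primeIdealOf ⟨g u, hWV hu⟩).asIdeal :=
    congrArg PrimeSpectrum.asIdeal (IsAffineOpen.comap_primeIdealOf_appLE (f := g) V hV W hW hWV hu)
  refine ⟨a, s, fun h => s.2 (hcomap.le h), ?_⟩
  rw [← IsLocalization.AtPrime.to_map_mem_maximal_iff (U.presheaf.stalk u) (hW.primeIdealOf ⟨u, hu⟩).asIdeal,
    ← IsLocalRing.residue_eq_zero_iff, map_sub, map_mul, map_sub, map_mul, sub_eq_zero]
  have key : ∀ r : Γ(X, V), U.residue u (U.presheaf.germ W u hu ((g.appLE V W hWV) r)) =
      g.residueFieldMap u (X.residue (g u) (X.presheaf.germ V (g u) (hWV hu) r)) := fun r => by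
    rw [Scheme.Hom.appLE, CommRingCat.comp_apply, TopCat.Presheaf.germ_res_apply, ← Scheme.Hom.germ_stalkMap_apply]
    exact (congr($(Scheme.residue_residueFieldMap g u) _)).symm
  change U.residue u (U.presheaf.germ W u hu e) * U.residue u (U.presheaf.germ W u hu (g.appLE V W hWV s.1)) =
    U.residue u (U.presheaf.germ W u hu (g.appLE V W hWV a))
  rw [key, key, ← hz, ← map_mul]
  refine congrArg (g.residueFieldMap u).hom ?_
  change IsLocalRing.residue _ c * IsLocalRing.residue _ _ = IsLocalRing.residue _ _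
  rw [← map_mul]
  exact congrArg _ hc

theorem isUnibranch_stalk_iff (X : Scheme.{u}) (x : X) : CAlg2.IsUnibranch (X.presheaf.stalk x) ↔
    ∀ (U : Scheme.{u}) (g : U ⟶ X) (u : U), Hens2.IsEtaleNbhd g u x →
      {Z : Set U | Z ∈ irreducibleComponents U ∧ u ∈ Z}.encard = 1 := by
  obtain ⟨_, ⟨V, hV, rfl⟩, hxV, -⟩ := X.isBasis_affineOpens.exists_subset_of_mem_open (Set.mem_univ x) isOpen_univ
  let R := Γ(X, V)
  let A : Type u := X.presheaf.stalk x
  letI : Algebra R A := TopCat.Presheaf.algebra_section_stalk X.presheaf (⟨x, hxV⟩ : V)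
  haveI : IsLocalization.AtPrime A (hV.primeIdealOf ⟨x, hxV⟩).asIdeal := hV.isLocalization_stalk ⟨x, hxV⟩
  let S := HenselLib.HR A
  haveI : HenselianLocalRing S := Hensel.IsHenselization.henselian (R := A)
  haveI : Module.FaithfullyFlat A S := Groth.Agent.S0509.result A S
  have hUB : CAlg2.IsUnibranch A ↔ (nilradical S).IsPrime :=
    (Groth.Agent.S2052.result (A := A) (Ah := S)).trans (hasUniqueMinimalPrime_iff S)
  refine hUB.trans ⟨fun hS U g u hgu => ?_, fun h => ?_⟩
  · obtain ⟨het, hgx, hb⟩ := hgu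
    haveI := het
    obtain ⟨_, ⟨W, hW, rfl⟩, huW, hWV⟩ := U.isBasis_affineOpens.exists_subset_of_mem_open
      (show u ∈ g ⁻¹ᵁ V by show g u ∈ V; rw [show g u = x from hgx]; exact hxV) (g ⁻¹ᵁ V).2
    rw [encard_components_iff]
    letI : Algebra R Γ(U, W) := (g.appLE V W hWV).hom.toAlgebra
    haveI : Algebra.Etale R Γ(U, W) :=
      RingHom.etale_algebraMap.1 (HasRingHomProperty.appLE @Etale g inferInstance ⟨V, hV⟩ ⟨W, hW⟩ hWV)
    letI : Algebra R S := ((algebraMap A S).comp (algebraMap R A)).toAlgebra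
    haveI : IsScalarTower R A S := .of_algebraMap_eq' rfl
    have hqm : Ideal.comap (algebraMap R Γ(U, W)) (hW.primeIdealOf ⟨u, huW⟩).asIdeal = (hV.primeIdealOf ⟨x, hxV⟩).asIdeal := by
      rw [show Ideal.comap (algebraMap R Γ(U, W)) (hW.primeIdealOf ⟨u, huW⟩).asIdeal = (hV.primeIdealOf ⟨g u, hWV huW⟩).asIdeal
        from congrArg PrimeSpectrum.asIdeal (IsAffineOpen.comap_primeIdealOf_appLE (f := g) V hV W hW hWV huW)]
      subst hgx
      rfl
    have h1 := nilradical_prime_of_nbhd (hV.primeIdealOf ⟨x, hxV⟩).asIdeal A S hS Γ(U, W)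
      (hW.primeIdealOf ⟨u, huW⟩).asIdeal hqm (isFrac_of_bijective g hV hW hWV huW hb)
    letI := TopCat.Presheaf.algebra_section_stalk U.presheaf (⟨u, huW⟩ : W)
    haveI := hW.isLocalization_stalk ⟨u, huW⟩
    exact (nilradical_prime_equiv (IsLocalization.algEquiv (hW.primeIdealOf ⟨u, huW⟩).asIdeal.primeCompl
      (U.presheaf.stalk u) (Localization.AtPrime (hW.primeIdealOf ⟨u, huW⟩).asIdeal)).toRingEquiv).2 h1
  · by_contra hS
    obtain ⟨e⟩ := HenselLib.nonempty_algEquiv_HR (R := A) S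
    have hcov := HenselLib.etCov_of_algEquiv e (HenselLib.etCov_hens _)
    have hres : ∀ s : S, ∃ a : A, s - algebraMap A S a ∈ maximalIdeal S := fun s => by
      obtain ⟨c, hc⟩ := (Groth.Agent.S0508.result A S).2 (residue S s)
      obtain ⟨a, rfl⟩ := residue_surjective c
      exact ⟨a, (residue_eq_zero_iff _).1 (by rw [map_sub, ← hc]; exact sub_self _)⟩
    obtain ⟨E, _, _, q, hq, het, hqm, hbad, hfr⟩ :=
      exists_bad_nbhd (hV.primeIdealOf ⟨x, hxV⟩).asIdeal A S hcov hS
    let φ : Γ(X, V) ⟶ CommRingCat.of E := CommRingCat.ofHom (algebraMap R E)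
    haveI : Etale (Spec.map φ) := (HasRingHomProperty.Spec_iff (P := @Etale)).2 (RingHom.etale_algebraMap.2 het)
    let g := Spec.map φ ≫ hV.fromSpec
    let v : Spec (CommRingCat.of E) := ⟨q, hq⟩
    have hgx : g v = x := by
      show hV.fromSpec ((Spec.map φ) v) = x
      rw [show (Spec.map φ) v = hV.primeIdealOf ⟨x, hxV⟩ from PrimeSpectrum.ext hqm]
      exact hV.fromSpec_primeIdealOf ⟨x, hxV⟩
    have h1 := h _ g v ⟨inferInstance, hgx, ApproxLib.residueFieldMap_bijective_of_isFrac hV φ v (hfr hres)⟩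
    rw [encard_components_iff] at h1
    exact hbad ((stalk_spec_iff (⟨q, hq⟩ : PrimeSpectrum E)).1 h1)

theorem isGeomUnibranch_stalk_iff_etale (X : Scheme.{u}) (x : X) : CAlg2.IsGeomUnibranch (X.presheaf.stalk x) ↔
    ∀ (U : Scheme.{u}) (g : U ⟶ X) (u : U), Etale g → g u = x →
      {Z : Set U | Z ∈ irreducibleComponents U ∧ u ∈ Z}.encard = 1 := by
  constructor
  · intro h U g u het hgu
    haveI := het
    subst hgu
    rw [encard_components_iff]
    exact (Ideal.Quotient.isDomain_iff_prime _).1 (HensFormalLib.geomUnibranch_stalk_of_smooth g u h).1.1.1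
  · intro h
    obtain ⟨_, ⟨V, hV, rfl⟩, hxV, -⟩ := X.isBasis_affineOpens.exists_subset_of_mem_open (Set.mem_univ x) isOpen_univ
    let R := Γ(X, V)
    let A : Type u := X.presheaf.stalk x
    letI : Algebra R A := TopCat.Presheaf.algebra_section_stalk X.presheaf (⟨x, hxV⟩ : V)
    haveI : IsLocalization.AtPrime A (hV.primeIdealOf ⟨x, hxV⟩).asIdeal := hV.isLocalization_stalk ⟨x, hxV⟩
    let S := HenselLib.SH A
    haveI : Module.FaithfullyFlat A S := Groth.Agent.S0539.result A S
    show CAlg2.IsGeomUnibranch A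
    rw [Groth.Agent.S2135.result (A := A) (Ash := S), hasUniqueMinimalPrime_iff]
    by_contra hS
    obtain ⟨e⟩ := HenselLib.nonempty_algEquiv_SH (R := A) S
    have hcov := HenselLib.etCov_of_algEquiv e (HenselLib.etCov_hens _)
    obtain ⟨E, _, _, q, hq, het, hqm, hbad, -⟩ :=
      exists_bad_nbhd (hV.primeIdealOf ⟨x, hxV⟩).asIdeal A S hcov hS
    let φ : Γ(X, V) ⟶ CommRingCat.of E := CommRingCat.ofHom (algebraMap R E)
    haveI : Etale (Spec.map φ) := (HasRingHomProperty.Spec_iff (P := @Etale)).2 (RingHom.etale_algebraMap.2 het)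
    have hgx : (Spec.map φ ≫ hV.fromSpec) (⟨q, hq⟩ : Spec (CommRingCat.of E)) = x := by
      show hV.fromSpec ((Spec.map φ) (⟨q, hq⟩ : Spec (CommRingCat.of E))) = x
      rw [show (Spec.map φ) (⟨q, hq⟩ : Spec (CommRingCat.of E)) = hV.primeIdealOf ⟨x, hxV⟩ from PrimeSpectrum.ext hqm]
      exact hV.fromSpec_primeIdealOf ⟨x, hxV⟩
    have h1 := h _ _ _ inferInstance hgx
    rw [encard_components_iff] at h1
    exact hbad ((stalk_spec_iff (⟨q, hq⟩ : PrimeSpectrum E)).1 h1)

end

end HenselBranchLib
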