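import Groth.Agent.HenselBranchLib.NormTensor
import Mathlib.FieldTheory.IsSepClosed
import Mathlib.FieldTheory.PurelyInseparable.Basic
import Mathlib.RingTheory.Flat.FaithfullyFlat.Algebra

/-! The number of minimal primes of a (strict) henselization is the number of (geometric) branches. -/

set_option autoImplicit false
set_option linter.style.haveILetI false
set_option linter.overlappingInstances false
set_option maxHeartbeats 1000000
set_option synthInstance.maxHeartbeats 400000
set_option backward.isDefEq.respectTransparency false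
universe u

open IsLocalRing TensorProduct

namespace HenselBranchLib

noncomputable section

variable (A S : Type u) [CommRing A] [IsLocalRing A] [CommRing S] [IsLocalRing S] [Algebra A S]
  [IsLocalHom (algebraMap A S)] [Module.Flat A S] (B : Type u) [CommRing B] [Algebra A B] [Algebra.IsIntegral A B]

local notation "T" => B ⊗[A] S

attribute [local instance] Algebra.TensorProduct.rightAlgebra

omit [IsLocalHom (algebraMap A S)] [Module.Flat A S] [IsLocalRing A] in
theorem comap_maximal (M : MaximalSpectrum T) : Ideal.comap (algebraMap S T) M.asIdeal = maximalIdeal S := by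
  haveI := M.isMaximal
  haveI := isIntegral_normTensor A S B
  exact IsLocalRing.eq_maximalIdeal (Ideal.isMaximal_comap_of_isIntegral_of_isMaximal (R := S) M.asIdeal)

/-- Trivial residue extension: maximal ideals upstairs and downstairs correspond. -/
theorem nonempty_equiv_of_residue (hres : ∀ s : S, ∃ a : A, s - algebraMap A S a ∈ maximalIdeal S) :
    Nonempty (MaximalSpectrum T ≃ MaximalSpectrum B) := by
  haveI := isIntegral_normTensor A S B
  have hmax : ∀ M : MaximalSpectrum T, (Ideal.comap (algebraMap B T) M.asIdeal).IsMaximal := fun M => by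
    haveI := M.isMaximal
    refine Ideal.isMaximal_of_isIntegral_of_isMaximal_comap (R := A) _ ?_
    have hAS : (maximalIdeal S).comap (algebraMap A S) = maximalIdeal A :=
      ((IsLocalRing.local_hom_TFAE (algebraMap A S)).out 0 4 :).1 ‹_›
    rw [Ideal.comap_comap, ← IsScalarTower.algebraMap_eq, IsScalarTower.algebraMap_eq A S T, ← Ideal.comap_comap,
      comap_maximal A S B M, hAS]
    exact maximalIdeal.isMaximal A
  let f : MaximalSpectrum T → MaximalSpectrum B := fun M => ⟨Ideal.comap (algebraMap B T) M.asIdeal, hmax M⟩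
  have happrox : ∀ t : T, ∃ b : B, ∀ M : MaximalSpectrum T, t - algebraMap B T b ∈ M.asIdeal := fun t => by
    induction t using TensorProduct.induction_on with
    | zero => exact ⟨0, fun M => by simp⟩
    | tmul b s =>
      obtain ⟨a, ha⟩ := hres s
      refine ⟨a • b, fun M => ?_⟩
      have h1 : algebraMap S T (s - algebraMap A S a) ∈ M.asIdeal := (comap_maximal A S B M).ge ha
      have h2 := M.asIdeal.mul_mem_left (b ⊗ₜ[A] (1 : S)) h1
      rw [Algebra.TensorProduct.right_algebraMap_apply, Algebra.TensorProduct.tmul_mul_tmul, one_mul, mul_one,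
        tmul_sub, Algebra.algebraMap_eq_smul_one, tmul_smul, smul_tmul'] at h2
      exact h2
    | add x y hx hy =>
      obtain ⟨b, hb⟩ := hx
      obtain ⟨b', hb'⟩ := hy
      exact ⟨b + b', fun M => by rw [map_add, add_sub_add_comm]; exact M.asIdeal.add_mem (hb M) (hb' M)⟩
  refine ⟨Equiv.ofBijective f ⟨fun M M' e => MaximalSpectrum.ext ?_, fun n => ?_⟩⟩
  · have e' : Ideal.comap (algebraMap B T) M.asIdeal = Ideal.comap (algebraMap B T) M'.asIdeal :=
      congrArg MaximalSpectrum.asIdeal e
    ext t
    obtain ⟨b, hb⟩ := happrox t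
    have h : ∀ N : MaximalSpectrum T, t ∈ N.asIdeal ↔ b ∈ Ideal.comap (algebraMap B T) N.asIdeal := fun N =>
      ⟨fun ht => by simpa using N.asIdeal.sub_mem ht (hb N),
        fun hb' => by simpa using N.asIdeal.add_mem (hb N) (Ideal.mem_comap.1 hb')⟩
    rw [h M, h M', e']
  · haveI : Module.FaithfullyFlat A S := Module.FaithfullyFlat.of_flat_of_isLocalHom
    haveI := n.isMaximal
    obtain ⟨P, hP⟩ := PrimeSpectrum.comap_surjective_of_faithfullyFlat (A := B) (B := T) ⟨n.asIdeal, n.isMaximal.isPrime⟩
    obtain ⟨M, hM, hPM⟩ := Ideal.exists_le_maximal P.asIdeal P.isPrime.ne_top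
    refine ⟨⟨M, hM⟩, MaximalSpectrum.ext (n.isMaximal.eq_of_le (hmax ⟨M, hM⟩).ne_top ?_).symm⟩
    exact (congrArg PrimeSpectrum.asIdeal hP).ge.trans (Ideal.comap_mono hPM)

/-- Separably closed residue field: maximal ideals upstairs are homomorphisms to an algebraic closure. -/
theorem nonempty_equiv_hom [IsSepClosed (ResidueField S)] (Ω : Type u) [Field Ω] [IsAlgClosed Ω] [Algebra A Ω]
    (ι : ResidueField S →+* Ω) (hι : ∀ a, ι (residue S (algebraMap A S a)) = algebraMap A Ω a) :
    Nonempty (MaximalSpectrum T ≃ (B →ₐ[A] Ω)) := by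
  haveI := isIntegral_normTensor A S B
  let ιA : S →ₐ[A] Ω := { (ι.comp (residue S)) with commutes' := hι }
  let ext' : (B →ₐ[A] Ω) → (T →ₐ[A] Ω) := fun σ => Algebra.TensorProduct.lift σ ιA fun _ _ => Commute.all _ _
  have hS : ∀ σ s, ext' σ (algebraMap S T s) = ι (residue S s) := fun σ s => by
    rw [Algebra.TensorProduct.right_algebraMap_apply]
    simp [ext', ιA]
  have hker : ∀ σ, (RingHom.ker (ext' σ)).IsMaximal := fun σ => by
    haveI : (RingHom.ker (ext' σ)).IsPrime := RingHom.ker_isPrime _
    refine Ideal.isMaximal_of_isIntegral_of_isMaximal_comap (R := S) _ ?_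
    rw [show (RingHom.ker (ext' σ)).comap (algebraMap S T) = maximalIdeal S from ?_]
    · exact maximalIdeal.isMaximal S
    · ext s
      rw [Ideal.mem_comap, RingHom.mem_ker, hS, map_eq_zero, residue_eq_zero_iff]
  let g : (B →ₐ[A] Ω) → MaximalSpectrum T := fun σ => ⟨_, hker σ⟩
  refine ⟨(Equiv.ofBijective g ⟨fun σ σ' e => ?_, fun M => ?_⟩).symm⟩
  · have e' : RingHom.ker (ext' σ) = RingHom.ker (ext' σ') := congrArg MaximalSpectrum.asIdeal e
    let M := RingHom.ker (ext' σ)
    haveI : M.IsMaximal := hker σ
    letI := Ideal.Quotient.field M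
    have hM : Ideal.comap (algebraMap S T) M = maximalIdeal S := comap_maximal A S B ⟨M, ‹_›⟩
    letI : Algebra (ResidueField S) (T ⧸ M) :=
      (Ideal.Quotient.lift (maximalIdeal S) ((Ideal.Quotient.mk M).comp (algebraMap S T))
        fun s hs => Ideal.Quotient.eq_zero_iff_mem.2 (hM.ge hs)).toAlgebra
    haveI : Algebra.IsIntegral (ResidueField S) (T ⧸ M) := ⟨fun z => by
      obtain ⟨t, rfl⟩ := Ideal.Quotient.mk_surjective z
      obtain ⟨p, hp, hpt⟩ := Algebra.IsIntegral.isIntegral (R := S) t
      refine ⟨p.map (residue S), hp.map _, ?_⟩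
      rw [Polynomial.eval₂_map, show (algebraMap (ResidueField S) (T ⧸ M)).comp (residue S) =
        (Ideal.Quotient.mk M).comp (algebraMap S T) from rfl, ← Polynomial.hom_eval₂, hpt, map_zero]⟩
    haveI : Algebra.IsAlgebraic (ResidueField S) (T ⧸ M) := Algebra.IsIntegral.isAlgebraic
    haveI : IsPurelyInseparable (ResidueField S) (T ⧸ M) := inferInstance
    let ψ := Ideal.Quotient.lift M (ext' σ).toRingHom fun t ht => ht
    let ψ' := Ideal.Quotient.lift M (ext' σ').toRingHom fun t ht => e'.le ht
    have hψ : ψ = ψ' := by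
      refine IsPurelyInseparable.injective_comp_algebraMap (ResidueField S) (T ⧸ M) _ ?_
      refine RingHom.ext fun z => ?_
      obtain ⟨s, rfl⟩ := residue_surjective z
      exact (hS σ s).trans (hS σ' s).symm
    refine AlgHom.ext fun b => ?_
    have := RingHom.congr_fun hψ (Ideal.Quotient.mk M (b ⊗ₜ 1))
    simpa [ψ, ψ', ext'] using this
  · haveI := M.isMaximal
    letI := Ideal.Quotient.field M.asIdeal
    haveI : Algebra.IsIntegral S (T ⧸ M.asIdeal) := ⟨fun z => by
      obtain ⟨t, rfl⟩ := Ideal.Quotient.mk_surjective z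
      exact (Algebra.IsIntegral.isIntegral (R := S) t).map (IsScalarTower.toAlgHom S T (T ⧸ M.asIdeal))⟩
    obtain ⟨ψ, hψ⟩ := HensFormalLib.exists_lift_algClosed S (T ⧸ M.asIdeal) Ω (ι.comp (residue S)) (fun s hs => by
      have h1 : s ∈ maximalIdeal S := (comap_maximal A S B M).le (Ideal.mem_comap.2 (Ideal.Quotient.eq_zero_iff_mem.1 (RingHom.mem_ker.1 hs)))
      rw [RingHom.mem_ker, RingHom.comp_apply, (residue_eq_zero_iff _).2 h1, map_zero])
    let Ψ : T →+* Ω := ψ.comp (Ideal.Quotient.mk M.asIdeal)
    have hΨ : ∀ s, Ψ (algebraMap S T s) = ι (residue S s) := fun s => hψ s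
    let σ : B →ₐ[A] Ω := { Ψ.comp (algebraMap B T) with
      commutes' := fun a => by
        show Ψ (algebraMap B T (algebraMap A B a)) = _
        rw [← IsScalarTower.algebraMap_apply, IsScalarTower.algebraMap_apply A S T, hΨ, hι] }
    refine ⟨σ, MaximalSpectrum.ext ?_⟩
    have heq : (ext' σ).toRingHom = Ψ := by
      refine RingHom.ext fun t => ?_
      induction t using TensorProduct.induction_on with
      | zero => simp
      | tmul b s =>
        show ext' σ (b ⊗ₜ s) = Ψ (b ⊗ₜ s)
        have h2 : (b ⊗ₜ[A] s : T) = algebraMap B T b * algebraMap S T s := by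
          rw [Algebra.TensorProduct.right_algebraMap_apply, Algebra.TensorProduct.algebraMap_apply,
            Algebra.TensorProduct.tmul_mul_tmul, mul_one, one_mul]
          rfl
        rw [h2, map_mul, map_mul, hS, hΨ]
        congr 1
        simp [ext', σ, Algebra.TensorProduct.algebraMap_apply]
      | add x y hx hy => rw [map_add, map_add, hx, hy]
    show RingHom.ker (ext' σ).toRingHom = M.asIdeal
    rw [heq, ← RingHom.comap_ker, (RingHom.injective_iff_ker_eq_bot ψ).1 ψ.injective, ← RingHom.ker_eq_comap_bot,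
      Ideal.mk_ker]

theorem infinite_minimalPrimes (h : (minimalPrimes A).Infinite) : (minimalPrimes S).Infinite := by
  haveI : Module.FaithfullyFlat A S := Module.FaithfullyFlat.of_flat_of_isLocalHom
  refine Set.Infinite.of_image (Ideal.comap (algebraMap A S)) (h.mono fun p hp => ?_)
  obtain ⟨P, hP⟩ := PrimeSpectrum.comap_surjective_of_faithfullyFlat (A := A) (B := S) ⟨p, hp.1.1⟩
  obtain ⟨q, hq, hqP⟩ := Ideal.exists_minimalPrimes_le (I := (⊥ : Ideal S)) (J := P.asIdeal) bot_le
  haveI := hq.1.1
  have h1 : q.comap (algebraMap A S) ≤ p := (Ideal.comap_mono hqP).trans (congrArg PrimeSpectrum.asIdeal hP).le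
  exact ⟨q, hq, le_antisymm h1 (hp.2 ⟨Ideal.IsPrime.comap _, bot_le⟩ h1)⟩

/-- The number of minimal primes of a henselization. -/
theorem card_eq_numBranches [HenselianLocalRing S] (hcov : ∀ x : S, HenselLib.EtCov (R := A) x)
    (hres : ∀ s : S, ∃ a : A, s - algebraMap A S a ∈ maximalIdeal S) :
    ENat.card (minimalPrimes S) = Brnch.numBranches A := by
  unfold Brnch.numBranches
  by_cases hfin : (minimalPrimes A).Finite
  · rw [if_pos hfin]
    haveI := (isNormRed_normRed A hfin).isIntegral
    obtain ⟨e⟩ := nonempty_equiv_maximalSpectrum A S _ (isNormRed_normRed A hfin) hcov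
    obtain ⟨e'⟩ := nonempty_equiv_of_residue A S (CAlg2.normRed A) hres
    exact ENat.card_congr (e.trans e')
  · rw [if_neg hfin]
    haveI := (infinite_minimalPrimes A S hfin).to_subtype
    exact ENat.card_eq_top_of_infinite

/-- Geometric branches are the embeddings of the normalization in an algebraically closed field. -/
theorem card_hom_eq_numGeomBranches (A : Type u) [CommRing A] [IsLocalRing A] (hfin : (minimalPrimes A).Finite) :
    letI : Algebra A (AlgebraicClosure (ResidueField A)) := (Brnch.toClosure A).toAlgebra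
    ENat.card (CAlg2.normRed A →ₐ[A] AlgebraicClosure (ResidueField A)) = Brnch.numGeomBranches A := by
  letI : Algebra A (AlgebraicClosure (ResidueField A)) := (Brnch.toClosure A).toAlgebra
  unfold Brnch.numGeomBranches
  rw [if_pos hfin]
  let N := CAlg2.normRed A
  let Ω := AlgebraicClosure (ResidueField A)
  haveI := (isNormRed_normRed A hfin).isIntegral
  refine ENat.card_congr ?_
  have hmax : ∀ σ : N →ₐ[A] Ω, (RingHom.ker σ).IsMaximal := fun σ => by
    haveI : (RingHom.ker σ).IsPrime := RingHom.ker_isPrime _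
    refine Ideal.isMaximal_of_isIntegral_of_isMaximal_comap (R := A) _ ?_
    rw [show (RingHom.ker σ).comap (algebraMap A N) = maximalIdeal A from ?_]
    · exact maximalIdeal.isMaximal A
    · ext a
      rw [Ideal.mem_comap, RingHom.mem_ker, σ.commutes]
      show algebraMap (ResidueField A) Ω (residue A a) = 0 ↔ _
      rw [map_eq_zero, residue_eq_zero_iff]
  let F : (N →ₐ[A] Ω) → Σ m' : MaximalSpectrum N, Brnch.Emb A m' := fun σ =>
    ⟨⟨_, hmax σ⟩, Ideal.Quotient.lift _ σ.toRingHom fun t ht => ht, RingHom.ext fun a => σ.commutes a⟩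
  refine Equiv.ofBijective F ⟨fun σ σ' h => AlgHom.ext fun b => ?_, fun ⟨m', τ, hτ⟩ => ?_⟩
  · have key : ∀ (x y : Σ m' : MaximalSpectrum N, Brnch.Emb A m'), x = y → ∀ b : N,
        x.2.1 (Ideal.Quotient.mk _ b) = y.2.1 (Ideal.Quotient.mk _ b) := by
      rintro x _ rfl b; rfl
    exact key _ _ h b
  · let σ : N →ₐ[A] Ω := { τ.comp (Ideal.Quotient.mk m'.asIdeal) with commutes' := fun a => RingHom.congr_fun hτ a }
    letI := Ideal.Quotient.field m'.asIdeal
    have hk : RingHom.ker σ = m'.asIdeal := by
      show RingHom.ker (τ.comp (Ideal.Quotient.mk m'.asIdeal)) = _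
      rw [← RingHom.comap_ker, (RingHom.injective_iff_ker_eq_bot τ).1 τ.injective, ← RingHom.ker_eq_comap_bot,
        Ideal.mk_ker]
    have key : ∀ (m : MaximalSpectrum N) (e : m = m') (v : Brnch.Emb A m),
        (∀ b, v.1 (Ideal.Quotient.mk _ b) = τ (Ideal.Quotient.mk _ b)) →
        (⟨m, v⟩ : Σ m' : MaximalSpectrum N, Brnch.Emb A m') = ⟨m', τ, hτ⟩ := by
      rintro m rfl v hv
      exact congrArg _ (Subtype.ext (Ideal.Quotient.ringHom_ext (RingHom.ext hv)))
    exact ⟨σ, key _ (MaximalSpectrum.ext hk) _ fun b => rfl⟩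

/-- The number of minimal primes of a strict henselization. -/
theorem card_eq_numGeomBranches [HenselianLocalRing S] (hcov : ∀ x : S, HenselLib.EtCov (R := A) x)
    [IsSepClosed (ResidueField S)] [Algebra.IsAlgebraic (ResidueField A) (ResidueField S)] :
    ENat.card (minimalPrimes S) = Brnch.numGeomBranches A := by
  unfold Brnch.numGeomBranches
  by_cases hfin : (minimalPrimes A).Finite
  · rw [if_pos hfin]
    let N := CAlg2.normRed A
    haveI := (isNormRed_normRed A hfin).isIntegral
    obtain ⟨e⟩ := nonempty_equiv_maximalSpectrum A S _ (isNormRed_normRed A hfin) hcov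
    let Ω := AlgebraicClosure (ResidueField A)
    letI : Algebra A Ω := (Brnch.toClosure A).toAlgebra
    let ι : ResidueField S →ₐ[ResidueField A] Ω := IsAlgClosed.lift
    obtain ⟨e'⟩ := nonempty_equiv_hom A S N Ω ι.toRingHom fun a => ι.commutes (residue A a)
    refine (ENat.card_congr (e.trans e')).trans ?_
    exact (card_hom_eq_numGeomBranches A hfin).trans (by unfold Brnch.numGeomBranches; rw [if_pos hfin])
  · rw [if_neg hfin]
    haveI := (infinite_minimalPrimes A S hfin).to_subtype
    exact ENat.card_eq_top_of_infinite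

end

end HenselBranchLib
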