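import Groth.Agent.HenselBranchLib.MinCount
import Groth.Agent.S9237
import Groth.Agent.S9238

/-! Branches are the components through étale neighbourhoods, with multiplicity. -/

set_option autoImplicit false
set_option linter.style.haveILetI false
set_option linter.overlappingInstances false
set_option maxHeartbeats 1000000
set_option backward.isDefEq.respectTransparency false
universe u

open CategoryTheory AlgebraicGeometry IsLocalRing Topology

namespace HenselBranchLib

noncomputable section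

variable {R : Type u} [CommRing R] (m : Ideal R) [m.IsPrime] (A : Type u) [CommRing A] [IsLocalRing A]
  [Algebra R A] [IsLocalization.AtPrime A m] (S : Type u) [CommRing S] [IsLocalRing S] [Algebra A S]
  [Module.Flat A S] [IsLocalHom (algebraMap A S)]

theorem card_nbhd_le [HenselianLocalRing S] [Algebra R S] [IsScalarTower R A S] (E : Type u) [CommRing E]
    [Algebra R E] [Algebra.Etale R E] (q : Ideal E) [q.IsPrime] (hqm : q.comap (algebraMap R E) = m)
    (h : ApproxLib.IsFrac (algebraMap R E) q ∨ IsSepClosed (ResidueField S)) :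
    ENat.card (minimalPrimes (Localization.AtPrime q)) ≤ ENat.card (minimalPrimes S) := by
  obtain ⟨φ, hφ⟩ := exists_residueHom m A S E q hqm h
  obtain ⟨θ, hθ, -⟩ := exists_faithfullyFlat_hom m A S E q φ hφ
  letI := θ.toAlgebra
  haveI : Module.FaithfullyFlat (Localization.AtPrime q) S := RingHom.faithfullyFlat_algebraMap_iff.1 hθ
  exact card_minimalPrimes_le _ S

theorem exists_nbhd_card_ge (hcov : ∀ x : S, HenselLib.EtCov (R := A) x) (n : ℕ)
    (hn : (n : ℕ∞) ≤ ENat.card (minimalPrimes S)) :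
    ∃ (E : Type u) (_ : CommRing E) (_ : Algebra R E) (q : Ideal E) (_ : q.IsPrime), Algebra.Etale R E ∧
      q.comap (algebraMap R E) = m ∧ (n : ℕ∞) ≤ ENat.card (minimalPrimes (Localization.AtPrime q)) ∧
      ((∀ s : S, ∃ a : A, s - algebraMap A S a ∈ maximalIdeal S) → ApproxLib.IsFrac (algebraMap R E) q) := by
  classical
  rw [ENat.card_coe_set_eq] at hn
  obtain ⟨F, hF, hFn⟩ := Set.exists_subset_encard_eq hn
  have hfin : F.Finite := Set.finite_of_encard_eq_coe hFn
  have hsep : ∀ P Q : F, P ≠ Q → ∃ x : S, x ∈ P.1 ∧ x ∉ Q.1 := fun P Q hne => by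
    by_contra hc
    push Not at hc
    exact hne (Subtype.ext (le_antisymm hc ((hF Q.2).2 ⟨(hF P.2).1.1, bot_le⟩ hc)))
  haveI := hfin.to_subtype
  haveI := Fintype.ofFinite F
  choose sep hsep using hsep
  let I : Type u := {p : F × F // p.1 ≠ p.2}
  haveI : Fintype I := Fintype.ofFinite I
  obtain ⟨E, _, _, q, hq, θ, het, hm, ⟨hff, -⟩, hθ, hfr⟩ := exists_nbhd_of_finset m A S hcov
    (Finset.univ.image fun p : I => sep p.1.1 p.1.2 p.2)
  refine ⟨E, _, _, q, hq, het, hm, ?_, hfr⟩
  letI := θ.toAlgebra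
  haveI : Module.FaithfullyFlat (Localization.AtPrime q) S := RingHom.faithfullyFlat_algebraMap_iff.1 hff
  rw [← hFn, ← ENat.card_coe_set_eq]
  refine ENat.card_le_card_of_injective
    (f := fun P : F => (⟨P.1.comap θ, comap_mem_minimalPrimes_of_flat (Localization.AtPrime q) S (hF P.2)⟩ :
      minimalPrimes (Localization.AtPrime q))) fun P Q e => by_contra fun hne => ?_
  obtain ⟨y, hy⟩ := hθ (sep P Q hne) (Finset.mem_image.2 ⟨⟨(P, Q), hne⟩, Finset.mem_univ _, rfl⟩)
  have h1 : y ∈ P.1.comap θ := Ideal.mem_comap.2 (hy ▸ (hsep P Q hne).1)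
  rw [show P.1.comap θ = Q.1.comap θ from congrArg Subtype.val e, Ideal.mem_comap, hy] at h1
  exact (hsep P Q hne).2 h1

end

section Scheme

variable (X : Scheme.{u}) (x : X) (S : Type u) [CommRing S] [IsLocalRing S] [Algebra (X.presheaf.stalk x) S]
  [Module.Flat (X.presheaf.stalk x) S] [IsLocalHom (algebraMap (X.presheaf.stalk x) S)]

theorem encard_components_le [HenselianLocalRing S] {U : Scheme.{u}} (g : U ⟶ X) [Etale g] (u : U) (hgx : g u = x)
    (h : Function.Bijective (g.residueFieldMap u) ∨ IsSepClosed (ResidueField S)) :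
    {Z : Set U | Z ∈ irreducibleComponents U ∧ u ∈ Z}.encard ≤ ENat.card (minimalPrimes S) := by
  subst hgx
  obtain ⟨_, ⟨V, hV, rfl⟩, hxV, -⟩ := X.isBasis_affineOpens.exists_subset_of_mem_open (Set.mem_univ (g u)) isOpen_univ
  obtain ⟨_, ⟨W, hW, rfl⟩, huW, hWV⟩ := U.isBasis_affineOpens.exists_subset_of_mem_open
    (show u ∈ g ⁻¹ᵁ V from hxV) (g ⁻¹ᵁ V).2
  letI : Algebra Γ(X, V) (X.presheaf.stalk (g u)) := TopCat.Presheaf.algebra_section_stalk X.presheaf (⟨g u, hxV⟩ : V)
  haveI : IsLocalization.AtPrime (X.presheaf.stalk (g u)) (hV.primeIdealOf ⟨g u, hxV⟩).asIdeal :=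
    hV.isLocalization_stalk ⟨g u, hxV⟩
  letI : Algebra Γ(X, V) Γ(U, W) := (g.appLE V W hWV).hom.toAlgebra
  haveI : Algebra.Etale Γ(X, V) Γ(U, W) :=
    RingHom.etale_algebraMap.1 (HasRingHomProperty.appLE @Etale g inferInstance ⟨V, hV⟩ ⟨W, hW⟩ hWV)
  letI : Algebra Γ(X, V) S := ((algebraMap (X.presheaf.stalk (g u)) S).comp
    (algebraMap Γ(X, V) (X.presheaf.stalk (g u)))).toAlgebra
  haveI : IsScalarTower Γ(X, V) (X.presheaf.stalk (g u)) S := .of_algebraMap_eq' rfl
  have hqm : Ideal.comap (algebraMap Γ(X, V) Γ(U, W)) (hW.primeIdealOf ⟨u, huW⟩).asIdeal =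
      (hV.primeIdealOf ⟨g u, hxV⟩).asIdeal :=
    congrArg PrimeSpectrum.asIdeal (IsAffineOpen.comap_primeIdealOf_appLE (f := g) V hV W hW hWV huW)
  letI := TopCat.Presheaf.algebra_section_stalk U.presheaf (⟨u, huW⟩ : W)
  haveI := hW.isLocalization_stalk ⟨u, huW⟩
  rw [encard_components, card_minimalPrimes_congr (IsLocalization.algEquiv (hW.primeIdealOf ⟨u, huW⟩).asIdeal.primeCompl
    (U.presheaf.stalk u) (Localization.AtPrime (hW.primeIdealOf ⟨u, huW⟩).asIdeal)).toRingEquiv]
  exact card_nbhd_le (hV.primeIdealOf ⟨g u, hxV⟩).asIdeal (X.presheaf.stalk (g u)) S Γ(U, W)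
    (hW.primeIdealOf ⟨u, huW⟩).asIdeal hqm (h.imp_left (isFrac_of_bijective g hV hW hWV huW))

theorem exists_scheme_nbhd_card_ge (hcov : ∀ s : S, HenselLib.EtCov (R := X.presheaf.stalk x) s) (n : ℕ)
    (hn : (n : ℕ∞) ≤ ENat.card (minimalPrimes S)) :
    ∃ (U : Scheme.{u}) (g : U ⟶ X) (u : U), Etale g ∧ g u = x ∧
      ((∀ s : S, ∃ a : X.presheaf.stalk x, s - algebraMap _ S a ∈ maximalIdeal S) → Function.Bijective (g.residueFieldMap u)) ∧
      (n : ℕ∞) ≤ {Z : Set U | Z ∈ irreducibleComponents U ∧ u ∈ Z}.encard := by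
  obtain ⟨_, ⟨V, hV, rfl⟩, hxV, -⟩ := X.isBasis_affineOpens.exists_subset_of_mem_open (Set.mem_univ x) isOpen_univ
  letI : Algebra Γ(X, V) (X.presheaf.stalk x) := TopCat.Presheaf.algebra_section_stalk X.presheaf (⟨x, hxV⟩ : V)
  haveI : IsLocalization.AtPrime (X.presheaf.stalk x) (hV.primeIdealOf ⟨x, hxV⟩).asIdeal := hV.isLocalization_stalk ⟨x, hxV⟩
  obtain ⟨E, _, _, q, hq, het, hqm, hcard, hfr⟩ :=
    exists_nbhd_card_ge (hV.primeIdealOf ⟨x, hxV⟩).asIdeal (X.presheaf.stalk x) S hcov n hn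
  let φ : Γ(X, V) ⟶ CommRingCat.of E := CommRingCat.ofHom (algebraMap Γ(X, V) E)
  haveI : Etale (Spec.map φ) := (HasRingHomProperty.Spec_iff (P := @Etale)).2 (RingHom.etale_algebraMap.2 het)
  let v : Spec (CommRingCat.of E) := ⟨q, hq⟩
  have hgx : (Spec.map φ ≫ hV.fromSpec) v = x := by
    show hV.fromSpec ((Spec.map φ) v) = x
    rw [show (Spec.map φ) v = hV.primeIdealOf ⟨x, hxV⟩ from PrimeSpectrum.ext hqm]
    exact hV.fromSpec_primeIdealOf ⟨x, hxV⟩
  refine ⟨_, Spec.map φ ≫ hV.fromSpec, v, inferInstance, hgx,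
    fun hres => ApproxLib.residueFieldMap_bijective_of_isFrac hV φ v (hfr hres), ?_⟩
  letI : Algebra E ((Spec (CommRingCat.of E)).presheaf.stalk v) := StructureSheaf.stalkAlgebra E ⟨q, hq⟩
  haveI : IsLocalization.AtPrime ((Spec (CommRingCat.of E)).presheaf.stalk v) q :=
    StructureSheaf.IsLocalization.to_stalk E ⟨q, hq⟩
  rw [encard_components, card_minimalPrimes_congr (IsLocalization.algEquiv q.primeCompl
    ((Spec (CommRingCat.of E)).presheaf.stalk v) (Localization.AtPrime q)).toRingEquiv]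
  exact hcard

theorem numBranchesAt_eq : Brnch.numBranchesAt X x =
    ⨆ (U : Scheme.{u}) (g : U ⟶ X) (u : U) (_ : Hens2.IsEtaleNbhd g u x),
      {Z : Set U | Z ∈ irreducibleComponents U ∧ u ∈ Z}.encard := by
  let A : Type u := X.presheaf.stalk x
  let S := HenselLib.HR A
  haveI : HenselianLocalRing S := Hensel.IsHenselization.henselian (R := A)
  haveI : Module.FaithfullyFlat A S := Groth.Agent.S0509.result A S
  unfold Brnch.numBranchesAt
  rw [show Brnch.numBranches A = ENat.card (minimalPrimes S) from (Groth.Agent.S9237.result A S).symm]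
  refine le_antisymm (ENat.forall_natCast_le_iff_le.1 fun n hn => ?_) ?_
  · obtain ⟨e⟩ := HenselLib.nonempty_algEquiv_HR (R := A) S
    obtain ⟨U, g, u, het, hgx, hb, hle⟩ := exists_scheme_nbhd_card_ge X x S
      (HenselLib.etCov_of_algEquiv e (HenselLib.etCov_hens _)) n hn
    have hres : ∀ s : S, ∃ a : A, s - algebraMap A S a ∈ maximalIdeal S := fun s => by
      obtain ⟨c, hc⟩ := (Groth.Agent.S0508.result A S).2 (residue S s)
      obtain ⟨a, rfl⟩ := residue_surjective c
      exact ⟨a, (residue_eq_zero_iff _).1 (by rw [map_sub, ← hc]; exact sub_self _)⟩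
    exact le_iSup_of_le U (le_iSup_of_le g (le_iSup_of_le u (le_iSup_of_le ⟨het, hgx, hb hres⟩ hle)))
  · refine iSup_le fun U => iSup_le fun g => iSup_le fun u => iSup_le fun h => ?_
    obtain ⟨het, hgx, hb⟩ := h
    haveI := het
    exact encard_components_le X x S g u hgx (Or.inl hb)

theorem numGeomBranchesAt_eq : Brnch.numGeomBranchesAt X x =
    ⨆ (U : Scheme.{u}) (g : U ⟶ X) (u : U) (_ : Etale g ∧ g u = x),
      {Z : Set U | Z ∈ irreducibleComponents U ∧ u ∈ Z}.encard := by
  let A : Type u := X.presheaf.stalk x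
  let S := HenselLib.SH A
  haveI : HenselianLocalRing S := Hensel.IsStrictHenselization.henselian (R := A)
  haveI := (Hensel.IsStrictHenselization.isSepClosure (R := A) (S := S)).sep_closed
  haveI : Module.FaithfullyFlat A S := Groth.Agent.S0539.result A S
  unfold Brnch.numGeomBranchesAt
  rw [show Brnch.numGeomBranches A = ENat.card (minimalPrimes S) from (Groth.Agent.S9238.result A S).symm]
  refine le_antisymm (ENat.forall_natCast_le_iff_le.1 fun n hn => ?_) ?_
  · obtain ⟨e⟩ := HenselLib.nonempty_algEquiv_SH (R := A) S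
    obtain ⟨U, g, u, het, hgx, -, hle⟩ := exists_scheme_nbhd_card_ge X x S
      (HenselLib.etCov_of_algEquiv e (HenselLib.etCov_hens _)) n hn
    exact le_iSup_of_le U (le_iSup_of_le g (le_iSup_of_le u (le_iSup_of_le ⟨het, hgx⟩ hle)))
  · refine iSup_le fun U => iSup_le fun g => iSup_le fun u => iSup_le fun h => ?_
    haveI := h.1
    exact encard_components_le X x S g u h.2 (Or.inr ‹_›)

end Scheme

end HenselBranchLib
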