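import Groth.Agent.S0526
import Groth.Agent.S0525
import Groth.Agent.HenselLib.Local
import Mathlib.RingTheory.Henselian

/-! A local ring integral over a henselian local ring is henselian. -/

set_option autoImplicit false
universe u

open IsLocalRing

namespace HenselBranchLib

theorem henselianLocalRing_of_isIntegral' (S B : Type u) [CommRing S] [HenselianLocalRing S] [CommRing B] [IsLocalRing B]
    [Algebra S B] [Algebra.IsIntegral S B] : HenselianLocalRing B := by
  haveI : HenselianRing S (maximalIdeal S) :=
    ⟨fun x hx => (IsLocalRing.maximalIdeal_le_jacobson _) hx, fun f hf a h1 h2 => HenselianLocalRing.is_henselian f hf a h1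
      (IsLocalRing.notMem_maximalIdeal.1 fun hm => not_isUnit_zero (M₀ := S ⧸ maximalIdeal S)
        (by rwa [Ideal.Quotient.eq_zero_iff_mem.2 hm] at h2))⟩
  haveI := Groth.Agent.S0526.result S (maximalIdeal S) B
  have hrad : ((maximalIdeal S).map (algebraMap S B)).radical = (maximalIdeal B).radical := by
    have hle : (maximalIdeal S).map (algebraMap S B) ≤ maximalIdeal B := by
      refine Ideal.map_le_iff_le_comap.2 (le_of_eq ?_)
      exact (IsLocalRing.eq_maximalIdeal (Ideal.isMaximal_comap_of_isIntegral_of_isMaximal (maximalIdeal B))).symm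
    refine le_antisymm (Ideal.radical_mono hle) ?_
    rw [(maximalIdeal.isMaximal B).isPrime.radical, Ideal.radical_eq_sInf]
    refine le_sInf fun P ⟨hP, hPp⟩ => ?_
    haveI := hPp
    have h1 : (P.comap (algebraMap S B)) = maximalIdeal S :=
      le_antisymm (le_maximalIdeal (Ideal.comap_ne_top _ hPp.ne_top)) (Ideal.map_le_iff_le_comap.1 hP)
    haveI : (P.comap (algebraMap S B)).IsMaximal := h1 ▸ maximalIdeal.isMaximal S
    exact (IsLocalRing.eq_maximalIdeal (Ideal.isMaximal_of_isIntegral_of_isMaximal_comap P ‹_›)).ge
  haveI := (Groth.Agent.S0525.result B _ _ hrad).1 inferInstance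
  exact HenselLib.henselianLocalRing_of_henselianRing

end HenselBranchLib
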