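import Mathlib.RingTheory.Ideal.GoingUp
import Mathlib.RingTheory.Ideal.MinimalPrime.Basic
import Mathlib.RingTheory.Ideal.MinimalPrime.Localization
import Mathlib.RingTheory.Nilpotent.Lemmas

/-! Minimal primes along integral birational maps with nilpotent kernel. -/

set_option autoImplicit false
universe u

namespace HenselBranchLib

theorem bijOn_minimalPrimes_of_birational (S T : Type u) [CommRing S] [CommRing T] [Algebra S T]
    [Algebra.IsIntegral S T] (hker : RingHom.ker (algebraMap S T) ≤ nilradical S) (N : Set S)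
    (hN : ∀ n ∈ N, ∀ y : S, n * y ∈ nilradical S → y ∈ nilradical S)
    (hNT : ∀ n ∈ N, algebraMap S T n ∈ nonZeroDivisors T)
    (hfr : ∀ t : T, ∃ n ∈ N, ∃ s : S, algebraMap S T n * t = algebraMap S T s) :
    Set.BijOn (fun P : Ideal T => P.comap (algebraMap S T)) (minimalPrimes T) (minimalPrimes S) := by
  have havS : ∀ q ∈ minimalPrimes S, ∀ n ∈ N, n ∉ q := fun q hq n hn hnq => by
    obtain ⟨y, hy, hny⟩ : n ∈ {x | ∃ y ∉ (⊥ : Ideal S).radical, x * y ∈ (⊥ : Ideal S).radical} := by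
      rw [← Ideal.iUnion_minimalPrimes]
      exact Set.mem_biUnion hq hnq
    exact hy (hN n hn y hny)
  have havT : ∀ P ∈ minimalPrimes T, ∀ n ∈ N, algebraMap S T n ∉ P := fun P hP n hn h =>
    Set.disjoint_left.1 (Ideal.disjoint_nonZeroDivisors_of_mem_minimalPrimes hP) h (hNT n hn)
  have hle : ∀ P P' : Ideal T, P.IsPrime → P'.IsPrime → (∀ n ∈ N, algebraMap S T n ∉ P') →
      P.comap (algebraMap S T) ≤ P'.comap (algebraMap S T) → P ≤ P' := by
    intro P P' _ hP' hav hPP t ht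
    obtain ⟨n, hn, s, hs⟩ := hfr t
    have h1 : algebraMap S T n * t ∈ P' := by
      rw [hs]
      exact hPP (show algebraMap S T s ∈ P from hs ▸ P.mul_mem_left _ ht)
    exact (hP'.mem_or_mem h1).resolve_left (hav n hn)
  have hover : ∀ q : Ideal S, q.IsPrime → ∃ P : Ideal T, P.IsPrime ∧ P.comap (algebraMap S T) = q := by
    intro q hq
    haveI := hq
    obtain ⟨P, -, hP, hPq⟩ := Ideal.exists_ideal_over_prime_of_isIntegral q (⊥ : Ideal T) (by
      rw [← RingHom.ker_eq_comap_bot]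
      exact hker.trans (nilradical_le_prime q))
    exact ⟨P, hP, hPq⟩
  refine ⟨fun P hP => ?_, fun P hP P' hP' h => ?_, fun q hq => ?_⟩
  · haveI := hP.1.1
    refine ⟨⟨Ideal.IsPrime.comap _, bot_le⟩, fun q hq hqle => ?_⟩
    obtain ⟨q', hq', hq'q⟩ := @Ideal.exists_minimalPrimes_le S _ (⊥ : Ideal S) q hq.1 bot_le
    obtain ⟨P', hP', hP'q⟩ := hover q' hq'.1.1
    have hPP : P' ≤ P := hle P' P hP' ‹_› (havT P hP) (hP'q.trans_le (hq'q.trans hqle))
    exact ((Ideal.comap_mono (hP.2 ⟨hP', bot_le⟩ hPP)).trans hP'q.le).trans hq'q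
  · exact le_antisymm (hle P P' hP.1.1 hP'.1.1 (havT P' hP') (le_of_eq h))
      (hle P' P hP'.1.1 hP.1.1 (havT P hP) (le_of_eq h.symm))
  · obtain ⟨P, hP, hPq⟩ := hover q hq.1.1
    haveI := hP
    obtain ⟨P', hP', hP'P⟩ := Ideal.exists_minimalPrimes_le (I := (⊥ : Ideal T)) (J := P) bot_le
    haveI := hP'.1.1
    have h1 : P'.comap (algebraMap S T) = q := le_antisymm ((Ideal.comap_mono hP'P).trans hPq.le)
      (hq.2 ⟨Ideal.IsPrime.comap _, bot_le⟩ ((Ideal.comap_mono hP'P).trans hPq.le))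
    exact ⟨P', hP', h1⟩

end HenselBranchLib
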