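import Groth.Agent.HenselBranchLib.Unibranch
import Groth.Agent.HenselBranchLib.Birational
import Groth.Agent.BranchLib.NormRedFin
import Mathlib.RingTheory.Localization.BaseChange

/-! Minimal primes of a henselization and maximal ideals of its normalization. -/

set_option autoImplicit false
set_option linter.style.haveILetI false
set_option linter.overlappingInstances false
set_option maxHeartbeats 1000000
set_option synthInstance.maxHeartbeats 400000
set_option backward.isDefEq.respectTransparency false
universe u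

open IsLocalRing TensorProduct

namespace HenselBranchLib

noncomputable section

theorem etCov_localization {R T : Type u} [CommRing R] [CommRing T] [Algebra R T]
    (hcov : ∀ x : T, HenselLib.EtCov (R := R) x) (n : Ideal R) [n.IsPrime] (L : Type u) [CommRing L] [Algebra T L]
    (M : Submonoid T) [IsLocalization M L] [Algebra (Localization.AtPrime n) L] [Algebra R L]
    [IsScalarTower R T L] [IsScalarTower R (Localization.AtPrime n) L] (x : L) :
    HenselLib.EtCov (R := Localization.AtPrime n) x := by
  classical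
  let Rn := Localization.AtPrime n
  obtain ⟨⟨t, s⟩, hts⟩ := IsLocalization.surj M x
  obtain ⟨U, _, _, _, ξ, hξ⟩ := HenselLib.exists_etale_cover {t, (s : T)} fun z _ => hcov z
  obtain ⟨ut, hut⟩ := hξ t (by simp)
  obtain ⟨us, hus⟩ := hξ (s : T) (by simp)
  let ζ : Rn ⊗[R] U →ₐ[Rn] L := Algebra.TensorProduct.lift (Algebra.ofId Rn L)
    ((IsScalarTower.toAlgHom R T L).comp ξ) fun _ _ => Commute.all _ _
  have hζ : ∀ u, ζ (1 ⊗ₜ u) = algebraMap T L (ξ u) := fun u => by
    simp [ζ]
  let σ : Rn ⊗[R] U := 1 ⊗ₜ us
  have hσ : IsUnit (ζ σ) := by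
    rw [hζ, show ξ us = (s : T) from hus]
    exact IsLocalization.map_units L s
  haveI : Algebra.Etale (Rn ⊗[R] U) (Localization.Away σ) := Algebra.Etale.of_isLocalizationAway σ
  haveI : Algebra.Etale Rn (Localization.Away σ) := Algebra.Etale.comp Rn (Rn ⊗[R] U) (Localization.Away σ)
  let ζ' : Localization.Away σ →ₐ[Rn] L := IsLocalization.Away.liftAlgHom σ (f := ζ) hσ
  have hζ' : ∀ z, ζ' (algebraMap _ (Localization.Away σ) z) = ζ z := fun z =>
    IsLocalization.Away.lift_eq (R := Rn ⊗[R] U) σ (g := (ζ : Rn ⊗[R] U →+* L)) hσ z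
  refine ⟨Localization.Away σ, inferInstance, inferInstance, inferInstance, ζ',
    algebraMap _ _ ((1 : Rn) ⊗ₜ[R] ut) * IsLocalization.Away.invSelf σ, ?_⟩
  have h1 : ζ' (IsLocalization.Away.invSelf σ) * algebraMap T L (s : T) = 1 := by
    rw [← show ξ us = (s : T) from hus, ← hζ, ← hζ', ← map_mul, mul_comm,
      IsLocalization.Away.mul_invSelf, map_one]
  show ζ' (algebraMap _ _ ((1 : Rn) ⊗ₜ[R] ut) * IsLocalization.Away.invSelf σ) = x
  rw [map_mul, hζ', hζ, show ξ ut = t from hut, ← hts, mul_assoc, mul_comm (algebraMap T L (s : T)), h1, mul_one]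

variable (A S : Type u) [CommRing A] [IsLocalRing A] [CommRing S] [IsLocalRing S] [Algebra A S]
  [IsLocalHom (algebraMap A S)] [Module.Flat A S] (B : Type u) [CommRing B] [Algebra A B]

local notation "T" => B ⊗[A] S

/-- The properties of the normalization of the reduction that are used. -/
structure IsNormRed : Prop where
  isIntegral : Algebra.IsIntegral A B
  ker_le : RingHom.ker (algebraMap A B) = nilradical A
  nzd : ∀ a : A, Ideal.Quotient.mk (nilradical A) a ∈ nonZeroDivisors (CAlg2.red A) →
    algebraMap A B a ∈ nonZeroDivisors B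
  frac : ∀ b : B, ∃ n a : A, Ideal.Quotient.mk (nilradical A) n ∈ nonZeroDivisors (CAlg2.red A) ∧
    algebraMap A B n * b = algebraMap A B a
  normal : ∀ (n : Ideal B) [n.IsPrime],
    IsDomain (Localization.AtPrime n) ∧ IsIntegrallyClosed (Localization.AtPrime n)

attribute [local instance] Algebra.TensorProduct.rightAlgebra

omit [IsLocalRing A] [IsLocalRing S] [IsLocalHom (algebraMap A S)] [Module.Flat A S] in
theorem isIntegral_normTensor [Algebra.IsIntegral A B] : Algebra.IsIntegral S T := by
  refine ⟨fun t => ?_⟩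
  induction t using TensorProduct.induction_on with
  | zero => exact isIntegral_zero
  | tmul b s =>
    have h1 : IsIntegral A (b ⊗ₜ[A] (1 : S)) :=
      (Algebra.IsIntegral.isIntegral (R := A) b).map
        (Algebra.TensorProduct.includeLeft : B →ₐ[A] T)
    have h2 : b ⊗ₜ[A] s = algebraMap S T s * (b ⊗ₜ[A] (1 : S)) := by
      rw [Algebra.TensorProduct.right_algebraMap_apply, Algebra.TensorProduct.tmul_mul_tmul, one_mul, mul_one]
    rw [h2]
    exact isIntegral_algebraMap.mul h1.tower_top
  | add x y hx hy => exact hx.add hy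

theorem bijOn_minimalPrimes (hB : IsNormRed A B) (hcov : ∀ x : S, HenselLib.EtCov (R := A) x) :
    Set.BijOn (fun P : Ideal T => P.comap (algebraMap S T)) (minimalPrimes T) (minimalPrimes S) := by
  haveI := hB.isIntegral
  haveI := isIntegral_normTensor A S B
  let R := CAlg2.red A
  let π := Ideal.Quotient.mk (nilradical A)
  let N : Set A := {a | π a ∈ nonZeroDivisors R}
  let ι : R →ₐ[A] B := Ideal.Quotient.liftₐ (nilradical A) (Algebra.ofId A B) fun a ha => hB.ker_le.ge ha
  have hι : Function.Injective ι := (injective_iff_map_eq_zero ι).2 fun z hz => by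
    obtain ⟨a, rfl⟩ := Ideal.Quotient.mk_surjective z
    exact Ideal.Quotient.eq_zero_iff_mem.2 (hB.ker_le.le hz)
  let e := Algebra.TensorProduct.quotIdealMapEquivTensorQuot S (nilradical A)
  have hker0 : ∀ z : S, z ⊗ₜ[A] (1 : R) = 0 → z ∈ nilradical S := fun z hz => by
    rw [← HenselLib.nilradical_map_of_etCov hcov]
    have h2 := congrArg e.symm hz
    rw [map_zero] at h2
    exact Ideal.Quotient.eq_zero_iff_mem.1
      ((Algebra.TensorProduct.quotIdealMapEquivTensorQuot_symm_tmul _ _ z 1).symm.trans h2 |> fun e => by simpa using e)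
  have hker : RingHom.ker (algebraMap S T) ≤ nilradical S := fun z hz => hker0 z (by
    refine Module.Flat.lTensor_preserves_injective_linearMap (M := S) ι.toLinearMap hι ?_
    rw [map_zero, LinearMap.lTensor_tmul, show ι.toLinearMap 1 = 1 from map_one ι]
    refine (TensorProduct.comm A S B).injective ?_
    rw [map_zero, TensorProduct.comm_tmul]
    exact hz)
  refine bijOn_minimalPrimes_of_birational S T hker (algebraMap A S '' N) ?_ ?_ ?_
  · rintro _ ⟨n, hn, rfl⟩ y hy
    refine hker0 y ?_
    have h0 : (algebraMap A S n * y) ⊗ₜ[A] (1 : R) = 0 := by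
      have h := (mem_nilradical.1 hy)
      rw [← HenselLib.nilradical_map_of_etCov hcov] at hy
      have h2 := congrArg e (Ideal.Quotient.eq_zero_iff_mem.2 hy)
      rw [map_zero] at h2
      refine Eq.trans ?_ h2
      exact (Algebra.TensorProduct.quotIdealMapEquivTensorQuot_mk S (nilradical A) _).symm
    have hinj : Function.Injective (LinearMap.lTensor S (LinearMap.mulLeft A (π n))) :=
      Module.Flat.lTensor_preserves_injective_linearMap _ fun a b hab =>
        (mul_cancel_left_mem_nonZeroDivisors hn).1 hab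
    refine hinj ?_
    rw [map_zero, LinearMap.lTensor_tmul, LinearMap.mulLeft_apply, mul_one]
    rw [← h0, ← Algebra.smul_def, TensorProduct.smul_tmul, Algebra.smul_def, mul_one]
    rfl
  · rintro _ ⟨n, hn, rfl⟩
    rw [← IsScalarTower.algebraMap_apply A S T, mem_nonZeroDivisors_iff_right]
    intro t ht
    have hinj : Function.Injective (LinearMap.rTensor S (LinearMap.mulLeft A (algebraMap A B n))) :=
      Module.Flat.rTensor_preserves_injective_linearMap _ fun a b hab => by
        exact (mul_cancel_left_mem_nonZeroDivisors (hB.nzd n hn)).1 hab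
    refine hinj ?_
    rw [map_zero, ← ht]
    clear ht
    induction t using TensorProduct.induction_on with
    | zero => simp
    | tmul b s =>
      rw [LinearMap.rTensor_tmul, LinearMap.mulLeft_apply, Algebra.TensorProduct.algebraMap_apply,
        Algebra.TensorProduct.tmul_mul_tmul, mul_one, mul_comm]
    | add x y hx hy => rw [map_add, hx, hy, add_mul]
  · intro t
    suffices h : ∃ n ∈ N, ∃ s : S, algebraMap A T n * t = algebraMap S T s by
      obtain ⟨n, hn, s, hs⟩ := h
      exact ⟨_, ⟨n, hn, rfl⟩, s, by rw [← IsScalarTower.algebraMap_apply A S T, hs]⟩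
    induction t using TensorProduct.induction_on with
    | zero => exact ⟨1, by simp [N, π, one_mem], 0, by simp⟩
    | tmul b s =>
      obtain ⟨n, a, hn, hb⟩ := hB.frac b
      refine ⟨n, hn, algebraMap A S a * s, ?_⟩
      rw [Algebra.TensorProduct.algebraMap_apply, Algebra.TensorProduct.tmul_mul_tmul, one_mul, hb,
        Algebra.TensorProduct.right_algebraMap_apply, ← Algebra.smul_def, Algebra.algebraMap_eq_smul_one,
        TensorProduct.smul_tmul]
    | add x y hx hy =>
      obtain ⟨n, hn, s, hs⟩ := hx
      obtain ⟨n', hn', s', hs'⟩ := hy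
      refine ⟨n * n', by show π (n * n') ∈ nonZeroDivisors R; rw [map_mul]; exact mul_mem hn hn',
        algebraMap A S n' * s + algebraMap A S n * s', ?_⟩
      rw [map_mul, map_add, map_mul, map_mul, ← IsScalarTower.algebraMap_apply, ← IsScalarTower.algebraMap_apply,
        ← hs, ← hs']
      ring

omit [IsLocalHom (algebraMap A S)] in
theorem minimal_unique (hB : IsNormRed A B) (hcov : ∀ x : S, HenselLib.EtCov (R := A) x)
    (M : Ideal T) [M.IsPrime] (P P' : Ideal T) (hP : P ∈ minimalPrimes T) (hP' : P' ∈ minimalPrimes T)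
    (hle : P ≤ M) (hle' : P' ≤ M) : P = P' := by
  let n := M.comap (algebraMap B T)
  obtain ⟨hd, hic⟩ := hB.normal n
  haveI := hd
  haveI := hic
  let L := Localization.AtPrime M
  haveI : IsScalarTower B T L := inferInstance
  letI : Algebra (Localization.AtPrime n) L := (IsLocalization.lift (M := n.primeCompl) (g := algebraMap B L)
    fun s => IsLocalization.map_units L (⟨algebraMap B T s, s.2⟩ : M.primeCompl)).toAlgebra
  haveI : IsScalarTower B (Localization.AtPrime n) L := IsScalarTower.of_algebraMap_eq fun b =>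
    (IsLocalization.lift_eq _ b).symm
  haveI : Module.Flat T L := IsLocalization.flat L M.primeCompl
  haveI : Module.Flat B L := Module.Flat.trans B T L
  haveI : Module.Flat (Localization.AtPrime n) L := by
    rw [Module.flat_iff_of_isLocalization (Localization.AtPrime n) n.primeCompl]; infer_instance
  obtain ⟨hLd, -⟩ := HenselLib.normal_of_etCov (R := Localization.AtPrime n) (S := L)
    (etCov_localization (etCov_bc A S hcov B) n L M.primeCompl)
  haveI := hLd
  have key : ∀ Q ∈ minimalPrimes T, Q ≤ M → Q = (⊥ : Ideal L).comap (algebraMap T L) := fun Q hQ hQM => by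
    haveI := hQ.1.1
    have hdis : Disjoint (M.primeCompl : Set T) Q := Set.disjoint_left.2 fun x hx hxQ => hx (hQM hxQ)
    refine le_antisymm (hQ.2 ⟨Ideal.IsPrime.comap _, bot_le⟩ ?_) ?_ <;>
      calc (⊥ : Ideal L).comap (algebraMap T L) ≤ (Q.map (algebraMap T L)).comap (algebraMap T L) :=
            Ideal.comap_mono bot_le
        _ = Q := IsLocalization.comap_map_of_isPrime_disjoint M.primeCompl L ‹_› hdis
  rw [key P hP hle, key P' hP' hle']

/-- Minimal primes of the henselization are the maximal ideals of its normalization. -/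
theorem nonempty_equiv_maximalSpectrum [HenselianLocalRing S] (hB : IsNormRed A B)
    (hcov : ∀ x : S, HenselLib.EtCov (R := A) x) : Nonempty (minimalPrimes S ≃ MaximalSpectrum T) := by
  haveI := hB.isIntegral
  haveI := isIntegral_normTensor A S B
  have hloc : ∀ P : minimalPrimes T, ∃! M : MaximalSpectrum T, P.1 ≤ M.asIdeal := fun P => by
    haveI := P.2.1.1
    haveI : Algebra.IsIntegral S (T ⧸ P.1) := ⟨fun z => by
      obtain ⟨t, rfl⟩ := Ideal.Quotient.mk_surjective z
      exact (Algebra.IsIntegral.isIntegral (R := S) t).map (IsScalarTower.toAlgHom S T (T ⧸ P.1))⟩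
    haveI := HensFormalLib.isLocalRing_of_integral_domain S (T ⧸ P.1)
    obtain ⟨M, hM, hPM⟩ := Ideal.exists_le_maximal P.1 P.2.1.1.ne_top
    refine ⟨⟨M, hM⟩, hPM, fun M' hPM' => MaximalSpectrum.ext ?_⟩
    have h : ∀ I : Ideal T, I.IsMaximal → P.1 ≤ I →
        I = (maximalIdeal (T ⧸ P.1)).comap (Ideal.Quotient.mk P.1) := fun I hI hPI => by
      refine hI.eq_of_le (Ideal.comap_ne_top _ (maximalIdeal.isMaximal _).ne_top) ?_
      rw [← Ideal.map_le_iff_le_comap]
      refine IsLocalRing.le_maximalIdeal fun htop => hI.ne_top ?_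
      have := congrArg (Ideal.comap (Ideal.Quotient.mk P.1)) htop
      rwa [Ideal.comap_top, Ideal.comap_map_of_surjective _ Ideal.Quotient.mk_surjective,
        ← RingHom.ker_eq_comap_bot, Ideal.mk_ker, sup_eq_left.2 hPI] at this
    exact (h _ M'.isMaximal hPM').trans (h _ hM hPM).symm
  choose m hm hmu using hloc
  have hbij : Function.Bijective m := by
    refine ⟨fun P P' e => Subtype.ext ?_, fun M => ?_⟩
    · exact minimal_unique A S B hB hcov (m P).asIdeal _ _ P.2 P'.2 (hm P) (e ▸ hm P')
    · haveI := M.isMaximal.isPrime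
      obtain ⟨P, hP, hle⟩ := Ideal.exists_minimalPrimes_le (I := (⊥ : Ideal T)) (J := M.asIdeal) bot_le
      exact ⟨⟨P, hP⟩, (hmu ⟨P, hP⟩ M hle).symm⟩
  exact ⟨(Equiv.ofBijective _ (Set.BijOn.bijective (bijOn_minimalPrimes A S B hB hcov))).symm.trans (Equiv.ofBijective m hbij)⟩

/-- The normalization of the reduction has these properties. -/
theorem isNormRed_normRed (A : Type u) [CommRing A] (hfin : (minimalPrimes A).Finite) :
    IsNormRed A (CAlg2.normRed A) where
  isIntegral := Algebra.IsIntegral.trans (CAlg2.red A)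
  ker_le := by
    ext a
    rw [RingHom.mem_ker]
    refine Iff.trans ⟨fun h => congrArg Subtype.val h, fun h => Subtype.ext h⟩
      ((map_eq_zero_iff (algebraMap (CAlg2.red A) (FractionRing (CAlg2.red A))) (IsFractionRing.injective _ _)).trans
        Ideal.Quotient.eq_zero_iff_mem)
  nzd a ha := mem_nonZeroDivisors_iff_right.2 fun y hy => Subtype.ext
    ((IsLocalization.map_units (FractionRing (CAlg2.red A))
      (⟨_, ha⟩ : nonZeroDivisors (CAlg2.red A))).mul_left_eq_zero.1 (congrArg Subtype.val hy))
  frac b := by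
    obtain ⟨⟨r, d⟩, hrd⟩ := IsLocalization.surj (nonZeroDivisors (CAlg2.red A)) b.1
    obtain ⟨a, rfl⟩ := Ideal.Quotient.mk_surjective r
    obtain ⟨n, hn⟩ := Ideal.Quotient.mk_surjective (d : CAlg2.red A)
    refine ⟨n, a, hn.symm ▸ d.2, Subtype.ext ?_⟩
    show algebraMap (CAlg2.red A) (FractionRing (CAlg2.red A)) (Ideal.Quotient.mk _ n) * b.1 = _
    rw [hn, mul_comm]
    exact hrd
  normal n _ := BranchLib.normRed_atPrime A hfin n

end

end HenselBranchLib
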