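import Groth.Agent.HenselBranchLib.QuotHens
import Groth.Agent.BranchLib.Card
import Groth.Agent.S0508
import Groth.Agent.S0509
import Groth.Agent.S9237
import Groth.Agent.S9238
import Mathlib.RingTheory.Ideal.MinimalPrime.Localization

/-! Minimal primes of a flat extension, grouped by the minimal prime below. -/

set_option autoImplicit false
set_option linter.style.haveILetI false
set_option linter.overlappingInstances false
set_option maxHeartbeats 1000000
set_option backward.isDefEq.respectTransparency false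
universe u

open IsLocalRing TensorProduct

namespace HenselBranchLib

noncomputable section

theorem minimalPrimes_quotient_iff (S : Type u) [CommRing S] (I : Ideal S) (Q : Ideal S) :
    (∃ P ∈ minimalPrimes (S ⧸ I), P.comap (Ideal.Quotient.mk I) = Q) ↔ Q ∈ I.minimalPrimes := by
  rw [Ideal.minimalPrimes_eq_comap, Set.mem_image]

theorem card_minimalPrimes_quotient (S : Type u) [CommRing S] (I : Ideal S) :
    ENat.card (minimalPrimes (S ⧸ I)) = ENat.card I.minimalPrimes := by
  let f : minimalPrimes (S ⧸ I) → I.minimalPrimes := fun P =>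
    ⟨P.1.comap (Ideal.Quotient.mk I), (minimalPrimes_quotient_iff S I _).1 ⟨P.1, P.2, rfl⟩⟩
  refine ENat.card_congr (Equiv.ofBijective f ⟨fun P P' e => Subtype.ext ?_, fun Q => ?_⟩)
  · exact Ideal.comap_injective_of_surjective _ Ideal.Quotient.mk_surjective (congrArg Subtype.val e)
  · obtain ⟨P, hP, e⟩ := (minimalPrimes_quotient_iff S I _).2 Q.2
    exact ⟨⟨P, hP⟩, Subtype.ext e⟩

/-- Minimal primes of a flat extension are fibred over the minimal primes below. -/
theorem card_minimalPrimes_eq_tsum (A S : Type u) [CommRing A] [CommRing S] [Algebra A S] [Module.Flat A S] :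
    ENat.card (minimalPrimes S) =
      ∑' p : minimalPrimes A, ENat.card (minimalPrimes (S ⧸ p.1.map (algebraMap A S))) := by
  simp_rw [card_minimalPrimes_quotient]
  rw [← BranchLib.enat_card_sigma]
  have hmem : ∀ (p : minimalPrimes A), ∀ Q ∈ (p.1.map (algebraMap A S)).minimalPrimes,
      Q ∈ minimalPrimes S ∧ Q.comap (algebraMap A S) = p.1 := by
    intro p Q hQ
    haveI := hQ.1.1
    haveI := p.2.1.1
    haveI : (Q.comap (algebraMap A S)).IsPrime := Ideal.IsPrime.comap _
    have hp : Q.comap (algebraMap A S) = p.1 := by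
      refine le_antisymm ?_ (Ideal.map_le_iff_le_comap.1 hQ.1.2)
      haveI : Q.LiesOver (Q.comap (algebraMap A S)) := ⟨rfl⟩
      obtain ⟨Q', hQ'le, hQ'p, hQ'⟩ := Ideal.exists_ideal_le_liesOver_of_le (p := p.1) (q := Q.comap (algebraMap A S)) Q
        (Ideal.map_le_iff_le_comap.1 hQ.1.2)
      haveI := hQ'p
      exact (Ideal.comap_mono (hQ.2 ⟨hQ'p, Ideal.map_le_iff_le_comap.2 hQ'.over.le⟩ hQ'le)).trans hQ'.over.symm.le
    refine ⟨⟨⟨hQ.1.1, bot_le⟩, fun Q' hQ' hle => hQ.2 ⟨hQ'.1, Ideal.map_le_iff_le_comap.2 ?_⟩ hle⟩, hp⟩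
    haveI := hQ'.1
    exact p.2.2 ⟨Ideal.IsPrime.comap _, bot_le⟩ ((Ideal.comap_mono hle).trans hp.le)
  refine (ENat.card_congr (Equiv.ofBijective
    (fun z : Σ p : minimalPrimes A, ((p.1.map (algebraMap A S)).minimalPrimes : Set (Ideal S)) =>
      (⟨z.2.1, (hmem z.1 _ z.2.2).1⟩ : minimalPrimes S)) ⟨?_, fun Q => ?_⟩)).symm
  · rintro ⟨p, Q, hQ⟩ ⟨p', Q', hQ'⟩ e
    obtain rfl : Q = Q' := congrArg Subtype.val e
    obtain rfl : p = p' := Subtype.ext ((hmem p Q hQ).2.symm.trans (hmem p' Q hQ').2)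
    rfl
  · exact ⟨⟨⟨_, comap_mem_minimalPrimes_of_flat A S Q.2⟩, Q.1, ⟨Q.2.1.1, Ideal.map_comap_le⟩,
      fun P hP hle => Q.2.2 ⟨hP.1, bot_le⟩ hle⟩, rfl⟩

variable (A : Type u) [CommRing A] [IsLocalRing A] (h : (minimalPrimes A).Finite)

include h in
theorem numBranches_eq_finsum :
    Brnch.numBranches A = ∑ᶠ p : minimalPrimes A,
      haveI : p.1.IsPrime := p.2.1.1
      Brnch.numBranches (A ⧸ p.1) := by
  haveI := h.to_subtype
  let S := HenselLib.HR A
  haveI : HenselianLocalRing S := Hensel.IsHenselization.henselian (R := A)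
  haveI : Module.FaithfullyFlat A S := Groth.Agent.S0509.result A S
  obtain ⟨e⟩ := HenselLib.nonempty_algEquiv_HR (R := A) S
  have hcov := HenselLib.etCov_of_algEquiv e (HenselLib.etCov_hens _)
  have hres : ∀ s : S, ∃ a : A, s - algebraMap A S a ∈ maximalIdeal S := fun s => by
    obtain ⟨c, hc⟩ := (Groth.Agent.S0508.result A S).2 (residue S s)
    obtain ⟨a, rfl⟩ := residue_surjective c
    exact ⟨a, (residue_eq_zero_iff _).1 (by rw [map_sub, ← hc]; exact sub_self _)⟩
  rw [← Groth.Agent.S9237.result A S, card_minimalPrimes_eq_tsum A S, tsum_eq_finsum (Set.toFinite _)]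
  refine finsum_congr fun p => ?_
  haveI : p.1.IsPrime := p.2.1.1
  haveI : Nontrivial (A ⧸ p.1) := Ideal.Quotient.nontrivial_iff.2 p.2.1.1.ne_top
  haveI : IsLocalRing (A ⧸ p.1) := IsLocalRing.of_surjective' _ Ideal.Quotient.mk_surjective
  refine ((card_quot_eq_numBranches A S (A ⧸ p.1) Ideal.Quotient.mk_surjective hcov hres).trans ?_).symm
  exact card_minimalPrimes_congr (Ideal.quotEquivOfEq (congrArg (Ideal.map _) Ideal.mk_ker))

include h in
theorem numGeomBranches_eq_finsum :
    Brnch.numGeomBranches A = ∑ᶠ p : minimalPrimes A,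
      haveI : p.1.IsPrime := p.2.1.1
      Brnch.numGeomBranches (A ⧸ p.1) := by
  haveI := h.to_subtype
  let S := HenselLib.SH A
  haveI : HenselianLocalRing S := Hensel.IsStrictHenselization.henselian (R := A)
  haveI := (Hensel.IsStrictHenselization.isSepClosure (R := A) (S := S)).sep_closed
  haveI : Algebra.IsSeparable (ResidueField A) (ResidueField S) :=
    (Hensel.IsStrictHenselization.isSepClosure (R := A) (S := S)).separable
  haveI : Module.FaithfullyFlat A S := Groth.Agent.S0539.result A S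
  obtain ⟨e⟩ := HenselLib.nonempty_algEquiv_SH (R := A) S
  have hcov := HenselLib.etCov_of_algEquiv e (HenselLib.etCov_hens _)
  rw [← Groth.Agent.S9238.result A S, card_minimalPrimes_eq_tsum A S, tsum_eq_finsum (Set.toFinite _)]
  refine finsum_congr fun p => ?_
  haveI : p.1.IsPrime := p.2.1.1
  haveI : Nontrivial (A ⧸ p.1) := Ideal.Quotient.nontrivial_iff.2 p.2.1.1.ne_top
  haveI : IsLocalRing (A ⧸ p.1) := IsLocalRing.of_surjective' _ Ideal.Quotient.mk_surjective
  refine ((card_quot_eq_numGeomBranches A S (A ⧸ p.1) Ideal.Quotient.mk_surjective hcov).trans ?_).symm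
  exact card_minimalPrimes_congr (Ideal.quotEquivOfEq (congrArg (Ideal.map _) Ideal.mk_ker))

end

end HenselBranchLib
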