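import Groth.Agent.HenselBranchLib.Mono
import Groth.Agent.HenselBranchLib.QuotSum
import Groth.Agent.FlatLib.FibreLocal
import Groth.Agent.NormalLib.CompletionReduced
import Groth.Agent.S0507
import Groth.Agent.S0511

/-! Branches of the completion. -/

set_option autoImplicit false
set_option linter.style.haveILetI false
set_option linter.overlappingInstances false
set_option maxHeartbeats 1000000
set_option backward.isDefEq.respectTransparency false
universe u

open IsLocalRing

namespace HenselBranchLib

noncomputable section

theorem henselianLocalRing_completion (A : Type u) [CommRing A] [IsLocalRing A] [IsNoetherianRing A] :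
    HenselianLocalRing (AdicCompletion (maximalIdeal A) A) :=
  ⟨fun f hf a h1 h2 => HenselianRing.is_henselian (I := maximalIdeal (AdicCompletion (maximalIdeal A) A)) f hf a h1
    (h2.map _)⟩

theorem numBranches_eq_card (T : Type u) [CommRing T] [HenselianLocalRing T] :
    ENat.card (minimalPrimes T) = Brnch.numBranches T := by
  haveI : IsLocalHom (algebraMap T T) := ⟨fun _ h => h⟩
  refine card_eq_numBranches T T (fun x => ?_) fun s => ⟨s, by simp⟩
  exact ⟨T, inferInstance, inferInstance, inferInstance, AlgHom.id T T, x, rfl⟩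

theorem radical_isPrime_iff (T : Type u) [CommRing T] (I : Ideal T) :
    I.radical.IsPrime ↔ ENat.card I.minimalPrimes = 1 := by
  rw [ENat.card_coe_set_eq, Set.encard_eq_one]
  constructor
  · intro h
    exact ⟨I.radical, by rw [← Ideal.radical_minimalPrimes, Ideal.minimalPrimes_eq_subsingleton_self]⟩
  · rintro ⟨P, hP⟩
    have hmem : P ∈ I.minimalPrimes := hP ▸ Set.mem_singleton P
    rw [← Ideal.sInf_minimalPrimes, hP, sInf_singleton]
    exact hmem.1.1

theorem numBranches_eq_completion_iff (A S : Type u) [CommRing A] [IsLocalRing A] [IsNoetherianRing A]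
    [CommRing S] [IsLocalRing S] [Algebra A S] [IsLocalHom (algebraMap A S)] [Hensel.IsHenselization A S]
    (ψ : S →+* AdicCompletion (maximalIdeal A) A)
    (hψ : ψ.comp (algebraMap A S) = algebraMap A (AdicCompletion (maximalIdeal A) A)) :
    Brnch.numBranches A = Brnch.numBranches (AdicCompletion (maximalIdeal A) A) ↔
      ∀ q ∈ minimalPrimes S, (Ideal.map ψ q).radical.IsPrime := by
  classical
  let T := AdicCompletion (maximalIdeal A) A
  obtain ⟨hT, -, -, -, -⟩ := NormalLib.completion_props A
  haveI : IsNoetherianRing T := hT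
  haveI := henselianLocalRing_completion A
  haveI : Module.FaithfullyFlat A S := Groth.Agent.S0509.result A S
  haveI : IsNoetherianRing S := (Groth.Agent.S0511.result A S).1 ‹_›
  haveI : Module.Flat A T := AdicCompletion.flat_of_isNoetherian _
  have hmS : (maximalIdeal A).map (algebraMap A S) = maximalIdeal S := Groth.Agent.S0507.result A S
  letI := ψ.toAlgebra
  haveI : IsScalarTower A S T := IsScalarTower.of_algebraMap_eq fun a => (RingHom.congr_fun hψ a).symm
  haveI hl : IsLocalHom (algebraMap S T) := by
    refine ((IsLocalRing.local_hom_TFAE (algebraMap S T)).out 0 2 :).2 ?_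
    rw [← hmS, Ideal.map_map, ← IsScalarTower.algebraMap_eq]
    exact ((IsLocalRing.local_hom_TFAE (algebraMap A T)).out 0 2 :).1 inferInstance
  have hflat : Module.Flat S T := by
    have hinj := FlatLib.injective_lTensor_map (R := A) (S := S) (M := T) (maximalIdeal A)
    have hJ : (maximalIdeal S).map (algebraMap S T) ≤ Ideal.jacobson ⊥ := by
      rw [IsLocalRing.jacobson_eq_maximalIdeal _ bot_ne_top]
      exact ((IsLocalRing.local_hom_TFAE (algebraMap S T)).out 0 2 :).1 hl
    letI := Ideal.Quotient.field (maximalIdeal S)
    exact FlatCrit.flat_of_injective_of_flat_quotient (S := T) (maximalIdeal S) hJ (hmS ▸ hinj) inferInstance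
  haveI : Module.FaithfullyFlat S T := Module.FaithfullyFlat.of_flat_of_isLocalHom
  rw [← Groth.Agent.S9237.result A S, ← numBranches_eq_card T, card_minimalPrimes_eq_tsum S T]
  haveI hSfin : Finite (minimalPrimes S) := (minimalPrimes.finite_of_isNoetherianRing S).to_subtype
  haveI := Fintype.ofFinite (minimalPrimes S)
  rw [tsum_fintype, ENat.card_eq_coe_fintype_card]
  simp_rw [card_minimalPrimes_quotient]
  have hfin : ∀ p : minimalPrimes S, ∃ n : ℕ, ENat.card (p.1.map (algebraMap S T)).minimalPrimes = (n + 1 : ℕ) := by
    intro p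
    haveI := p.2.1.1
    haveI := (Ideal.finite_minimalPrimes_of_isNoetherianRing T (p.1.map (algebraMap S T))).to_subtype
    haveI := Fintype.ofFinite (p.1.map (algebraMap S T)).minimalPrimes
    have hne : p.1.map (algebraMap S T) ≠ ⊤ := fun h => p.2.1.1.ne_top <| by
      rw [← Ideal.comap_map_eq_self_of_faithfullyFlat (B := T) p.1, h, Ideal.comap_top]
    haveI := Ideal.nonempty_minimalPrimes hne
    refine ⟨Fintype.card (p.1.map (algebraMap S T)).minimalPrimes - 1, ?_⟩
    rw [ENat.card_eq_coe_fintype_card, Nat.sub_add_cancel Fintype.card_pos]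
  choose n hn using hfin
  simp_rw [hn]
  rw [← Nat.cast_sum, Nat.cast_inj, Finset.sum_add_distrib, Finset.sum_const, smul_eq_mul, mul_one,
    Finset.card_univ, right_eq_add, Finset.sum_eq_zero_iff]
  constructor
  · intro h q hq
    rw [radical_isPrime_iff]
    exact (hn ⟨q, hq⟩).trans (by rw [h ⟨q, hq⟩ (Finset.mem_univ _)]; rfl)
  · intro h p _
    have h1 := (hn p).symm.trans ((radical_isPrime_iff T _).1 (h p.1 p.2))
    exact_mod_cast Nat.succ_injective (Nat.cast_inj.1 (h1.trans Nat.cast_one.symm))

end

end HenselBranchLib
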