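import Groth.Agent.HenselBranchLib.PunctClopen
import Groth.Agent.CatLib.Descent
import Mathlib.RingTheory.Spectrum.Prime.Topology
import Mathlib.RingTheory.Ideal.GoingDown

/-! The punctured spectra of the henselization and of the completion. -/

set_option autoImplicit false
set_option linter.style.haveILetI false
set_option linter.overlappingInstances false
set_option maxHeartbeats 1000000
set_option backward.isDefEq.respectTransparency false
universe u

open IsLocalRing

namespace HenselBranchLib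

noncomputable section

variable (A S : Type u) [CommRing A] [IsLocalRing A] [IsNoetherianRing A] [CommRing S] [IsLocalRing S] [Algebra A S]
  [IsLocalHom (algebraMap A S)] [Hensel.IsHenselization A S] (ψ : S →+* AdicCompletion (maximalIdeal A) A)
  (hψ : ψ.comp (algebraMap A S) = algebraMap A (AdicCompletion (maximalIdeal A) A))

theorem exists_hom_to_completion : ∃ ψ : S →+* AdicCompletion (maximalIdeal A) A,
    ψ.comp (algebraMap A S) = algebraMap A (AdicCompletion (maximalIdeal A) A) := by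
  haveI := henselianLocalRing_completion A
  exact (Hensel.IsHenselization.universal (R := A) (S := S) (AdicCompletion (maximalIdeal A) A)
    (algebraMap A _) inferInstance).exists

include hψ in
theorem completion_hom_props :
    letI := ψ.toAlgebra
    Module.FaithfullyFlat S (AdicCompletion (maximalIdeal A) A) ∧
      (maximalIdeal S).map ψ = maximalIdeal (AdicCompletion (maximalIdeal A) A) ∧
      ∀ (x : AdicCompletion (maximalIdeal A) A) (k : ℕ), ∃ a : S, x - ψ a ∈ (maximalIdeal S ^ k).map ψ := by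
  let T := AdicCompletion (maximalIdeal A) A
  obtain ⟨hT, -, -, -, -⟩ := NormalLib.completion_props A
  haveI : IsNoetherianRing T := hT
  haveI : Module.FaithfullyFlat A S := Groth.Agent.S0509.result A S
  haveI : IsNoetherianRing S := (Groth.Agent.S0511.result A S).1 ‹_›
  haveI : Module.Flat A T := AdicCompletion.flat_of_isNoetherian _
  have hmS : (maximalIdeal A).map (algebraMap A S) = maximalIdeal S := Groth.Agent.S0507.result A S
  letI := ψ.toAlgebra
  haveI : IsScalarTower A S T := IsScalarTower.of_algebraMap_eq fun a => (RingHom.congr_fun hψ a).symm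
  haveI hl : IsLocalHom (algebraMap S T) := by
    refine ((IsLocalRing.local_hom_TFAE (algebraMap S T)).out 0 2 :).2 ?_
    rw [← hmS, Ideal.map_map, ← IsScalarTower.algebraMap_eq]
    exact ((IsLocalRing.local_hom_TFAE (algebraMap A T)).out 0 2 :).1 inferInstance
  haveI hflat : Module.Flat S T := by
    have hinj := FlatLib.injective_lTensor_map (R := A) (S := S) (M := T) (maximalIdeal A)
    have hJ : (maximalIdeal S).map (algebraMap S T) ≤ Ideal.jacobson ⊥ := by
      rw [IsLocalRing.jacobson_eq_maximalIdeal _ bot_ne_top]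
      exact ((IsLocalRing.local_hom_TFAE (algebraMap S T)).out 0 2 :).1 hl
    letI := Ideal.Quotient.field (maximalIdeal S)
    exact FlatCrit.flat_of_injective_of_flat_quotient (S := T) (maximalIdeal S) hJ (hmS ▸ hinj) inferInstance
  have hK : (maximalIdeal A).FG := IsNoetherian.noetherian _
  refine ⟨Module.FaithfullyFlat.of_flat_of_isLocalHom, ?_, fun x k => ?_⟩
  · rw [← hmS, Ideal.map_map, hψ]
    exact (AdicCompletion.maximalIdeal_eq_map_of_fg hK).symm
  · obtain ⟨a, ha⟩ := AdicRingLib.exists_sub_mem_map_pow hK k x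
    refine ⟨algebraMap A S a, ?_⟩
    rw [← hmS, ← Ideal.map_pow, Ideal.map_map, hψ, ← RingHom.comp_apply, hψ]
    exact ha

include hψ in
theorem comap_ne_closedPoint (P : PrimeSpectrum (AdicCompletion (maximalIdeal A) A))
    (hP : P ≠ closedPoint (AdicCompletion (maximalIdeal A) A)) : PrimeSpectrum.comap ψ P ≠ closedPoint S := by
  intro h
  refine hP (PrimeSpectrum.ext (le_antisymm (IsLocalRing.le_maximalIdeal P.isPrime.ne_top) ?_))
  show maximalIdeal _ ≤ _
  rw [← (completion_hom_props A S ψ hψ).2.1]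
  exact Ideal.map_le_iff_le_comap.2 (congrArg PrimeSpectrum.asIdeal h).ge

include hψ in
theorem saturated (V : Set (PrimeSpectrum (AdicCompletion (maximalIdeal A) A))) (hV : IsOpen V)
    (hV' : IsOpen ({closedPoint (AdicCompletion (maximalIdeal A) A)}ᶜ \ V))
    (P P' : PrimeSpectrum (AdicCompletion (maximalIdeal A) A)) (hP : P ≠ closedPoint (AdicCompletion (maximalIdeal A) A))
    (hP' : P' ≠ closedPoint (AdicCompletion (maximalIdeal A) A))
    (hPP : PrimeSpectrum.comap ψ P = PrimeSpectrum.comap ψ P') : P ∈ V ↔ P' ∈ V := by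
  obtain ⟨hff, hm, hap⟩ := completion_hom_props A S ψ hψ
  haveI : IsNoetherianRing S := (Groth.Agent.S0511.result A S).1 ‹_›
  haveI : HenselianLocalRing S := Hensel.IsHenselization.henselian (R := A)
  haveI := (NormalLib.completion_props A).1
  letI := ψ.toAlgebra
  haveI := hff
  exact saturated_of_clopen S (AdicCompletion (maximalIdeal A) A) hm hap V hV hV' P P' hP hP' hPP

include hψ in
theorem minimalPrimes_mapsTo_surjOn :
    Set.MapsTo (Ideal.comap ψ) (minimalPrimes (AdicCompletion (maximalIdeal A) A)) (minimalPrimes S) ∧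
      Set.SurjOn (Ideal.comap ψ) (minimalPrimes (AdicCompletion (maximalIdeal A) A)) (minimalPrimes S) := by
  obtain ⟨hff, -, -⟩ := completion_hom_props A S ψ hψ
  letI := ψ.toAlgebra
  haveI := hff
  exact ⟨fun q hq => comap_mem_minimalPrimes_of_flat S (AdicCompletion (maximalIdeal A) A) hq,
    fun p hp => exists_minimalPrimes_over S (AdicCompletion (maximalIdeal A) A) hp⟩

include hψ in
theorem exists_minimalPrime_radical_eq (q : Ideal (AdicCompletion (maximalIdeal A) A))
    (hq : q ∈ minimalPrimes (AdicCompletion (maximalIdeal A) A))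
    (hdim : ringKrullDim (AdicCompletion (maximalIdeal A) A ⧸ q) = 1) :
    ∃ q' ∈ minimalPrimes S, (Ideal.map ψ q').radical = q := by
  classical
  let T := AdicCompletion (maximalIdeal A) A
  haveI hT : IsNoetherianRing T := (NormalLib.completion_props A).1
  haveI := hq.1.1
  let Q : PrimeSpectrum T := ⟨q, hq.1.1⟩
  haveI : Ring.KrullDimLE 1 (T ⧸ q) := Ring.krullDimLE_iff.2 hdim.le
  have hQc : Q ≠ closedPoint T := fun h => by
    haveI : q.IsMaximal := by
      rw [show q = maximalIdeal T from congrArg PrimeSpectrum.asIdeal h]; exact maximalIdeal.isMaximal T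
    letI := Ideal.Quotient.field q
    rw [ringKrullDim_eq_zero_of_isField (Field.toIsField (T ⧸ q))] at hdim
    exact zero_ne_one hdim
  have honly : ∀ z : PrimeSpectrum T, q ≤ z.asIdeal → z ≠ closedPoint T → z = Q := fun z hz hzc => by
    by_contra hne
    haveI : (z.asIdeal.map (Ideal.Quotient.mk q)).IsPrime :=
      Ideal.map_isPrime_of_surjective Ideal.Quotient.mk_surjective (by rwa [Ideal.mk_ker])
    have h1 : z.asIdeal.map (Ideal.Quotient.mk q) ≠ ⊥ := fun h => hne (PrimeSpectrum.ext (le_antisymm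
      (fun a ha => Ideal.Quotient.eq_zero_iff_mem.1 ((Submodule.eq_bot_iff _).1 h _ (Ideal.mem_map_of_mem _ ha))) hz))
    haveI := (Ideal.IsPrime.isMaximal_of_ne_bot ‹_› h1 : (z.asIdeal.map (Ideal.Quotient.mk q)).IsMaximal)
    have h2 := Ideal.comap_isMaximal_of_surjective (Ideal.Quotient.mk q) Ideal.Quotient.mk_surjective
      (K := z.asIdeal.map (Ideal.Quotient.mk q))
    rw [Ideal.comap_map_of_surjective _ Ideal.Quotient.mk_surjective, ← RingHom.ker_eq_comap_bot, Ideal.mk_ker,
      sup_eq_left.2 hz] at h2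
    exact hzc (PrimeSpectrum.ext (IsLocalRing.eq_maximalIdeal h2))
  have hV : IsOpen ({Q} : Set (PrimeSpectrum T)) := by
    have hW : IsOpen (⋃ p ∈ minimalPrimes T \ {q}, PrimeSpectrum.zeroLocus (p : Set T))ᶜ :=
      (((minimalPrimes.finite_of_isNoetherianRing T).sdiff).isClosed_biUnion fun p _ =>
        PrimeSpectrum.isClosed_zeroLocus _).isOpen_compl
    have : ({Q} : Set (PrimeSpectrum T)) =
        (⋃ p ∈ minimalPrimes T \ {q}, PrimeSpectrum.zeroLocus (p : Set T))ᶜ ∩ {closedPoint T}ᶜ := by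
      ext z
      constructor
      · rintro rfl
        refine ⟨fun h => ?_, hQc⟩
        obtain ⟨p, ⟨hp, hpq⟩, hz⟩ := Set.mem_iUnion₂.1 h
        exact hpq (le_antisymm hz (hq.2 ⟨hp.1.1, bot_le⟩ hz))
      · rintro ⟨h, hzc⟩
        obtain ⟨p, hp, hpz⟩ := Ideal.exists_minimalPrimes_le (I := (⊥ : Ideal T)) (J := z.asIdeal) bot_le
        have hpq : p = q := by_contra fun hne => h (Set.mem_iUnion₂.2 ⟨p, ⟨hp, hne⟩, hpz⟩)
        exact honly z (hpq ▸ hpz) hzc
    rw [this]
    exact hW.inter (IsLocalRing.isClosed_singleton_closedPoint T).isOpen_compl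
  have hV' : IsOpen ({closedPoint T}ᶜ \ ({Q} : Set (PrimeSpectrum T))) := by
    have : {closedPoint T}ᶜ \ ({Q} : Set (PrimeSpectrum T)) = (PrimeSpectrum.zeroLocus (q : Set T))ᶜ := by
      ext z
      constructor
      · rintro ⟨hzc, hzQ⟩ hz
        exact hzQ (honly z hz hzc)
      · intro h
        refine ⟨fun hz => h ?_, fun hz => h ?_⟩
        · obtain rfl : z = closedPoint T := hz
          exact IsLocalRing.le_maximalIdeal hq.1.1.ne_top
        · obtain rfl : z = Q := hz
          exact le_refl q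
    rw [this]
    exact (PrimeSpectrum.isClosed_zeroLocus _).isOpen_compl
  refine ⟨q.comap ψ, (minimalPrimes_mapsTo_surjOn A S ψ hψ).1 hq, le_antisymm ?_ ?_⟩
  · exact (Ideal.radical_mono Ideal.map_comap_le).trans_eq (Ideal.IsPrime.radical hq.1.1)
  · rw [Ideal.radical_eq_sInf]
    refine le_sInf fun R ⟨hle, hR⟩ => ?_
    haveI := hR
    obtain ⟨R₀, hR₀, hR₀R⟩ := Ideal.exists_minimalPrimes_le hle
    haveI := hR₀.1.1
    refine le_trans ?_ hR₀R
    have hcm : R₀.comap ψ = q.comap ψ := by
      refine le_antisymm ?_ (Ideal.map_le_iff_le_comap.1 hR₀.1.2)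
      letI := ψ.toAlgebra
      haveI := (completion_hom_props A S ψ hψ).1
      haveI : R₀.LiesOver (R₀.comap ψ) := ⟨rfl⟩
      obtain ⟨Q', hQ'le, hQ'p, hQ'⟩ := Ideal.exists_ideal_le_liesOver_of_le (p := q.comap ψ) (q := R₀.comap ψ) R₀
        (Ideal.map_le_iff_le_comap.1 hR₀.1.2)
      haveI := hQ'p
      exact (Ideal.comap_mono (hR₀.2 ⟨hQ'p, Ideal.map_le_iff_le_comap.2 hQ'.over.le⟩ hQ'le)).trans hQ'.over.symm.le
    have hpp : PrimeSpectrum.comap ψ Q = PrimeSpectrum.comap ψ ⟨R₀, hR₀.1.1⟩ := PrimeSpectrum.ext hcm.symm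
    have hR₀c : (⟨R₀, hR₀.1.1⟩ : PrimeSpectrum T) ≠ closedPoint T := fun h => by
      refine comap_ne_closedPoint A S ψ hψ Q hQc (hpp.trans (h ▸ ?_))
      refine PrimeSpectrum.ext (le_antisymm (IsLocalRing.le_maximalIdeal (Ideal.comap_ne_top _ (maximalIdeal.isMaximal T).ne_top)) ?_)
      exact Ideal.map_le_iff_le_comap.1 (completion_hom_props A S ψ hψ).2.1.le
    have := (saturated A S ψ hψ {Q} hV hV' Q ⟨R₀, hR₀.1.1⟩ hQc hR₀c hpp).1 rfl
    exact (congrArg PrimeSpectrum.asIdeal this).ge

omit ψ in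
theorem preconnected_punctured_iff :
    IsPreconnected ({closedPoint (AdicCompletion (maximalIdeal A) A)}ᶜ : Set (PrimeSpectrum (AdicCompletion (maximalIdeal A) A))) ↔
      IsPreconnected ({closedPoint S}ᶜ : Set (PrimeSpectrum S)) := by
  let T := AdicCompletion (maximalIdeal A) A
  obtain ⟨ψ, hψ⟩ := exists_hom_to_completion A S
  obtain ⟨hff, hm, -⟩ := completion_hom_props A S ψ hψ
  letI := ψ.toAlgebra
  haveI := hff
  have hsurj : Function.Surjective (PrimeSpectrum.comap ψ) := PrimeSpectrum.comap_surjective_of_faithfullyFlat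
  have hquot : Topology.IsQuotientMap (PrimeSpectrum.comap ψ) := PrimeSpectrum.isQuotientMap_of_generalizingMap hsurj
    (Algebra.HasGoingDown.iff_generalizingMap_primeSpectrumComap.1 Algebra.HasGoingDown.of_flat)
  have hclosed : PrimeSpectrum.comap ψ (closedPoint T) = closedPoint S :=
    PrimeSpectrum.ext (le_antisymm (IsLocalRing.le_maximalIdeal (Ideal.comap_ne_top _ (maximalIdeal.isMaximal T).ne_top))
      (Ideal.map_le_iff_le_comap.1 hm.le))
  have himage : PrimeSpectrum.comap ψ '' {closedPoint T}ᶜ = {closedPoint S}ᶜ := by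
    ext p
    constructor
    · rintro ⟨P, hP, rfl⟩; exact comap_ne_closedPoint A S ψ hψ P hP
    · intro hp
      obtain ⟨P, rfl⟩ := hsurj p
      exact ⟨P, fun h => hp (by rw [show P = closedPoint T from h]; exact hclosed), rfl⟩
  refine ⟨fun h => himage ▸ h.image _ (PrimeSpectrum.continuous_comap ψ).continuousOn, fun h u v hu hv huv hnu hnv => ?_⟩
  by_contra hne
  let U : Set (PrimeSpectrum T) := {closedPoint T}ᶜ
  have hdisj : ∀ z ∈ U, z ∈ u → z ∉ v := fun z hz hzu hzv => hne ⟨z, hz, hzu, hzv⟩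
  have hUo : IsOpen U := (IsLocalRing.isClosed_singleton_closedPoint T).isOpen_compl
  have hVo : IsOpen (U ∩ u) := hUo.inter hu
  have hcompl : U \ (U ∩ u) = U ∩ v := Set.ext fun z => ⟨fun h => ⟨h.1, (huv h.1).resolve_left fun h' => h.2 ⟨h.1, h'⟩⟩,
    fun h => ⟨h.1, fun h' => hdisj z h.1 h'.2 h.2⟩⟩
  have hV'o : IsOpen (U \ (U ∩ u)) := hcompl ▸ hUo.inter hv
  have hsat := saturated A S ψ hψ (U ∩ u) hVo hV'o
  have hpre : ∀ W : Set (PrimeSpectrum T), W ⊆ U → (∀ P ∈ U, ∀ P' ∈ U, PrimeSpectrum.comap ψ P = PrimeSpectrum.comap ψ P' → (P ∈ W ↔ P' ∈ W)) →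
      IsOpen W → IsOpen (PrimeSpectrum.comap ψ '' W) := fun W hW hs ho => by
    rw [← hquot.isOpen_preimage]
    convert ho using 1
    refine Set.Subset.antisymm (fun P ⟨P', hP', he⟩ => ?_) (Set.subset_preimage_image _ _)
    by_cases hPc : P ∈ U
    · exact (hs P' (hW hP') P hPc he).1 hP'
    · exfalso
      rw [show P = closedPoint T from not_not.1 hPc, hclosed] at he
      exact comap_ne_closedPoint A S ψ hψ P' (hW hP') he
  have hu' := hpre _ Set.inter_subset_left (fun P hP P' hP' => hsat P P' hP hP') hVo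
  have hv' := hpre _ (Set.inter_subset_left (t := v)) (fun P hP P' hP' he => by
    rw [← hcompl]
    exact ⟨fun h => ⟨hP', fun h' => h.2 ((hsat P P' hP hP' he).2 h')⟩, fun h => ⟨hP, fun h' => h.2 ((hsat P P' hP hP' he).1 h')⟩⟩)
    (hUo.inter hv)
  have hcover : ({closedPoint S}ᶜ : Set (PrimeSpectrum S)) ⊆ PrimeSpectrum.comap ψ '' (U ∩ u) ∪ PrimeSpectrum.comap ψ '' (U ∩ v) := by
    rw [← himage, ← Set.image_union, ← Set.inter_union_distrib_left]
    exact Set.image_mono fun z hz => ⟨hz, huv hz⟩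
  obtain ⟨p, hp, ⟨P, hP, hPe⟩, ⟨P', hP', hPe'⟩⟩ := h _ _ hu' hv' hcover
    (by obtain ⟨P, hP⟩ := hnu; exact ⟨_, himage ▸ Set.mem_image_of_mem _ hP.1, Set.mem_image_of_mem _ hP⟩)
    (by obtain ⟨P, hP⟩ := hnv; exact ⟨_, himage ▸ Set.mem_image_of_mem _ hP.1, Set.mem_image_of_mem _ hP⟩)
  exact hdisj P' hP'.1 ((hsat P P' hP.1 hP'.1 (hPe.trans hPe'.symm)).1 hP).2 hP'.2

end

end HenselBranchLib
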