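import Groth.Agent.HenselBranchLib.IndEtLocal
import Groth.Agent.S0508
import Groth.Agent.S0509

/-! Henselizations of localizations as colimits of etale algebras over the ring. -/

set_option autoImplicit false
set_option linter.style.haveILetI false
set_option maxHeartbeats 1000000
universe u

open IsLocalRing TensorProduct

namespace HenselBranchLib

noncomputable section

variable {R : Type u} [CommRing R] (p : Ideal R) [p.IsPrime]

theorem etCov_atPrime (x : Localization.AtPrime p) : HenselLib.EtCov (R := R) x := by
  obtain ⟨r, s, rfl⟩ := IsLocalization.exists_mk'_eq p.primeCompl x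
  haveI : Algebra.Etale R (Localization.Away (s : R)) := inferInstance
  let ξ : Localization.Away (s : R) →ₐ[R] Localization.AtPrime p :=
    IsLocalization.Away.liftAlgHom (s : R) (f := Algebra.ofId R (Localization.AtPrime p))
      (IsLocalization.map_units _ s)
  refine ⟨_, inferInstance, inferInstance, inferInstance, ξ, algebraMap R _ r * IsLocalization.Away.invSelf (s : R), ?_⟩
  rw [IsLocalization.eq_mk'_iff_mul_eq]
  show ξ _ * _ = _
  rw [map_mul, AlgHom.commutes, mul_assoc, ← ξ.commutes (s : R), ← map_mul, mul_comm (IsLocalization.Away.invSelf _),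
    IsLocalization.Away.mul_invSelf, map_one, mul_one]

variable {Ω : Type u} [Field Ω] {θ₀ : Localization.AtPrime p →+* Ω}
  (hθ₀ : RingHom.ker θ₀ = IsLocalRing.maximalIdeal (Localization.AtPrime p))

theorem etCov_stage (n : ℕ) : ∀ x : HenselLib.G hθ₀ n,
    ∃ (U : Type u) (_ : CommRing U) (_ : Algebra R U) (_ : Algebra.Etale R U) (ξ : U →+* HenselLib.G hθ₀ n),
      ξ.comp (algebraMap R U) =
        (algebraMap (Localization.AtPrime p) (HenselLib.G hθ₀ n)).comp (algebraMap R (Localization.AtPrime p)) ∧
      x ∈ ξ.range := by
  induction n with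
  | zero =>
    intro x
    obtain ⟨U, _, _, _, ξ, u, hu⟩ := etCov_atPrime p x
    exact ⟨U, inferInstance, inferInstance, inferInstance, ξ.toRingHom, ξ.comp_algebraMap, u, hu⟩
  | succ n ih =>
    intro x
    letI alg0 : Algebra R (HenselLib.seq hθ₀ n).carrier :=
      ((algebraMap (Localization.AtPrime p) (HenselLib.seq hθ₀ n).carrier).comp
        (algebraMap R (Localization.AtPrime p))).toAlgebra
    have hA : ∀ a : (HenselLib.seq hθ₀ n).carrier, HenselLib.EtCov (R := R) a := fun a => by
      obtain ⟨U, _, _, _, ξ, hξ, u, hu⟩ := ih a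
      exact ⟨U, inferInstance, inferInstance, inferInstance,
        { ξ with commutes' := fun r => RingHom.congr_fun hξ r }, u, hu⟩
    obtain ⟨U, _, _, _, ξ, u, hu⟩ := HenselLib.Step.etCov_next (R := R) (HenselLib.seq hθ₀ n).θ hA x
    refine ⟨U, inferInstance, inferInstance, inferInstance, ξ.toRingHom, ?_, u, hu⟩
    refine ξ.comp_algebraMap.trans (RingHom.ext fun r => ?_)
    rw [IsScalarTower.algebraMap_apply R (HenselLib.seq hθ₀ n).carrier
      (HenselLib.Step.Next (HenselLib.seq hθ₀ n).θ)]
    rfl

variable (Rh : Type u) [CommRing Rh] [IsLocalRing Rh] [Algebra (Localization.AtPrime p) Rh]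
  [IsLocalHom (algebraMap (Localization.AtPrime p) Rh)] [Hensel.IsHenselization (Localization.AtPrime p) Rh]
  [Algebra R Rh] [IsScalarTower R (Localization.AtPrime p) Rh]

include p in
theorem etCov_henselization_atPrime (x : Rh) : HenselLib.EtCov (R := R) x := by
  obtain ⟨e⟩ := HenselLib.nonempty_algEquiv_HR (R := Localization.AtPrime p) Rh
  obtain ⟨n, y, hy⟩ := HenselLib.exists_of IsLocalRing.ker_residue (e.symm x)
  obtain ⟨U, _, _, _, ξ, hξ, u, hu⟩ := etCov_stage p IsLocalRing.ker_residue n y
  let g := e.toAlgHom.comp (HenselLib.of IsLocalRing.ker_residue n)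
  refine ⟨U, inferInstance, inferInstance, inferInstance,
    { g.toRingHom.comp ξ with commutes' := fun r => ?_ }, u, ?_⟩
  · show g (ξ (algebraMap R U r)) = _
    rw [show ξ (algebraMap R U r) = _ from RingHom.congr_fun hξ r, RingHom.comp_apply, AlgHom.commutes,
      ← IsScalarTower.algebraMap_apply]
  · show e (HenselLib.of IsLocalRing.ker_residue n (ξ u)) = x
    rw [hu, hy]
    exact e.apply_symm_apply x

include p in
theorem flat_henselization_atPrime : Module.Flat R Rh := by
  haveI : Module.FaithfullyFlat (Localization.AtPrime p) Rh := Groth.Agent.S0509.result _ Rh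
  exact Module.Flat.trans R (Localization.AtPrime p) Rh

theorem residue_surjective_atPrime (z : ResidueField Rh) :
    ∃ w : ResidueField (Localization.AtPrime p), ResidueField.map (algebraMap (Localization.AtPrime p) Rh) w = z :=
  (Groth.Agent.S0508.result (Localization.AtPrime p) Rh).2 z

theorem comap_maximalIdeal_hens : (maximalIdeal Rh).comap (algebraMap R Rh) = p := by
  rw [IsScalarTower.algebraMap_eq R (Localization.AtPrime p) Rh, ← Ideal.comap_comap,
    show (maximalIdeal Rh).comap (algebraMap (Localization.AtPrime p) Rh) = maximalIdeal _ from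
      ((IsLocalRing.local_hom_TFAE (algebraMap (Localization.AtPrime p) Rh)).out 0 4 :).1 inferInstance]
  exact IsLocalization.AtPrime.comap_maximalIdeal (Localization.AtPrime p) p

/-- Pullback of the maximal ideal along a map into the henselization has trivial residue extension. -/
theorem bijective_residue (U : Type u) [CommRing U] [Algebra R U] (f : U →ₐ[R] Rh) (q : Ideal U) [q.IsPrime]
    (hf : (maximalIdeal Rh).comap f.toRingHom = q) (hq : p = q.comap (algebraMap R U)) :
    Function.Bijective (Ideal.ResidueField.map p q (algebraMap R U) hq) := by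
  let F : q.ResidueField →+* ResidueField Rh :=
    Ideal.ResidueField.lift q ((residue Rh).comp f.toRingHom)
      (fun u hu => Ideal.Quotient.eq_zero_iff_mem.2 (hf.ge hu : f u ∈ maximalIdeal Rh))
      (fun u hu => show IsUnit _ from isUnit_iff_ne_zero.2 fun h0 => hu (hf.le ((IsLocalRing.residue_eq_zero_iff _).1 h0)))
  have hF : ∀ u : U, F (algebraMap U q.ResidueField u) = residue Rh (f u) := fun u =>
    Ideal.ResidueField.lift_algebraMap q _ _ _ u
  have hcomp : F.comp (Ideal.ResidueField.map p q (algebraMap R U) hq) =
      ResidueField.map (algebraMap (Localization.AtPrime p) Rh) := Ideal.ResidueField.ringHom_ext (RingHom.ext fun r => by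
    simp only [RingHom.comp_apply]
    rw [Ideal.ResidueField.map_algebraMap, hF]
    show residue Rh (f (algebraMap R U r)) = _
    rw [AlgHom.commutes, IsScalarTower.algebraMap_apply R (Localization.AtPrime p) Rh]
    rfl)
  refine ⟨RingHom.injective _, fun z => ?_⟩
  obtain ⟨w, hw⟩ := residue_surjective_atPrime p Rh (F z)
  exact ⟨w, F.injective ((RingHom.congr_fun hcomp w).trans hw)⟩

end

end HenselBranchLib
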