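import Groth.Agent.HenselBranchLib.Completion
import Groth.Agent.BirUnibLib.Point
import Groth.Agent.HensFormalLib.Basic
import Groth.Agent.CatLib.Descent
import Mathlib.RingTheory.Ideal.KrullsHeightTheorem

/-! Completion preserves branches in dimension one. -/

set_option autoImplicit false
set_option linter.style.haveILetI false
set_option linter.overlappingInstances false
set_option maxHeartbeats 1000000
set_option backward.isDefEq.respectTransparency false
universe u

open IsLocalRing Polynomial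

namespace HenselBranchLib

noncomputable section

theorem exists_poly_of_mem_pow {D K : Type u} [CommRing D] [Field K] [Algebra D K] (a y : D)
    (hy : algebraMap D K y ≠ 0) : ∀ (m : ℕ) (z : D), z ∈ Ideal.span ({a, y} : Set D) ^ m →
      ∃ g : D[X], g.natDegree ≤ m ∧
        algebraMap D K z = aeval (algebraMap D K a / algebraMap D K y) g * algebraMap D K y ^ m := by
  intro m
  induction m with
  | zero => exact fun z _ => ⟨C z, by simp, by simp⟩
  | succ m ih =>
    intro z hz
    rw [pow_succ] at hz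
    refine Submodule.mul_induction_on hz (fun p hp r hr => ?_) fun p r hp hr => ?_
    · obtain ⟨g, hg, hgp⟩ := ih p hp
      obtain ⟨s, t, rfl⟩ := Ideal.mem_span_pair.1 hr
      refine ⟨g * (C s * X + C t), (natDegree_mul_le).trans (Nat.add_le_add hg (natDegree_linear_le)), ?_⟩
      simp only [map_mul, map_add, aeval_C, aeval_X, hgp, pow_succ]
      field_simp
    · obtain ⟨g, hg, hgp⟩ := hp
      obtain ⟨g', hg', hgr⟩ := hr
      exact ⟨g + g', (natDegree_add_le _ _).trans (max_le hg hg'), by rw [map_add, hgp, hgr, map_add, add_mul]⟩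

variable (D T : Type u) [CommRing D] [IsDomain D] [HenselianLocalRing D] [CommRing T] [IsLocalRing T]
  [IsNoetherianRing T] [Algebra D T] [Module.FaithfullyFlat D T] [IsLocalHom (algebraMap D T)]

theorem nilradical_prime_of_dense [Ring.KrullDimLE 1 D] (f : D) (hf0 : f ≠ 0) (hfm : f ∈ maximalIdeal D)
    (hap : ∀ (x : T) (N : ℕ), ∃ a : D, x - algebraMap D T a ∈ Ideal.span {algebraMap D T f ^ N}) :
    (nilradical T).IsPrime := by
  classical
  have hminD : minimalPrimes D = {⊥} := IsDomain.minimalPrimes_eq_singleton_bot D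
  have hbot : ∀ P ∈ minimalPrimes T, P.comap (algebraMap D T) = ⊥ := fun P hP => by
    simpa [hminD] using comap_mem_minimalPrimes_of_flat D T hP
  refine BirUnibLib.nilradical_isPrime_of_unique T fun P hP Q hQ => by_contra fun hne => ?_
  haveI := hP.1.1
  haveI := hQ.1.1
  let s := ((minimalPrimes.finite_of_isNoetherianRing T).toFinset).erase P
  have hs : ∀ R ∈ s, R ∈ minimalPrimes T ∧ R ≠ P := fun R hR =>
    ⟨(minimalPrimes.finite_of_isNoetherianRing T).mem_toFinset.1 (Finset.mem_of_mem_erase hR), Finset.ne_of_mem_erase hR⟩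
  obtain ⟨u, hu, huP⟩ : ∃ u, u ∈ s.inf id ∧ u ∉ P := by
    refine SetLike.not_le_iff_exists.1 fun h => ?_
    obtain ⟨R, hR, hle⟩ := (Ideal.IsPrime.inf_le' ‹P.IsPrime›).1 h
    exact (hs R hR).2 (le_antisymm hle (hP.2 ⟨(hs R hR).1.1.1, bot_le⟩ hle))
  obtain ⟨v, hv, hvs⟩ : ∃ v, v ∈ P ∧ ∀ R ∈ s, v ∉ R := by
    have h : ¬ (P : Set T) ⊆ ⋃ R ∈ (↑s : Set (Ideal T)), (R : Set T) := fun h => by
      obtain ⟨R, hR, hle⟩ := (Ideal.subset_union_prime (f := id) ⊥ ⊥ (fun i hi _ _ => (hs i hi).1.1.1)).1 h
      exact (hs R hR).2 (le_antisymm ((hs R hR).1.2 ⟨‹P.IsPrime›, bot_le⟩ hle) hle)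
    obtain ⟨v, hv, hv'⟩ := Set.not_subset.1 h
    exact ⟨v, hv, fun R hR hvR => hv' (Set.mem_biUnion hR hvR)⟩
  have hc : ∀ R ∈ minimalPrimes T, u + v ∉ R ∧ u * v ∈ R := fun R hR => by
    by_cases h : R = P
    · subst h
      exact ⟨fun h' => huP (by simpa using R.sub_mem h' hv), R.mul_mem_left _ hv⟩
    · have hRs : R ∈ s := Finset.mem_erase.2 ⟨h, (minimalPrimes.finite_of_isNoetherianRing T).mem_toFinset.2 hR⟩
      have huR : u ∈ R := (Finset.inf_le hRs : s.inf id ≤ id R) hu
      exact ⟨fun h' => hvs R hRs (by simpa using R.sub_mem h' huR), R.mul_mem_right _ huR⟩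
  have hmax : ∀ R : Ideal T, R.IsPrime → algebraMap D T f ∈ R → R = maximalIdeal T := fun R hR hfR => by
    refine le_antisymm (IsLocalRing.le_maximalIdeal hR.ne_top) fun x hx => ?_
    haveI := hR
    have hD : R.comap (algebraMap D T) = maximalIdeal D := IsLocalRing.eq_maximalIdeal
      ((Ideal.IsPrime.comap (algebraMap D T)).isMaximal_of_ne_bot fun h0 => hf0 ((Submodule.eq_bot_iff _).1 h0 f hfR))
    obtain ⟨a, ha⟩ := hap x 1
    rw [pow_one] at ha
    have h1 : x - algebraMap D T a ∈ maximalIdeal T := (Ideal.span_singleton_le_iff_mem _).2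
      ((IsLocalRing.le_maximalIdeal hR.ne_top) hfR) ha
    have h2 : algebraMap D T a ∈ maximalIdeal T := by simpa using (maximalIdeal T).sub_mem hx h1
    have h3 : a ∈ maximalIdeal D := fun hu => (mem_maximalIdeal _).1 h2 (hu.map _)
    simpa using R.add_mem ((Ideal.span_singleton_le_iff_mem R).2 hfR ha) (Ideal.mem_comap.1 (hD.ge h3))
  have hfnil : algebraMap D T f ∈ (Ideal.span {u + v}).radical := by
    rw [Ideal.radical_eq_sInf, Ideal.mem_sInf]
    rintro R ⟨hle, hR⟩
    by_contra hfR
    haveI := hR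
    obtain ⟨R₀, hR₀, hR₀le⟩ := Ideal.exists_minimalPrimes_le (I := (⊥ : Ideal T)) (J := R) bot_le
    haveI := hR₀.1.1
    have hne0 : R₀ ≠ R := fun h => (hc R₀ hR₀).1 (h ▸ hle (Ideal.mem_span_singleton_self _))
    have hlt : R < maximalIdeal T := lt_of_le_of_ne (IsLocalRing.le_maximalIdeal hR.ne_top) fun h =>
      hfR (h ▸ map_nonunit (algebraMap D T) f hfm)
    have h1 : (maximalIdeal T).height ≤ 1 := by
      haveI : (Ideal.span {algebraMap D T f}).IsPrincipal := ⟨_, rfl⟩
      refine Ideal.height_le_one_of_isPrincipal_of_mem_minimalPrimes (Ideal.span {algebraMap D T f}) _ ?_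
      exact ⟨⟨inferInstance, (Ideal.span_singleton_le_iff_mem _).2 (map_nonunit (algebraMap D T) f hfm)⟩,
        fun R' hR' _ => (hmax R' hR'.1 (hR'.2 (Ideal.mem_span_singleton_self _))).ge⟩
    have h2 := Ideal.height_strict_mono_of_isPrime_of_isPrime (lt_of_le_of_ne hR₀le hne0)
    have h3 := Ideal.height_strict_mono_of_isPrime_of_isPrime hlt
    exact absurd ((Order.add_one_le_of_lt h2).trans_lt (h3.trans_le h1)) (not_lt.2 le_add_self)
  obtain ⟨n, hn⟩ := hfnil
  obtain ⟨d, hd⟩ := Ideal.mem_span_singleton'.1 hn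
  obtain ⟨a, ha⟩ := hap (d * u) n
  obtain ⟨w, hw⟩ := Ideal.mem_span_singleton'.1 ha
  set y := f ^ n
  have hy : algebraMap D T y = algebraMap D T f ^ n := map_pow _ _ _
  rw [← hy] at hw hd
  have hxa : d * u = algebraMap D T a + w * algebraMap D T y := by rw [hw]; ring
  have hnil : IsNilpotent (d * u * (d * v)) := by
    refine mem_nilradical.1 ?_
    show _ ∈ (⊥ : Ideal T).radical
    rw [← Ideal.sInf_minimalPrimes, Ideal.mem_sInf]
    intro R hR
    rw [show d * u * (d * v) = d * d * (u * v) by ring]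
    exact R.mul_mem_left _ (hc R hR).2
  obtain ⟨k, hk⟩ := hnil
  let J := Ideal.span ({a, y} : Set D)
  have hexp : ∀ k : ℕ, ∀ c₁ c₀ : T, (algebraMap D T a ^ 2 + c₁ * algebraMap D T a * algebraMap D T y +
      c₀ * algebraMap D T y ^ 2) ^ (k + 1) - algebraMap D T (a ^ (2 * (k + 1))) ∈
      (Ideal.span {y} * J ^ (2 * k + 1)).map (algebraMap D T) := by
    intro k c₁ c₀
    have haJ : algebraMap D T a ∈ J.map (algebraMap D T) := Ideal.mem_map_of_mem _ (Ideal.subset_span (by simp))
    have hyJ : algebraMap D T y ∈ J.map (algebraMap D T) := Ideal.mem_map_of_mem _ (Ideal.subset_span (by simp))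
    have hr : c₁ * algebraMap D T a * algebraMap D T y + c₀ * algebraMap D T y ^ 2 ∈
        (Ideal.span {y}).map (algebraMap D T) * J.map (algebraMap D T) := by
      have hyy : algebraMap D T y ∈ (Ideal.span {y}).map (algebraMap D T) :=
        Ideal.mem_map_of_mem _ (Ideal.mem_span_singleton_self y)
      rw [show c₁ * algebraMap D T a * algebraMap D T y + c₀ * algebraMap D T y ^ 2 =
        algebraMap D T y * (c₁ * algebraMap D T a + c₀ * algebraMap D T y) by ring]
      exact Ideal.mul_mem_mul hyy (Ideal.add_mem _ (Ideal.mul_mem_left _ _ haJ) (Ideal.mul_mem_left _ _ hyJ))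
    induction k with
    | zero =>
      rw [Ideal.map_mul, Nat.mul_zero, zero_add, pow_one, pow_one]
      simpa [add_assoc, map_pow] using hr
    | succ k ih =>
      rw [Ideal.map_mul, Ideal.map_pow] at ih ⊢
      have hz := Ideal.mul_mem_mul ih (show algebraMap D T a ^ 2 + c₁ * algebraMap D T a * algebraMap D T y +
          c₀ * algebraMap D T y ^ 2 ∈ J.map (algebraMap D T) ^ 2 from by
        rw [add_assoc]
        refine Ideal.add_mem _ (Ideal.pow_mem_pow haJ 2) ?_
        refine (Ideal.mul_mono_left ?_ : _ ≤ J.map (algebraMap D T) * J.map (algebraMap D T)).trans (sq _).ge hr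
        exact Ideal.map_mono (Ideal.span_mono (Set.singleton_subset_iff.2 (by simp))))
      have hz' := Ideal.mul_mem_mul hr (Ideal.pow_mem_pow haJ (2 * (k + 1)))
      rw [mul_assoc, ← pow_succ'] at hz'
      rw [mul_assoc, ← pow_add] at hz
      convert Ideal.add_mem _ hz hz' using 1
      · rw [show 2 * (k + 1) + 1 = 2 * k + 1 + 2 by omega]
      · simp only [map_pow]
        ring
  let c₁ := 2 * w - 1
  let c₀ := w * w - w
  have hpoly : algebraMap D T a ^ 2 + c₁ * algebraMap D T a * algebraMap D T y + c₀ * algebraMap D T y ^ 2 =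
      -(d * u * (d * v)) := by
    rw [show d * v = algebraMap D T y - d * u by rw [← hd]; ring, hxa]
    ring
  have hmem : a ^ (2 * (k + 1)) ∈ Ideal.span {y} * J ^ (2 * k + 1) := by
    rw [← Ideal.comap_map_eq_self_of_faithfullyFlat (B := T) (Ideal.span {y} * J ^ (2 * k + 1)), Ideal.mem_comap]
    have := hexp k c₁ c₀
    rw [hpoly, neg_pow, pow_succ (d * u * (d * v)), hk, zero_mul, mul_zero, zero_sub] at this
    exact (neg_mem_iff).1 this
  let K := FractionRing D
  have hy0 : algebraMap D K y ≠ 0 := fun h => pow_ne_zero n hf0 (IsFractionRing.injective D K (h.trans (map_zero _).symm))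
  let b := algebraMap D K a / algebraMap D K y
  have hb : IsIntegral D b := by
    obtain ⟨z, hz, he⟩ := Ideal.mem_span_singleton_mul.1 hmem
    obtain ⟨g, hg, hgz⟩ := exists_poly_of_mem_pow a y hy0 _ z hz
    refine ⟨X ^ (2 * (k + 1)) - g, monic_X_pow_sub (lt_of_le_of_lt degree_le_natDegree (by exact_mod_cast Nat.lt_of_le_of_lt hg (by omega))), ?_⟩
    rw [← aeval_def, map_sub, map_pow, aeval_X, sub_eq_zero, div_pow, div_eq_iff (pow_ne_zero _ hy0), ← map_pow,
      ← he, map_mul, hgz]
    ring
  let B := Algebra.adjoin D ({b} : Set K)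
  haveI : Algebra.IsIntegral D B := Algebra.IsIntegral.adjoin fun z hz => (Set.mem_singleton_iff.1 hz) ▸ hb
  haveI : IsLocalRing B := HensFormalLib.isLocalRing_of_integral_domain D B
  let bB : B := ⟨b, Algebra.self_mem_adjoin_singleton D b⟩
  let φ : D[X] →ₐ[D] B := aeval bB
  have hφ : Function.Surjective φ := fun z => by
    obtain ⟨g, hg⟩ : ∃ g : D[X], aeval b g = z.1 := (Algebra.adjoin_singleton_eq_range_aeval D b).le z.2
    exact ⟨g, Subtype.ext ((aeval_algHom_apply B.val bB g).symm.trans hg)⟩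
  let k₀ := T ⧸ maximalIdeal T
  have hk : ∀ z : k₀, ∃ c : D, algebraMap D k₀ c = z := fun z => by
    obtain ⟨x, rfl⟩ := Ideal.Quotient.mk_surjective z
    obtain ⟨c, hc⟩ := hap x 1
    refine ⟨c, (Ideal.Quotient.eq.2 ?_).symm⟩
    rw [pow_one] at hc
    exact (Ideal.span_singleton_le_iff_mem _).2 (map_nonunit (algebraMap D T) f hfm) hc
  have hker : ∀ (R : Ideal T), R ∈ minimalPrimes T → ∀ e : T, algebraMap D T a - e * algebraMap D T y ∈ R →
      RingHom.ker (aeval (Ideal.Quotient.mk (maximalIdeal T) e) : D[X] →ₐ[D] k₀) =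
        (maximalIdeal B).comap φ.toRingHom := by
    intro R hR e he
    haveI := hR.1.1
    let ev : D[X] →ₐ[D] k₀ := aeval (Ideal.Quotient.mk (maximalIdeal T) e)
    let L := FractionRing (T ⧸ R)
    have hinj : Function.Injective (algebraMap D L) := by
      rw [IsScalarTower.algebraMap_eq D (T ⧸ R) L]
      refine (IsFractionRing.injective (T ⧸ R) L).comp
        ((injective_iff_map_eq_zero (algebraMap D (T ⧸ R))).2 fun c hc => ?_)
      have : c ∈ R.comap (algebraMap D T) := (Ideal.Quotient.eq_zero_iff_mem (I := R)).1 hc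
      rwa [hbot R hR] at this
    let σ : K →ₐ[D] L := IsFractionRing.liftAlgHom (g := Algebra.ofId D L) hinj
    have hσ : σ b = algebraMap (T ⧸ R) L (Ideal.Quotient.mk R e) := by
      have h1 : algebraMap D L a = algebraMap (T ⧸ R) L (Ideal.Quotient.mk R e) * algebraMap D L y := by
        rw [IsScalarTower.algebraMap_apply D (T ⧸ R) L a, IsScalarTower.algebraMap_apply D (T ⧸ R) L y, ← map_mul]
        refine congrArg _ ?_
        show Ideal.Quotient.mk R _ = Ideal.Quotient.mk R e * Ideal.Quotient.mk R _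
        rw [← map_mul]
        exact Ideal.Quotient.eq.2 he
      show σ (algebraMap D K a / algebraMap D K y) = _
      rw [map_div₀, AlgHom.commutes, AlgHom.commutes, div_eq_iff ((map_ne_zero_iff _ hinj).2 (pow_ne_zero n hf0)), h1]
    have hle : RingHom.ker φ ≤ RingHom.ker ev := fun g hg => by
      have h1 : aeval b g = 0 := (aeval_algHom_apply B.val bB g).trans ((congrArg B.val (RingHom.mem_ker.1 hg)).trans (map_zero _))
      have h2 := congrArg σ h1
      rw [← aeval_algHom_apply, hσ, map_zero, aeval_algebraMap_apply, map_eq_zero_iff _ (IsFractionRing.injective (T ⧸ R) L),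
        ← Ideal.Quotient.mkₐ_eq_mk D R, aeval_algHom_apply, Ideal.Quotient.mkₐ_eq_mk, Ideal.Quotient.eq_zero_iff_mem] at h2
      show ev g = 0
      show aeval (Ideal.Quotient.mkₐ D (maximalIdeal T) e) g = 0
      rw [aeval_algHom_apply, Ideal.Quotient.mkₐ_eq_mk, Ideal.Quotient.eq_zero_iff_mem]
      exact IsLocalRing.le_maximalIdeal hR.1.1.ne_top h2
    letI : Field k₀ := Ideal.Quotient.field (maximalIdeal T)
    haveI : (RingHom.ker ev).IsMaximal := RingHom.ker_isMaximal_of_surjective ev.toRingHom fun z => by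
      obtain ⟨c, rfl⟩ := hk z
      exact ⟨C c, aeval_C _ _⟩
    rcases Ideal.map_eq_top_or_isMaximal_of_surjective φ.toRingHom hφ ‹(RingHom.ker ev).IsMaximal› with h | h
    · exfalso
      have h1 := congrArg (Ideal.comap φ.toRingHom) h
      rw [Ideal.comap_map_of_surjective φ.toRingHom hφ, Ideal.comap_top, ← RingHom.ker_eq_comap_bot, sup_eq_left.2 (show RingHom.ker φ.toRingHom ≤ RingHom.ker ev from hle)] at h1
      exact Ideal.IsMaximal.ne_top ‹_› h1
    · have h1 := congrArg (Ideal.comap φ.toRingHom) (IsLocalRing.eq_maximalIdeal h)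
      rwa [Ideal.comap_map_of_surjective φ.toRingHom hφ, ← RingHom.ker_eq_comap_bot, sup_eq_left.2 (show RingHom.ker φ.toRingHom ≤ RingHom.ker ev from hle)] at h1
  have hQ' : algebraMap D T a - (-w) * algebraMap D T y ∈ Q := by
    rw [show algebraMap D T a - (-w) * algebraMap D T y = d * u by rw [hxa]; ring]
    refine Q.mul_mem_left _ ((Finset.inf_le ?_ : s.inf id ≤ id Q) hu)
    exact Finset.mem_erase.2 ⟨Ne.symm hne, (minimalPrimes.finite_of_isNoetherianRing T).mem_toFinset.2 hQ⟩
  have hP' : algebraMap D T a - (1 - w) * algebraMap D T y ∈ P := by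
    rw [show algebraMap D T a - (1 - w) * algebraMap D T y = -(d * v) by
      rw [show d * v = algebraMap D T y - d * u by rw [← hd]; ring, hxa]; ring]
    exact P.neg_mem (P.mul_mem_left _ hv)
  obtain ⟨c, hcc⟩ := hk (Ideal.Quotient.mk (maximalIdeal T) (-w))
  have h1 : (X - C c : D[X]) ∈ RingHom.ker (aeval (Ideal.Quotient.mk (maximalIdeal T) (-w)) : D[X] →ₐ[D] k₀) := by
    rw [RingHom.mem_ker, map_sub, aeval_X, aeval_C, hcc, sub_self]
  rw [hker Q hQ _ hQ', ← hker P hP _ hP', RingHom.mem_ker, map_sub, aeval_X, aeval_C, hcc, ← map_sub,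
    Ideal.Quotient.eq_zero_iff_mem, show (1 - w) - -w = (1 : T) by ring] at h1
  exact (maximalIdeal.isMaximal T).ne_top ((Ideal.eq_top_iff_one _).2 h1)

theorem card_minimalPrimes_completion (S : Type u) [CommRing S] [HenselianLocalRing S] [IsNoetherianRing S]
    (hS : ringKrullDim S ≤ 1) :
    ENat.card (minimalPrimes (AdicCompletion (maximalIdeal S) S)) = ENat.card (minimalPrimes S) := by
  classical
  let T := AdicCompletion (maximalIdeal S) S
  obtain ⟨hT, hff, -, -, -⟩ := NormalLib.completion_props S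
  haveI : IsNoetherianRing T := hT
  haveI : Module.FaithfullyFlat S T := hff
  have hK : (maximalIdeal S).FG := IsNoetherian.noetherian _
  have h1 : ∀ p : minimalPrimes S, ENat.card (minimalPrimes (T ⧸ p.1.map (algebraMap S T))) = 1 := by
    intro p
    haveI := p.2.1.1
    rw [card_minimalPrimes_quotient, ← radical_isPrime_iff]
    by_cases hp : p.1 = maximalIdeal S
    · rw [hp, ← AdicCompletion.maximalIdeal_eq_map_of_fg hK]
      exact (Ideal.IsPrime.radical (maximalIdeal.isMaximal T).isPrime).symm ▸ (maximalIdeal.isMaximal T).isPrime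
    let D := S ⧸ p.1
    let T' := T ⧸ p.1.map (algebraMap S T)
    haveI : IsLocalRing D := IsLocalRing.of_surjective' _ Ideal.Quotient.mk_surjective
    haveI : HenselianLocalRing D := Groth.Agent.S16174.henselian_quot p.1 p.2.1.1.ne_top
    haveI : Module.FaithfullyFlat (S ⧸ p.1) T' :=
      Module.FaithfullyFlat.of_linearEquiv _ _ (Algebra.TensorProduct.quotIdealMapEquivQuotTensor T p.1).toLinearEquiv
    have hne : p.1.map (algebraMap S T) ≠ ⊤ := fun h => p.2.1.1.ne_top <| by
      rw [← Ideal.comap_map_eq_self_of_faithfullyFlat (B := T) p.1, h, Ideal.comap_top]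
    haveI : Nontrivial T' := Ideal.Quotient.nontrivial_iff.2 hne
    haveI : IsLocalRing T' := IsLocalRing.of_surjective' _ Ideal.Quotient.mk_surjective
    haveI : IsLocalHom (algebraMap D T') := ⟨fun z hz => by
      obtain ⟨c, rfl⟩ := Ideal.Quotient.mk_surjective z
      haveI : IsLocalHom (Ideal.Quotient.mk (p.1.map (algebraMap S T))) :=
        IsLocalHom.of_surjective _ Ideal.Quotient.mk_surjective
      exact ((isUnit_map_iff (algebraMap S T) c).1 ((isUnit_map_iff (Ideal.Quotient.mk _) _).1 hz)).map _⟩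
    haveI : Ring.KrullDimLE 1 D := Ring.krullDimLE_iff.2 ((ringKrullDim_quotient_le p.1).trans hS)
    obtain ⟨f₀, hf₀, hf₀p⟩ := SetLike.exists_of_lt (lt_of_le_of_ne (IsLocalRing.le_maximalIdeal p.2.1.1.ne_top) hp)
    let f : D := Ideal.Quotient.mk p.1 f₀
    have hfm : f ∈ maximalIdeal D := by
      haveI : IsLocalHom (Ideal.Quotient.mk p.1) := IsLocalHom.of_surjective _ Ideal.Quotient.mk_surjective
      exact map_nonunit _ _ hf₀
    have hf0 : f ≠ 0 := fun h => hf₀p (Ideal.Quotient.eq_zero_iff_mem.1 h)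
    have hprime := nilradical_prime_of_dense D T' f hf0 hfm fun x N => by
      obtain ⟨x, rfl⟩ := Ideal.Quotient.mk_surjective x
      have hrad : maximalIdeal S ≤ (p.1 ⊔ Ideal.span {f₀ ^ N}).radical := by
        rw [Ideal.radical_eq_sInf]
        refine le_sInf fun R hR => ?_
        haveI := hR.2
        have hR' : (R.map (Ideal.Quotient.mk p.1)).IsPrime :=
          Ideal.map_isPrime_of_surjective Ideal.Quotient.mk_surjective (by rw [Ideal.mk_ker]; exact le_sup_left.trans hR.1)
        have hfR : f₀ ∈ R := hR.2.mem_of_pow_mem N (hR.1 (Ideal.mem_sup_right (Ideal.mem_span_singleton_self _)))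
        haveI : (R.map (Ideal.Quotient.mk p.1)).IsMaximal := hR'.isMaximal_of_ne_bot fun h0 =>
          hf0 ((Submodule.eq_bot_iff _).1 h0 f (Ideal.mem_map_of_mem _ hfR))
        have hRmax := Ideal.comap_isMaximal_of_surjective (Ideal.Quotient.mk p.1) Ideal.Quotient.mk_surjective
          (K := R.map (Ideal.Quotient.mk p.1))
        rw [Ideal.comap_map_of_surjective _ Ideal.Quotient.mk_surjective, ← RingHom.ker_eq_comap_bot, Ideal.mk_ker,
          sup_eq_left.2 (le_sup_left.trans hR.1)] at hRmax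
        exact (IsLocalRing.eq_maximalIdeal hRmax).ge
      obtain ⟨k, hk⟩ := Ideal.exists_pow_le_of_le_radical_of_fg hrad hK
      obtain ⟨a, ha⟩ := AdicRingLib.exists_sub_mem_map_pow hK k x
      refine ⟨Ideal.Quotient.mk p.1 a, ?_⟩
      have h2 := Ideal.mem_map_of_mem (Ideal.Quotient.mk (p.1.map (algebraMap S T))) (Ideal.map_mono hk ha)
      rw [Ideal.map_sup, Ideal.map_sup, Ideal.map_quotient_self, bot_sup_eq, Ideal.map_span, Ideal.map_span,
        Set.image_singleton, Set.image_singleton, map_sub, map_pow, map_pow] at h2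
      exact h2
    have h3 := hprime.comap (Ideal.Quotient.mk (p.1.map (algebraMap S T)))
    rwa [nilradical, Ideal.comap_radical, Ideal.zero_eq_bot, ← RingHom.ker_eq_comap_bot, Ideal.mk_ker] at h3
  rw [card_minimalPrimes_eq_tsum S T]
  simp_rw [h1]
  haveI := (minimalPrimes.finite_of_isNoetherianRing S).to_subtype
  haveI := Fintype.ofFinite (minimalPrimes S)
  rw [tsum_fintype, ENat.card_eq_coe_fintype_card, Finset.sum_const, Finset.card_univ, nsmul_eq_mul, mul_one]

end

end HenselBranchLib
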