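import Groth.Agent.HenselBranchLib.NbhdCount
import Mathlib.RingTheory.AdicCompletion.LocalRing

/-! Branch numbers increase along flat local homomorphisms. -/

set_option autoImplicit false
set_option linter.style.haveILetI false
set_option linter.overlappingInstances false
set_option maxHeartbeats 1000000
set_option backward.isDefEq.respectTransparency false
universe u

open IsLocalRing

namespace HenselBranchLib

noncomputable section

variable (A B : Type u) [CommRing A] [IsLocalRing A] [CommRing B] [IsLocalRing B] [Algebra A B] [Module.Flat A B]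
  [IsLocalHom (algebraMap A B)]

theorem isLocalization_self : IsLocalization.AtPrime A (maximalIdeal A) :=
  IsLocalization.self fun _ ha => notMem_maximalIdeal.1 ha

theorem card_le_of_flat (S T : Type u) [CommRing S] [IsLocalRing S] [Algebra A S] [Module.Flat A S]
    [IsLocalHom (algebraMap A S)] [CommRing T] [HenselianLocalRing T] [Algebra B T] [Module.Flat B T]
    [IsLocalHom (algebraMap B T)] (hcov : ∀ x : S, HenselLib.EtCov (R := A) x)
    (h : (∀ s : S, ∃ a : A, s - algebraMap A S a ∈ maximalIdeal S) ∨ IsSepClosed (ResidueField T)) :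
    ENat.card (minimalPrimes S) ≤ ENat.card (minimalPrimes T) := by
  haveI := isLocalization_self A
  letI : Algebra A T := ((algebraMap B T).comp (algebraMap A B)).toAlgebra
  haveI : IsScalarTower A B T := .of_algebraMap_eq' rfl
  haveI : Module.Flat A T := Module.Flat.trans A B T
  haveI : IsLocalHom (algebraMap A T) := RingHom.isLocalHom_comp (algebraMap B T) (algebraMap A B)
  refine ENat.forall_natCast_le_iff_le.1 fun n hn => ?_
  obtain ⟨E, _, _, q, hq, het, hqm, hcard, hfr⟩ := exists_nbhd_card_ge (R := A) (maximalIdeal A) A S hcov n hn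
  haveI := hq
  haveI := het
  exact hcard.trans (card_nbhd_le (R := A) (maximalIdeal A) A T E q hqm (h.imp_left hfr))

theorem numBranches_le_of_flat : Brnch.numBranches A ≤ Brnch.numBranches B := by
  let S := HenselLib.HR A
  let T := HenselLib.HR B
  haveI : HenselianLocalRing S := Hensel.IsHenselization.henselian (R := A)
  haveI : Module.FaithfullyFlat A S := Groth.Agent.S0509.result A S
  haveI : HenselianLocalRing T := Hensel.IsHenselization.henselian (R := B)
  haveI : Module.FaithfullyFlat B T := Groth.Agent.S0509.result B T
  rw [← Groth.Agent.S9237.result A S, ← Groth.Agent.S9237.result B T]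
  obtain ⟨e⟩ := HenselLib.nonempty_algEquiv_HR (R := A) S
  refine card_le_of_flat A B S T (HenselLib.etCov_of_algEquiv e (HenselLib.etCov_hens _)) (Or.inl fun s => ?_)
  obtain ⟨c, hc⟩ := (Groth.Agent.S0508.result A S).2 (residue S s)
  obtain ⟨a, rfl⟩ := residue_surjective c
  exact ⟨a, (residue_eq_zero_iff _).1 (by rw [map_sub, ← hc]; exact sub_self _)⟩

theorem numGeomBranches_le_of_flat : Brnch.numGeomBranches A ≤ Brnch.numGeomBranches B := by
  let S := HenselLib.SH A
  let T := HenselLib.SH B
  haveI : HenselianLocalRing T := Hensel.IsStrictHenselization.henselian (R := B)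
  haveI := (Hensel.IsStrictHenselization.isSepClosure (R := B) (S := T)).sep_closed
  haveI : Module.FaithfullyFlat A S := Groth.Agent.S0539.result A S
  haveI : Module.FaithfullyFlat B T := Groth.Agent.S0539.result B T
  rw [← Groth.Agent.S9238.result A S, ← Groth.Agent.S9238.result B T]
  obtain ⟨e⟩ := HenselLib.nonempty_algEquiv_SH (R := A) S
  exact card_le_of_flat A B S T (HenselLib.etCov_of_algEquiv e (HenselLib.etCov_hens _)) (Or.inr ‹_›)

theorem numBranches_le_completion (A : Type u) [CommRing A] [IsLocalRing A] [IsNoetherianRing A] :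
    Brnch.numBranches A ≤ Brnch.numBranches (AdicCompletion (maximalIdeal A) A) ∧
      Brnch.numGeomBranches A ≤ Brnch.numGeomBranches (AdicCompletion (maximalIdeal A) A) := by
  haveI : Module.Flat A (AdicCompletion (maximalIdeal A) A) := AdicCompletion.flat_of_isNoetherian _
  exact ⟨numBranches_le_of_flat A _, numGeomBranches_le_of_flat A _⟩

end

end HenselBranchLib
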