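import Groth.Agent.HenselBranchLib.DimOne
import Groth.Agent.HenselBranchLib.Mono
import Groth.Agent.S0540

/-! A one-dimensional Noetherian local ring and its completion have the same branches. -/

set_option autoImplicit false
set_option linter.style.haveILetI false
set_option linter.overlappingInstances false
set_option maxHeartbeats 1000000
set_option backward.isDefEq.respectTransparency false
universe u

open IsLocalRing

namespace HenselBranchLib

noncomputable section

theorem exists_completion_algebra (A S : Type u) [CommRing A] [IsLocalRing A] [IsNoetherianRing A] [CommRing S]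
    [IsLocalRing S] [IsNoetherianRing S] [Algebra A S] [Module.Flat A S] [IsLocalHom (algebraMap A S)] :
    ∃ _ : Algebra (AdicCompletion (maximalIdeal A) A) (AdicCompletion (maximalIdeal S) S),
      Module.Flat (AdicCompletion (maximalIdeal A) A) (AdicCompletion (maximalIdeal S) S) ∧
      IsLocalHom (algebraMap (AdicCompletion (maximalIdeal A) A) (AdicCompletion (maximalIdeal S) S)) := by
  haveI := (NormalLib.completion_props S).1
  let E := AdicCompletion (maximalIdeal S) S
  haveI : Module.Flat A E := Module.Flat.trans A S E
  haveI : IsLocalHom (algebraMap A E) := by rw [IsScalarTower.algebraMap_eq A S E]; infer_instance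
  let θ : A →+* E := algebraMap A E
  have hθ : (maximalIdeal A).map θ ≤ maximalIdeal E := ((local_hom_TFAE θ).out 0 2).1 ‹_›
  let ψ := CompleteLib.completionLift (maximalIdeal A) (maximalIdeal E) θ hθ
  letI : Algebra (AdicCompletion (maximalIdeal A) A) E := ψ.toAlgebra
  haveI : IsScalarTower A (AdicCompletion (maximalIdeal A) A) E :=
    IsScalarTower.of_algebraMap_eq fun a => (CompleteLib.completionLift_algebraMap _ _ θ hθ a).symm
  refine ⟨inferInstance, CatLib.flat_completion_of_flat (A := A) (B := E), ?_⟩
  refine ((local_hom_TFAE (algebraMap (AdicCompletion (maximalIdeal A) A) E)).out 0 2).2 ?_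
  rw [AdicCompletion.maximalIdeal_eq_map, Ideal.map_map, ← IsScalarTower.algebraMap_eq]
  exact hθ

theorem numGeomBranches_eq_card (T : Type u) [CommRing T] [HenselianLocalRing T] [IsSepClosed (ResidueField T)] :
    ENat.card (minimalPrimes T) = Brnch.numGeomBranches T := by
  haveI : IsLocalHom (algebraMap T T) := ⟨fun _ h => h⟩
  haveI : Algebra.IsAlgebraic (ResidueField T) (ResidueField T) := Algebra.IsAlgebraic.of_finite _ _
  exact card_eq_numGeomBranches T T fun x => ⟨T, inferInstance, inferInstance, inferInstance, AlgHom.id T T, x, rfl⟩

theorem numBranches_completion_eq (A : Type u) [CommRing A] [IsLocalRing A] [IsNoetherianRing A]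
    (hA : ringKrullDim A ≤ 1) :
    Brnch.numBranches (AdicCompletion (maximalIdeal A) A) = Brnch.numBranches A ∧
      Brnch.numGeomBranches (AdicCompletion (maximalIdeal A) A) = Brnch.numGeomBranches A := by
  constructor
  · refine le_antisymm ?_ (numBranches_le_completion A).1
    let S := HenselLib.HR A
    haveI : HenselianLocalRing S := Hensel.IsHenselization.henselian (R := A)
    haveI : Module.FaithfullyFlat A S := Groth.Agent.S0509.result A S
    haveI : IsNoetherianRing S := (Groth.Agent.S0511.result A S).1 ‹_›
    obtain ⟨e⟩ := HenselLib.nonempty_algEquiv_HR (R := A) S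
    have hdim : ringKrullDim S ≤ 1 :=
      (HenselLib.ringKrullDim_eq_of_etCov (R := A) (HenselLib.etCov_of_algEquiv e (HenselLib.etCov_hens _))).trans_le hA
    haveI := henselianLocalRing_completion S
    obtain ⟨_, _, _⟩ := exists_completion_algebra A S
    refine (numBranches_le_of_flat (AdicCompletion (maximalIdeal A) A) (AdicCompletion (maximalIdeal S) S)).trans (le_of_eq ?_)
    rw [← numBranches_eq_card, card_minimalPrimes_completion S hdim, Groth.Agent.S9237.result A S]
  · refine le_antisymm ?_ (numBranches_le_completion A).2
    let S := HenselLib.SH A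
    haveI : HenselianLocalRing S := Hensel.IsStrictHenselization.henselian (R := A)
    haveI := (Hensel.IsStrictHenselization.isSepClosure (R := A) (S := S)).sep_closed
    haveI : Module.FaithfullyFlat A S := Groth.Agent.S0539.result A S
    haveI : IsNoetherianRing S := (Groth.Agent.S0540.result A S).1 ‹_›
    obtain ⟨e⟩ := HenselLib.nonempty_algEquiv_SH (R := A) S
    have hdim : ringKrullDim S ≤ 1 :=
      (HenselLib.ringKrullDim_eq_of_etCov (R := A) (HenselLib.etCov_of_algEquiv e (HenselLib.etCov_hens _))).trans_le hA
    haveI := henselianLocalRing_completion S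
    obtain ⟨_, _, _⟩ := exists_completion_algebra A S
    haveI : IsSepClosed (ResidueField (AdicCompletion (maximalIdeal S) S)) :=
      AzInvLib.isSepClosed_of_ringEquiv (RingEquiv.ofBijective _
        (AdicCompletion.residueField_map_bijective_of_fg (R := S) (IsNoetherian.noetherian _)))
    refine (numGeomBranches_le_of_flat (AdicCompletion (maximalIdeal A) A) (AdicCompletion (maximalIdeal S) S)).trans (le_of_eq ?_)
    rw [← numGeomBranches_eq_card, card_minimalPrimes_completion S hdim, Groth.Agent.S9238.result A S]

end

end HenselBranchLib
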