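import Groth.Agent.AlgSpLib.ElemNbhd
import Groth.Agent.HenselBranchLib.NbhdCount

/-! Branches at elementary etale neighbourhoods of decent spaces. -/

set_option autoImplicit false
set_option linter.style.haveILetI false
set_option backward.isDefEq.respectTransparency false
universe u

open CategoryTheory CategoryTheory.Limits AlgebraicGeometry AlgSp

namespace HenselBranchLib

noncomputable section

theorem isEtaleNbhd_comp {W V U : Scheme.{u}} (g : W ⟶ V) (h : V ⟶ U) (w : W) [Etale g] [Etale h]
    (hg : Function.Bijective (g.residueFieldMap w)) (hh : Function.Bijective (h.residueFieldMap (g w))) :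
    Hens2.IsEtaleNbhd (g ≫ h) w (h (g w)) := by
  refine ⟨inferInstance, rfl, ?_⟩
  rw [Scheme.residueFieldMap_comp]
  exact hg.comp hh

/-- An etale morphism with trivial residue extension keeps the number of branches. -/
theorem numBranchesAt_eq_of_etale {V U : Scheme.{u}} (g : V ⟶ U) (v : V) [Etale g]
    (hg : Function.Bijective (g.residueFieldMap v)) :
    Brnch.numBranchesAt V v = Brnch.numBranchesAt U (g v) := by
  rw [numBranchesAt_eq V v, numBranchesAt_eq U (g v)]
  refine le_antisymm ?_ ?_
  · refine iSup_le fun W => iSup_le fun h => iSup_le fun w => iSup_le fun hw => ?_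
    obtain ⟨he, hb, hr⟩ := hw
    haveI := he
    subst hb
    exact le_iSup_of_le W (le_iSup_of_le (h ≫ g) (le_iSup_of_le w (le_iSup_of_le (isEtaleNbhd_comp h g w hr hg) le_rfl)))
  · refine iSup_le fun W => iSup_le fun h => iSup_le fun w => iSup_le fun hw => ?_
    obtain ⟨he, hb, hr⟩ := hw
    haveI := he
    have hb' : h w = g v := hb
    haveI : IsIso (h.residueFieldMap w) := (ConcreteCategory.isIso_iff_bijective _).2 hr
    let t : Spec (V.residueField v) ⟶ W :=
      Spec.map (g.residueFieldMap v) ≫ Spec.map (U.residueFieldCongr hb').hom ≫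
        inv (Spec.map (h.residueFieldMap w)) ≫ W.fromSpecResidueField w
    have ht : t ≫ h = V.fromSpecResidueField v ≫ g := by
      simp only [t, Category.assoc, ← Scheme.Hom.SpecMap_residueFieldMap_fromSpecResidueField, IsIso.inv_hom_id_assoc]
      rw [Scheme.residueFieldCongr_fromSpecResidueField]
    obtain ⟨p, hp, hpb, hsp⟩ := AlgSpLib.residueFieldMap_bijective_of_section (pullback.snd h g) v
      (pullback.lift t (V.fromSpecResidueField v) ht) (pullback.lift_snd _ _ _)
    have hpw : pullback.fst h g p = w := by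
      rw [← hsp (IsLocalRing.closedPoint _), ← Scheme.Hom.comp_apply, pullback.lift_fst]
      simp only [t, Scheme.Hom.comp_apply]
      exact Scheme.fromSpecResidueField_apply _ _
    refine le_trans ?_ (le_iSup_of_le _ (le_iSup_of_le (pullback.snd h g) (le_iSup_of_le p
      (le_iSup_of_le ⟨inferInstance, hp, hpb⟩ le_rfl))))
    rw [encard_components, encard_components]
    subst hpw
    algebraize [((pullback.fst h g).stalkMap p).hom]
    haveI : Module.Flat (W.presheaf.stalk (pullback.fst h g p)) ((pullback h g).presheaf.stalk p) :=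
      Flat.stalkMap (pullback.fst h g) p
    haveI : IsLocalHom (algebraMap (W.presheaf.stalk (pullback.fst h g p)) ((pullback h g).presheaf.stalk p)) :=
      inferInstanceAs (IsLocalHom ((pullback.fst h g).stalkMap p).hom)
    haveI := Module.FaithfullyFlat.of_flat_of_isLocalHom
      (A := W.presheaf.stalk (pullback.fst h g p)) (B := (pullback h g).presheaf.stalk p)
    exact card_minimalPrimes_le _ _

variable {S : Scheme.{u}} {X : Sp S} (hX : IsAlgSpace X) (hd : IsDecent X) {x : Points X}

include hX hd in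
/-- The number of branches at an elementary etale neighbourhood does not depend on it. -/
theorem numBranchesAt_elem_eq {U₁ U₂ : Over S} {a₁ : (yon S).obj U₁ ⟶ X} {a₂ : (yon S).obj U₂ ⟶ X}
    {u₁ : U₁.left} {u₂ : U₂.left} (h₁ : IsElemEtaleNbhd a₁ u₁ x) (h₂ : IsElemEtaleNbhd a₂ u₂ x) :
    Brnch.numBranchesAt U₁.left u₁ = Brnch.numBranchesAt U₂.left u₂ := by
  obtain ⟨W, p₁, p₂, v, hW, e, rfl, rfl⟩ := AlgSpLib.exists_elem_refine hX hd h₁ h₂
  obtain ⟨he₁, hb₁⟩ := AlgSpLib.bijective_residueFieldMap_of_elem hX hd p₁ h₁ hW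
  obtain ⟨he₂, hb₂⟩ := AlgSpLib.bijective_residueFieldMap_of_elem hX hd p₂ h₂ (e ▸ hW)
  haveI := he₁
  haveI := he₂
  exact (numBranchesAt_eq_of_etale p₁.left v hb₁).symm.trans (numBranchesAt_eq_of_etale p₂.left v hb₂)

theorem components_le_numBranchesAt (U : Scheme.{u}) (u : U) :
    {Z : Set U | Z ∈ irreducibleComponents U ∧ u ∈ Z}.encard ≤ Brnch.numBranchesAt U u := by
  rw [numBranchesAt_eq U u]
  refine le_iSup_of_le U (le_iSup_of_le (𝟙 U) (le_iSup_of_le u (le_iSup_of_le ⟨inferInstance, rfl, ?_⟩ le_rfl)))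
  rw [Scheme.residueFieldMap_id]
  exact Function.bijective_id

theorem one_le_components (U : Scheme.{u}) (u : U) :
    1 ≤ {Z : Set U | Z ∈ irreducibleComponents U ∧ u ∈ Z}.encard :=
  Set.one_le_encard_iff_nonempty.2 ⟨irreducibleComponent u, irreducibleComponent_mem_irreducibleComponents u,
    mem_irreducibleComponent⟩

/-- A bound on components at all elementary neighbourhoods bounds the branches. -/
theorem numBranchesAt_le_of_components {n : ℕ∞} (H : ∀ (U : Over S) (a : (yon S).obj U ⟶ X) (u : U.left),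
      IsElemEtaleNbhd a u x → {Z : Set U.left | Z ∈ irreducibleComponents U.left ∧ u ∈ Z}.encard ≤ n)
    {U : Over S} {a : (yon S).obj U ⟶ X} {u : U.left} (h : IsElemEtaleNbhd a u x) :
    Brnch.numBranchesAt U.left u ≤ n := by
  rw [numBranchesAt_eq U.left u]
  refine iSup_le fun W => iSup_le fun g => iSup_le fun w => iSup_le fun hw => ?_
  obtain ⟨he, hb, hr⟩ := hw
  haveI := he
  subst hb
  let W' : Over S := Over.mk (g ≫ U.hom)
  let g' : W' ⟶ U := Over.homMk g rfl
  haveI : Etale g'.left := he
  exact H W' _ w (AlgSpLib.isElemEtaleNbhd_comp g' (u' := w) h hr)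

/-- The number of branches is reached by the components of some elementary neighbourhood. -/
theorem exists_components_ge {n : ℕ} {U : Over S} {a : (yon S).obj U ⟶ X} {u : U.left} (h : IsElemEtaleNbhd a u x)
    (hn : (n : ℕ∞) ≤ Brnch.numBranchesAt U.left u) :
    ∃ (W : Over S) (b : (yon S).obj W ⟶ X) (w : W.left), IsElemEtaleNbhd b w x ∧
      (n : ℕ∞) ≤ {Z : Set W.left | Z ∈ irreducibleComponents W.left ∧ w ∈ Z}.encard := by
  rcases Nat.eq_zero_or_pos n with rfl | hn0
  · exact ⟨U, a, u, h, by simp⟩
  · have hlt : ((n - 1 : ℕ) : ℕ∞) < Brnch.numBranchesAt U.left u := lt_of_lt_of_le (by exact_mod_cast (by omega : n - 1 < n)) hn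
    rw [numBranchesAt_eq U.left u] at hlt
    simp only [lt_iSup_iff] at hlt
    obtain ⟨W, g, w, ⟨he, hb, hr⟩, hlt⟩ := hlt
    haveI := he
    subst hb
    let W' : Over S := Over.mk (g ≫ U.hom)
    let g' : W' ⟶ U := Over.homMk g rfl
    haveI : Etale g'.left := he
    refine ⟨W', _, w, AlgSpLib.isElemEtaleNbhd_comp g' (u' := w) h hr, ?_⟩
    have h2 := Order.add_one_le_of_lt hlt
    rw [show ((n - 1 : ℕ) : ℕ∞) + 1 = (n : ℕ∞) by exact_mod_cast (by omega : n - 1 + 1 = n)] at h2
    exact h2

end

end HenselBranchLib
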