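import Groth.Prelude.Def_EssEt
import Groth.Agent.HenselLib.Basic
import Groth.Agent.S0536
import Mathlib.RingTheory.Unramified.LocalRing
import Mathlib.RingTheory.Etale.Basic

/-! Maps out of essentially etale local algebras into henselian rings. -/

set_option autoImplicit false
set_option linter.style.haveILetI false
set_option maxHeartbeats 1000000
universe u

open IsLocalRing TensorProduct

namespace HenselBranchLib

noncomputable section

variable {A A' : Type u} [CommRing A] [IsLocalRing A] [CommRing A'] [IsLocalRing A'] [Algebra A A']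

omit [IsLocalRing A'] in
theorem map_maximal_of_essEt [IsLocalRing A'] (h : EGA4loc.IsEssentiallyEtale A A') :
    (maximalIdeal A).map (algebraMap A A') = maximalIdeal A' := by
  obtain ⟨C, _, _, q, hq, het, hqm, ⟨e⟩⟩ := h
  haveI := hq
  haveI : q.LiesOver (maximalIdeal A) := ⟨hqm.symm⟩
  letI := Localization.AtPrime.algebraOfLiesOver (maximalIdeal A) q
  haveI : Localization.AtPrime.IsLiesOverAlgebra (maximalIdeal A) q := inferInstance
  have h1 : (maximalIdeal A).map (algebraMap A (Localization.AtPrime q)) = maximalIdeal (Localization.AtPrime q) :=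
    ((Algebra.isUnramifiedAt_iff_map_eq A (maximalIdeal A) q).1 inferInstance).2
  have h2 := congrArg (Ideal.map (e.symm.toAlgHom.toRingHom)) h1
  rw [Ideal.map_map, show e.symm.toAlgHom.toRingHom.comp (algebraMap A (Localization.AtPrime q)) = algebraMap A A' from
    RingHom.ext fun a => e.symm.commutes a] at h2
  rw [h2]
  refine IsLocalRing.eq_maximalIdeal ?_
  exact Ideal.map_isMaximal_of_equiv e.symm.toRingEquiv

/-- Lifting along residue maps. -/
theorem existsUnique_lift_of_essEt [IsLocalHom (algebraMap A A')] (h : EGA4loc.IsEssentiallyEtale A A')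
    (T : Type u) [CommRing T] [HenselianLocalRing T] (ψ : A →+* T) [IsLocalHom ψ]
    (α : ResidueField A' →+* ResidueField T)
    (hα : α.comp (ResidueField.map (algebraMap A A')) = ResidueField.map ψ) :
    ∃! ψ' : A' →+* T, IsLocalHom ψ' ∧ ψ'.comp (algebraMap A A') = ψ ∧
      ∀ x : A', residue T (ψ' x) = α (residue A' x) := by
  obtain ⟨C, _, _, q, hq, het, hqm, ⟨e⟩⟩ := h
  haveI := hq
  haveI := het
  letI : Algebra A T := ψ.toAlgebra
  let ι : C →+* A' := e.symm.toAlgHom.toRingHom.comp (algebraMap C (Localization.AtPrime q))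
  have hι : ∀ a, ι (algebraMap A C a) = algebraMap A A' a := fun a => by
    show e.symm (algebraMap C _ (algebraMap A C a)) = _
    rw [← IsScalarTower.algebraMap_apply, e.symm.commutes]
  let σ : C →ₐ[A] T ⧸ maximalIdeal T := { α.comp ((residue A').comp ι) with
    commutes' := fun a => by
      show α (residue A' (ι (algebraMap A C a))) = residue T (ψ a)
      rw [hι]
      exact RingHom.congr_fun hα (residue A a) }
  obtain ⟨τ, hτ⟩ := Groth.Agent.S0536.result A C T (maximalIdeal T) σ
  have hτr : ∀ c, residue T (τ c) = α (residue A' (ι c)) := fun c => congr($hτ c)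
  have hιq : ∀ c, c ∉ q → IsUnit (ι c) := fun c hc =>
    (IsLocalization.map_units (Localization.AtPrime q) (⟨c, hc⟩ : q.primeCompl)).map e.symm.toAlgHom
  have hunit : ∀ y : q.primeCompl, IsUnit (τ.toRingHom y) := fun y => by
    refine notMem_maximalIdeal.1 fun hm => ?_
    have h1 := hτr y
    rw [show τ.toRingHom y = τ y from rfl] at hm
    rw [(residue_eq_zero_iff _).2 hm, eq_comm, map_eq_zero, residue_eq_zero_iff] at h1
    exact h1 (hιq y y.2)
  let L : Localization.AtPrime q →+* T := IsLocalization.lift hunit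
  let ψ' : A' →+* T := L.comp e.toAlgHom.toRingHom
  have hL : ∀ c, ψ' (ι c) = τ c := fun c => by
    show L (e (e.symm (algebraMap C _ c))) = _
    rw [e.apply_symm_apply]
    exact IsLocalization.lift_eq hunit c
  have hres : ∀ x, residue T (ψ' x) = α (residue A' x) := fun x => by
    obtain ⟨⟨c, s⟩, hcs⟩ := IsLocalization.surj q.primeCompl (e x)
    have h1 : x * ι s = ι c := by
      show x * e.symm (algebraMap C _ s) = e.symm (algebraMap C _ c)
      rw [← hcs, map_mul, e.symm_apply_apply]
    have h2 := congrArg (fun z => residue T (ψ' z)) h1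
    have h3 := congrArg (fun z => α (residue A' z)) h1
    simp only [map_mul, hL, hτr] at h2 h3
    have hu : IsUnit (α (residue A' (ι s))) := ((hιq s s.2).map (residue A')).map α
    exact hu.mul_left_inj.1 (h2.trans h3.symm)
  have hloc : IsLocalHom ψ' := ⟨fun x hx => by
    by_contra hnu
    have h1 := hres x
    rw [(residue_eq_zero_iff x).2 hnu, map_zero, residue_eq_zero_iff] at h1
    exact h1 hx⟩
  refine ⟨ψ', ⟨hloc, RingHom.ext fun a => ?_, hres⟩, fun φ ⟨_, hφ, hφr⟩ => ?_⟩
  · show ψ' (algebraMap A A' a) = ψ a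
    rw [← hι, hL, τ.commutes]
    rfl
  · let τ' : C →ₐ[A] T :=
      { φ.comp ι with
        commutes' := fun a => by
          show φ (ι (algebraMap A C a)) = _
          rw [hι]
          exact RingHom.congr_fun hφ a }
    have heq : τ' = τ := HenselLib.algHom_ext_of_sub_mem (J := maximalIdeal T)
      (IsLocalRing.maximalIdeal_le_jacobson _) τ' τ fun c => by
        rw [← residue_eq_zero_iff, map_sub, hτr, sub_eq_zero]
        exact hφr (ι c)
    refine RingHom.ext fun x => ?_
    obtain ⟨⟨c, s⟩, hcs⟩ := IsLocalization.surj q.primeCompl (e x)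
    have h1 : x * ι s = ι c := by
      show x * e.symm (algebraMap C _ s) = e.symm (algebraMap C _ c)
      rw [← hcs, map_mul, e.symm_apply_apply]
    have h2 := congrArg φ h1
    have h3 := congrArg ψ' h1
    rw [map_mul] at h2 h3
    rw [hL, hL] at h3
    rw [show φ (ι s) = τ s from congr($heq (s : C)), show φ (ι c) = τ c from congr($heq c)] at h2
    exact (hunit s).mul_left_inj.1 (h2.trans h3.symm)

/-- Strictly essentially etale: unique local lift. -/
theorem existsUnique_lift_of_strictEssEt [IsLocalHom (algebraMap A A')]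
    (h : EGA4loc.IsStrictlyEssentiallyEtale A A') (T : Type u) [CommRing T] [HenselianLocalRing T] (ψ : A →+* T)
    [IsLocalHom ψ] : ∃! ψ' : A' →+* T, IsLocalHom ψ' ∧ ψ'.comp (algebraMap A A') = ψ := by
  let ε := RingEquiv.ofBijective (ResidueField.map (algebraMap A A')) h.2
  let α : ResidueField A' →+* ResidueField T := (ResidueField.map ψ).comp ε.symm.toRingHom
  have hα : α.comp (ResidueField.map (algebraMap A A')) = ResidueField.map ψ := RingHom.ext fun z => by
    show ResidueField.map ψ (ε.symm (ε z)) = _
    rw [ε.symm_apply_apply]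
  obtain ⟨ψ', ⟨h1, h2, h3⟩, huniq⟩ := existsUnique_lift_of_essEt h.1 T ψ α hα
  refine ⟨ψ', ⟨h1, h2⟩, fun φ ⟨hφl, hφ⟩ => huniq φ ⟨hφl, hφ, fun x => ?_⟩⟩
  haveI := hφl
  obtain ⟨z, hz⟩ := h.2.2 (residue A' x)
  obtain ⟨a, rfl⟩ := residue_surjective z
  rw [← hz, show α (ResidueField.map (algebraMap A A') (residue A a)) = ResidueField.map ψ (residue A a) from
    RingHom.congr_fun hα _]
  rw [ResidueField.map_residue] at hz ⊢
  have h4 : residue T (φ x) = residue T (φ (algebraMap A A' a)) := by
    have h5 := congrArg (ResidueField.map φ) hz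
    rw [ResidueField.map_residue, ResidueField.map_residue] at h5
    exact h5.symm
  rw [h4, show φ (algebraMap A A' a) = ψ a from RingHom.congr_fun hφ a]

/-- Algebra maps out of essentially etale local algebras are local. -/
theorem isLocalHom_of_essEt (h : EGA4loc.IsEssentiallyEtale A A') (T : Type u) [CommRing T] [IsLocalRing T]
    [Algebra A T] [IsLocalHom (algebraMap A T)] (g : A' →ₐ[A] T) : IsLocalHom (g : A' →+* T) := by
  refine ((IsLocalRing.local_hom_TFAE (g : A' →+* T)).out 0 2).2 ?_
  rw [← map_maximal_of_essEt h, Ideal.map_map, AlgHom.comp_algebraMap]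
  exact ((IsLocalRing.local_hom_TFAE (algebraMap A T)).out 0 2).1 ‹IsLocalHom (algebraMap A T)›

end

end HenselBranchLib
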