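import Groth.Agent.HenselBranchLib.EtaleNbhdScheme
import Groth.Agent.S0536
import Groth.Agent.S0508

/-! Henselizations do not change along etale local maps with trivial residue extension. -/

set_option autoImplicit false
set_option linter.style.haveILetI false
set_option linter.overlappingInstances false
set_option maxHeartbeats 1000000
universe u

open IsLocalRing

namespace HenselBranchLib

noncomputable section

variable {R : Type u} [CommRing R] (m : Ideal R) [m.IsPrime] (A : Type u) [CommRing A] [IsLocalRing A]
  [Algebra R A] [IsLocalization.AtPrime A m]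

/-- A local map to a henselian ring extends uniquely along an etale neighbourhood. -/
theorem existsUnique_extension (E : Type u) [CommRing E] [Algebra R E] [Algebra.Etale R E] (q : Ideal E) [q.IsPrime]
    (B : Type u) [CommRing B] [IsLocalRing B] [Algebra E B] [IsLocalization.AtPrime B q] [Algebra A B]
    (hAB : ∀ c : R, algebraMap A B (algebraMap R A c) = algebraMap E B (algebraMap R E c))
    (hqm : q.comap (algebraMap R E) = m) (hfr : ApproxLib.IsFrac (algebraMap R E) q)
    (T : Type u) [CommRing T] [HenselianLocalRing T] (f : A →+* T) (hf : IsLocalHom f) :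
    ∃ g : B →+* T, IsLocalHom g ∧ g.comp (algebraMap A B) = f ∧
      ∀ g' : B →+* T, IsLocalHom g' → g'.comp (algebraMap A B) = f → g' = g := by
  letI : Algebra A T := f.toAlgebra
  letI : Algebra R T := (f.comp (algebraMap R A)).toAlgebra
  haveI : IsScalarTower R A T := .of_algebraMap_eq fun _ => rfl
  haveI : IsLocalHom (algebraMap A T) := hf
  obtain ⟨φ, hφ⟩ := exists_residueHom m A T E q hqm (Or.inl hfr)
  let σ : E →ₐ[R] T ⧸ maximalIdeal T := { φ.comp (algebraMap E q.ResidueField) with commutes' := hφ }
  obtain ⟨τ, hτ⟩ := Groth.Agent.S0536.result R E T (maximalIdeal T) σ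
  have hτm : ∀ e, τ e ∈ maximalIdeal T ↔ e ∈ q := fun e => by
    rw [← Ideal.Quotient.eq_zero_iff_mem]
    show (Ideal.Quotient.mkₐ R (maximalIdeal T)).comp τ e = 0 ↔ _
    rw [hτ]
    show φ (algebraMap E q.ResidueField e) = 0 ↔ _
    rw [map_eq_zero, Ideal.algebraMap_residueField_eq_zero]
  have hunit : ∀ y : q.primeCompl, IsUnit (τ.toRingHom y) := fun y =>
    notMem_maximalIdeal.1 fun h => y.2 ((hτm _).1 h)
  let g : B →+* T := IsLocalization.lift hunit
  have hg : ∀ e, g (algebraMap E B e) = τ e := IsLocalization.lift_eq hunit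
  have hgl : IsLocalHom g := ⟨fun z hz => by
    obtain ⟨⟨e, s⟩, hes⟩ := IsLocalization.surj q.primeCompl z
    have h1 : IsUnit (τ e) := by
      rw [← hg, ← hes, map_mul, hg]
      exact hz.mul (hunit s)
    have h2 := IsLocalization.map_units B (⟨e, fun he => (hτm e).2 he h1⟩ : q.primeCompl)
    rw [← hes] at h2
    exact isUnit_of_mul_isUnit_left h2⟩
  have hgA : g.comp (algebraMap A B) = f := IsLocalization.ringHom_ext m.primeCompl (RingHom.ext fun c => by
    show g (algebraMap A B (algebraMap R A c)) = f (algebraMap R A c)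
    rw [hAB, hg, τ.commutes]
    rfl)
  refine ⟨g, hgl, hgA, fun g' hg'l hg' => ?_⟩
  have hc : ∀ c : R, g' (algebraMap E B (algebraMap R E c)) = algebraMap R T c := fun c => by
    rw [← hAB]; exact RingHom.congr_fun hg' (algebraMap R A c)
  let τ' : E →ₐ[R] T := { g'.comp (algebraMap E B) with commutes' := hc }
  have hτ'm : ∀ e ∈ q, τ' e ∈ maximalIdeal T := fun e he => by
    haveI := hg'l
    exact fun hu => (IsLocalization.AtPrime.to_map_mem_maximal_iff B q e).2 he (isUnit_of_map_unit g' _ hu)
  have hτ' : τ' = τ := by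
    refine HenselLib.algHom_ext_of_sub_mem (J := maximalIdeal T) (IsLocalRing.maximalIdeal_le_jacobson _) τ' τ fun e => ?_
    obtain ⟨a, b, hb, hab⟩ := hfr e
    have h1 : τ' (e * algebraMap R E b - algebraMap R E a) ∈ maximalIdeal T := hτ'm _ hab
    have h2 : τ (e * algebraMap R E b - algebraMap R E a) ∈ maximalIdeal T := (hτm _).2 hab
    simp only [map_sub, map_mul, AlgHom.commutes] at h1 h2
    have h3 : (τ' e - τ e) * algebraMap R T b ∈ maximalIdeal T := by
      convert Ideal.sub_mem _ h1 h2 using 1; ring
    refine (Ideal.IsPrime.mem_or_mem inferInstance h3).resolve_right fun h4 => hb ((hτm _).1 ?_)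
    rwa [τ.commutes]
  refine IsLocalization.ringHom_ext q.primeCompl (RingHom.ext fun e => ?_)
  show g' (algebraMap E B e) = g (algebraMap E B e)
  rw [hg]
  exact congr($hτ' e)

/-- Henselizations compose with etale neighbourhoods. -/
theorem isHenselization_comp (E : Type u) [CommRing E] [Algebra R E] [Algebra.Etale R E] (q : Ideal E) [q.IsPrime]
    (B : Type u) [CommRing B] [IsLocalRing B] [Algebra E B] [IsLocalization.AtPrime B q] [Algebra A B]
    [IsLocalHom (algebraMap A B)]
    (hAB : ∀ c : R, algebraMap A B (algebraMap R A c) = algebraMap E B (algebraMap R E c))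
    (hqm : q.comap (algebraMap R E) = m) (hfr : ApproxLib.IsFrac (algebraMap R E) q)
    (S : Type u) [CommRing S] [IsLocalRing S] [Algebra B S] [IsLocalHom (algebraMap B S)] [hS : Hensel.IsHenselization B S]
    [Algebra A S] [IsScalarTower A B S] :
    ∃ (_ : IsLocalHom (algebraMap A S)), Hensel.IsHenselization A S := by
  haveI hl : IsLocalHom (algebraMap A S) := by
    rw [IsScalarTower.algebraMap_eq A B S]; infer_instance
  refine ⟨hl, ⟨hS.henselian, fun T _ _ f hf => ?_⟩⟩
  obtain ⟨g, hgl, hgA, hguniq⟩ := existsUnique_extension m A E q B hAB hqm hfr T f hf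
  obtain ⟨G, hG, hGuniq⟩ := hS.universal T g hgl
  refine ⟨G, (by rw [IsScalarTower.algebraMap_eq A B S, ← RingHom.comp_assoc, hG, hgA] : G.comp _ = f), fun G' hG' => hGuniq G' ?_⟩
  have hG'A : (G'.comp (algebraMap B S)).comp (algebraMap A B) = f := by
    rw [RingHom.comp_assoc, ← IsScalarTower.algebraMap_eq, hG']
  refine hguniq _ ⟨fun z hz => ?_⟩ hG'A
  by_contra hzu
  obtain ⟨⟨e, s⟩, hes⟩ := IsLocalization.surj q.primeCompl z
  have he : e ∈ q := by
    rw [← IsLocalization.AtPrime.to_map_mem_maximal_iff B q, ← hes]
    exact Ideal.mul_mem_right _ _ hzu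
  have hmE : algebraMap E B e ∈ (maximalIdeal A).map (algebraMap A B) := by
    have hle : q.map (algebraMap E B) ≤ (m.map (algebraMap R E)).map (algebraMap E B) := by
      haveI : q.LiesOver m := ⟨hqm.symm⟩
      letI := Localization.AtPrime.algebraOfLiesOver m q
      haveI : Localization.AtPrime.IsLiesOverAlgebra m q := inferInstance
      have h1 : m.map (algebraMap R (Localization.AtPrime q)) = maximalIdeal (Localization.AtPrime q) :=
        ((Algebra.isUnramifiedAt_iff_map_eq R m q).1 inferInstance).2
      let e' := IsLocalization.algEquiv q.primeCompl (Localization.AtPrime q) B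
      have h2 := congrArg (Ideal.map (e' : Localization.AtPrime q →+* B)) h1
      rw [← Localization.AtPrime.map_eq_maximalIdeal, Ideal.map_map, Ideal.map_map] at h2
      have k1 : (e' : Localization.AtPrime q →+* B).comp (algebraMap E (Localization.AtPrime q)) = algebraMap E B :=
        RingHom.ext fun x => e'.commutes x
      rw [IsScalarTower.algebraMap_eq R E (Localization.AtPrime q), ← RingHom.comp_assoc, k1, ← Ideal.map_map] at h2
      exact h2.ge
    have hmA : m.map (algebraMap R A) ≤ maximalIdeal A := (IsLocalization.AtPrime.map_eq_maximalIdeal m A).le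
    have h3 : (m.map (algebraMap R E)).map (algebraMap E B) ≤ (maximalIdeal A).map (algebraMap A B) := by
      rw [Ideal.map_map, ← show (algebraMap A B).comp (algebraMap R A) = (algebraMap E B).comp (algebraMap R E) from
        RingHom.ext hAB, ← Ideal.map_map]
      exact Ideal.map_mono hmA
    exact h3 (hle (Ideal.mem_map_of_mem _ he))
  haveI : IsLocalHom f := hf
  have h4 : G' (algebraMap B S (algebraMap E B e)) ∈ maximalIdeal T := by
    have h5 : ((maximalIdeal A).map (algebraMap A B)).map (G'.comp (algebraMap B S)) ≤ maximalIdeal T := by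
      rw [Ideal.map_map, hG'A]
      exact (IsLocalRing.local_hom_TFAE f).out 0 2 |>.1 hf
    exact h5 (Ideal.mem_map_of_mem _ hmE)
  rw [← hes, map_mul, map_mul] at h4
  exact h4 (hz.mul ((IsLocalization.map_units B s).map (G'.comp (algebraMap B S))))

end

end HenselBranchLib
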