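import Groth.Agent.HenselBranchLib.Unibranch
import Groth.Agent.HenselLib.EssEtTrans
import Groth.Agent.HenselLib.LocalCover
import Groth.Agent.BirUnibLib.Scheme
import Groth.Agent.ApproxLib.ChartPoint
import Groth.Agent.S0536
import Mathlib.RingTheory.Localization.AtPrime.Basic
import Mathlib.RingTheory.RingHom.FaithfullyFlat
import Mathlib.RingTheory.Unramified.LocalRing
import Mathlib.FieldTheory.IsSepClosed

/-! Minimal primes of a henselization and étale neighbourhoods. -/

set_option autoImplicit false
set_option linter.style.haveILetI false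
set_option linter.overlappingInstances false
set_option maxHeartbeats 1000000
universe u

open IsLocalRing

namespace HenselBranchLib

noncomputable section

theorem nilradical_prime_of_injective {B S : Type u} [CommRing B] [CommRing S] (f : B →+* S) (hf : Function.Injective f)
    (h : (nilradical S).IsPrime) : (nilradical B).IsPrime := by
  have : nilradical B = (nilradical S).comap f := le_antisymm (fun a ha => (mem_nilradical.1 ha).map _)
    fun a ha => mem_nilradical.2 ((IsNilpotent.map_iff hf).1 (mem_nilradical.1 ha))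
  rw [this]; exact h.comap f

variable {R : Type u} [CommRing R] (m : Ideal R) [m.IsPrime] (A : Type u) [CommRing A] [IsLocalRing A]
  [Algebra R A] [IsLocalization.AtPrime A m] (S : Type u) [CommRing S] [IsLocalRing S] [Algebra A S]
  [Module.Flat A S] [IsLocalHom (algebraMap A S)]

/-- Finitely many elements of the henselization come from one étale neighbourhood. -/
theorem exists_nbhd_of_finset (hcov : ∀ x : S, HenselLib.EtCov (R := A) x) (s : Finset S) :
    ∃ (E : Type u) (_ : CommRing E) (_ : Algebra R E) (q : Ideal E) (_ : q.IsPrime) (θ : Localization.AtPrime q →+* S),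
      Algebra.Etale R E ∧ q.comap (algebraMap R E) = m ∧
      (θ.FaithfullyFlat ∧ θ.comp (algebraMap R _) = (algebraMap A S).comp (algebraMap R A)) ∧ (∀ x ∈ s, ∃ y, θ y = x) ∧
      ((∀ s : S, ∃ a : A, s - algebraMap A S a ∈ maximalIdeal S) → ApproxLib.IsFrac (algebraMap R E) q) := by
  classical
  obtain ⟨C, _, _, _, r, hr, ψ, hψl, hψf, hψ⟩ := HenselLib.exists_local_cover hcov s
  haveI := hr
  letI : Algebra (Localization.AtPrime r) S := (ψ : Localization.AtPrime r →+* S).toAlgebra
  haveI : IsLocalHom (algebraMap (Localization.AtPrime r) S) := hψl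
  haveI : Module.Flat (Localization.AtPrime r) S := hψf
  haveI : Module.FaithfullyFlat (Localization.AtPrime r) S := Module.FaithfullyFlat.of_flat_of_isLocalHom
  have hrA : r.comap (algebraMap A C) = maximalIdeal A := by
    ext a
    rw [Ideal.mem_comap, ← IsLocalization.AtPrime.to_map_mem_maximal_iff (Localization.AtPrime r) r,
      ← IsScalarTower.algebraMap_apply, mem_maximalIdeal, mem_maximalIdeal, mem_nonunits_iff, mem_nonunits_iff,
      not_iff_not, ← isUnit_map_iff (algebraMap A S) a, ← ψ.commutes]
    exact (isUnit_map_iff (ψ : Localization.AtPrime r →+* S) _).symm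
  haveI : Algebra.Etale R R := inferInstance
  letI : Algebra R C := ((algebraMap A C).comp (algebraMap R A)).toAlgebra
  haveI : IsScalarTower R A C := .of_algebraMap_eq' rfl
  obtain ⟨E, _, _, q, hq, het, hqm, ⟨e⟩⟩ := HenselLib.exists_etale_model (R := R) m.primeCompl A R C r
  haveI := hq
  have hm : q.comap (algebraMap R E) = m := by
    rw [hqm, IsScalarTower.algebraMap_eq R A C, ← Ideal.comap_comap, hrA]
    exact IsLocalization.AtPrime.comap_maximalIdeal A m
  let θ : Localization.AtPrime q →+* S := (ψ : Localization.AtPrime r →+* S).comp e.symm.toAlgHom.toRingHom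
  have hff : θ.FaithfullyFlat :=
    RingHom.FaithfullyFlat.stableUnderComposition _ _
      (RingHom.FaithfullyFlat.of_bijective (f := e.symm.toAlgHom.toRingHom) e.symm.bijective)
      (RingHom.faithfullyFlat_algebraMap_iff.2 ‹Module.FaithfullyFlat (Localization.AtPrime r) S›)
  have hθR : ∀ c : R, θ (algebraMap R (Localization.AtPrime q) c) = algebraMap A S (algebraMap R A c) := fun c => by
      show ψ (e.symm (algebraMap R (Localization.AtPrime q) c)) = _
      rw [AlgEquiv.commutes, IsScalarTower.algebraMap_apply R A (Localization.AtPrime r), ψ.commutes]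
  refine ⟨E, _, _, q, hq, θ, het, hm, ⟨hff, RingHom.ext hθR⟩, fun x hx => ?_, fun hres e' => ?_⟩
  · obtain ⟨y, rfl⟩ := hψ x hx
    exact ⟨e y, congrArg ψ (e.symm_apply_apply y)⟩
  · obtain ⟨a, ha⟩ := hres (θ (algebraMap E _ e'))
    obtain ⟨⟨z₁, z₂⟩, hz⟩ := IsLocalization.surj m.primeCompl a
    refine ⟨z₁, z₂, fun hc => z₂.2 (hm.le hc), ?_⟩
    rw [← IsLocalization.AtPrime.to_map_mem_maximal_iff (Localization.AtPrime q) q, mem_maximalIdeal, mem_nonunits_iff]
    intro hu
    have h1 := hu.map θ
    rw [map_sub, map_mul, map_sub, map_mul, ← IsScalarTower.algebraMap_apply, ← IsScalarTower.algebraMap_apply,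
      hθR, hθR, ← hz, map_mul, ← sub_mul] at h1
    exact (mem_maximalIdeal _).1 (Ideal.mul_mem_right _ _ ha) h1

theorem exists_bad_nbhd (hcov : ∀ x : S, HenselLib.EtCov (R := A) x) (h : ¬ (nilradical S).IsPrime) :
    ∃ (E : Type u) (_ : CommRing E) (_ : Algebra R E) (q : Ideal E) (_ : q.IsPrime), Algebra.Etale R E ∧
      q.comap (algebraMap R E) = m ∧ ¬ (nilradical (Localization.AtPrime q)).IsPrime ∧
      ((∀ s : S, ∃ a : A, s - algebraMap A S a ∈ maximalIdeal S) → ApproxLib.IsFrac (algebraMap R E) q) := by
  classical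
  obtain ⟨x, y, hxy, hx, hy⟩ : ∃ x y : S, x * y ∈ nilradical S ∧ x ∉ nilradical S ∧ y ∉ nilradical S := by
    by_contra hne
    push Not at hne
    refine h ⟨fun ht => not_isNilpotent_one (mem_nilradical.1 (ht ▸ Submodule.mem_top : (1 : S) ∈ nilradical S)),
      fun {a b} hab => ?_⟩
    by_cases ha : a ∈ nilradical S
    · exact Or.inl ha
    · exact Or.inr (hne a b hab ha)
  obtain ⟨E, _, _, q, hq, θ, het, hm, ⟨hff, -⟩, hθ, hfr⟩ := exists_nbhd_of_finset m A S hcov {x, y}
  obtain ⟨x', rfl⟩ := hθ x (by simp)
  obtain ⟨y', rfl⟩ := hθ y (by simp)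
  refine ⟨E, _, _, q, hq, het, hm, fun hp => ?_, hfr⟩
  have h1 : x' * y' ∈ nilradical (Localization.AtPrime q) := by
    rw [mem_nilradical, ← IsNilpotent.map_iff hff.injective, map_mul]
    exact mem_nilradical.1 hxy
  rcases hp.mem_or_mem h1 with h2 | h2
  · exact hx (mem_nilradical.2 ((mem_nilradical.1 h2).map θ))
  · exact hy (mem_nilradical.2 ((mem_nilradical.1 h2).map θ))

omit [IsLocalRing A] [IsLocalHom (algebraMap A S)] in
include m A in
/-- An étale algebra whose residue field embeds in that of the henselization maps faithfully flatly to it. -/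
theorem exists_faithfullyFlat_hom [HenselianLocalRing S] [Algebra R S] [IsScalarTower R A S]
    (E : Type u) [CommRing E] [Algebra R E] [Algebra.Etale R E] (q : Ideal E) [q.IsPrime]
    (φ : q.ResidueField →+* ResidueField S)
    (hφ : ∀ c : R, φ (algebraMap E q.ResidueField (algebraMap R E c)) = residue S (algebraMap R S c)) :
    ∃ θ : Localization.AtPrime q →+* S, θ.FaithfullyFlat ∧ θ.comp (algebraMap R _) = algebraMap R S := by
  let σ : E →ₐ[R] S ⧸ maximalIdeal S := { φ.comp (algebraMap E q.ResidueField) with commutes' := hφ }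
  have hσ : ∀ e, σ e = 0 ↔ e ∈ q := fun e => by
    show φ (algebraMap E q.ResidueField e) = 0 ↔ _
    rw [map_eq_zero, Ideal.algebraMap_residueField_eq_zero]
  obtain ⟨τ, hτ⟩ := Groth.Agent.S0536.result R E S (maximalIdeal S) σ
  have hτq : (maximalIdeal S).comap τ.toRingHom = q := by
    ext e
    rw [Ideal.mem_comap, ← Ideal.Quotient.eq_zero_iff_mem]
    show (Ideal.Quotient.mkₐ R (maximalIdeal S)).comp τ e = 0 ↔ _
    rw [hτ, hσ]
  letI : Algebra E S := τ.toRingHom.toAlgebra
  haveI : IsScalarTower R E S := IsScalarTower.of_algebraMap_eq fun c => (τ.commutes c).symm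
  haveI : Module.Flat R A := IsLocalization.flat A m.primeCompl
  haveI : Module.Flat R S := Module.Flat.trans R A S
  haveI : Module.Flat E S := HenselLib.flat_of_etale (R := R)
  have hunit : ∀ y : q.primeCompl, IsUnit (algebraMap E S y) := fun y =>
    notMem_maximalIdeal.1 fun hc => y.2 (hτq.le hc)
  let ψ : Localization.AtPrime q →+* S := IsLocalization.lift hunit
  letI : Algebra (Localization.AtPrime q) S := ψ.toAlgebra
  haveI : IsScalarTower E (Localization.AtPrime q) S :=
    IsScalarTower.of_algebraMap_eq fun e => (IsLocalization.lift_eq hunit e).symm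
  haveI : Module.Flat (Localization.AtPrime q) S := by
    rw [Module.flat_iff_of_isLocalization (Localization.AtPrime q) q.primeCompl]; infer_instance
  haveI : IsLocalHom (algebraMap (Localization.AtPrime q) S) := ⟨fun z hz => by
    obtain ⟨⟨e, t⟩, het⟩ := IsLocalization.surj q.primeCompl z
    have h1 : IsUnit (algebraMap (Localization.AtPrime q) S (algebraMap E _ e)) := by
      rw [← het, map_mul]
      exact hz.mul ((IsLocalization.map_units _ t).map _)
    rw [← IsScalarTower.algebraMap_apply] at h1
    have he : e ∉ q := fun he => (mem_maximalIdeal _).1 (hτq.ge he) h1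
    have h2 := IsLocalization.map_units (Localization.AtPrime q) (⟨e, he⟩ : q.primeCompl)
    rw [← het] at h2
    exact isUnit_of_mul_isUnit_left h2⟩
  refine ⟨_, RingHom.faithfullyFlat_algebraMap_iff.2 (Module.FaithfullyFlat.of_flat_of_isLocalHom :
    Module.FaithfullyFlat (Localization.AtPrime q) S), RingHom.ext fun c => ?_⟩
  show algebraMap (Localization.AtPrime q) S (algebraMap R _ c) = _
  rw [IsScalarTower.algebraMap_apply R E (Localization.AtPrime q), ← IsScalarTower.algebraMap_apply E,
    ← IsScalarTower.algebraMap_apply]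

omit [IsLocalHom (algebraMap A S)] [Module.Flat A S] in
/-- The residue field of an étale neighbourhood embeds when residue fields agree or upstairs is separably closed. -/
theorem exists_residueHom [IsLocalHom (algebraMap A S)] [Algebra R S] [IsScalarTower R A S]
    (E : Type u) [CommRing E] [Algebra R E] [Algebra.Etale R E] (q : Ideal E) [q.IsPrime]
    (hqm : q.comap (algebraMap R E) = m)
    (h : ApproxLib.IsFrac (algebraMap R E) q ∨ IsSepClosed (ResidueField S)) :
    ∃ φ : q.ResidueField →+* ResidueField S,
      ∀ c : R, φ (algebraMap E q.ResidueField (algebraMap R E c)) = residue S (algebraMap R S c) := by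
  haveI : q.LiesOver m := ⟨hqm.symm⟩
  letI := Localization.AtPrime.algebraOfLiesOver m q
  haveI : Localization.AtPrime.IsLiesOverAlgebra m q := inferInstance
  have hA : ∀ c, residue S (algebraMap R S c) = 0 ↔ c ∈ m := fun c => by
    rw [residue_eq_zero_iff, IsScalarTower.algebraMap_apply R A S, mem_maximalIdeal, mem_nonunits_iff,
      isUnit_map_iff (algebraMap A S), ← mem_nonunits_iff, ← mem_maximalIdeal,
      IsLocalization.AtPrime.to_map_mem_maximal_iff A m]
  let κ : m.ResidueField →+* ResidueField S :=
    Ideal.ResidueField.lift m ((residue S).comp (algebraMap R S)) (fun c hc => (hA c).2 hc)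
      fun c hc => isUnit_iff_ne_zero.2 fun h0 => hc ((hA c).1 h0)
  letI := κ.toAlgebra
  have key : ∀ (f : q.ResidueField →ₐ[m.ResidueField] ResidueField S) (c : R),
      f (algebraMap E q.ResidueField (algebraMap R E c)) = residue S (algebraMap R S c) := fun f c => by
    rw [← IsScalarTower.algebraMap_apply, IsScalarTower.algebraMap_apply R m.ResidueField q.ResidueField, f.commutes]
    exact Ideal.ResidueField.lift_algebraMap _ _ _ _ _
  rcases h with hfr | hsep
  · have hs : Function.Surjective (algebraMap m.ResidueField q.ResidueField) := by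
      intro z
      obtain ⟨⟨z, t⟩, hz⟩ := IsLocalization.surj (nonZeroDivisors (E ⧸ q)) z
      obtain ⟨a, rfl⟩ := Ideal.Quotient.mk_surjective z
      obtain ⟨b, hb⟩ := Ideal.Quotient.mk_surjective t.1
      have hE : ∀ a : E, ∃ w, algebraMap m.ResidueField q.ResidueField w = algebraMap E q.ResidueField a := fun a => by
        obtain ⟨c, d, hd, hcd⟩ := hfr a
        refine ⟨algebraMap R _ c / algebraMap R _ d, ?_⟩
        rw [map_div₀, ← IsScalarTower.algebraMap_apply, ← IsScalarTower.algebraMap_apply,
          IsScalarTower.algebraMap_apply R E q.ResidueField, IsScalarTower.algebraMap_apply R E q.ResidueField,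
          div_eq_iff (fun h0 => hd (Ideal.algebraMap_residueField_eq_zero.1 h0)), eq_comm, ← sub_eq_zero,
          ← map_mul, ← map_sub]
        exact Ideal.algebraMap_residueField_eq_zero.2 hcd
      obtain ⟨wa, hwa⟩ := hE a
      obtain ⟨wb, hwb⟩ := hE b
      refine ⟨wa / wb, ?_⟩
      rw [map_div₀, hwa, hwb]
      have hb0 : algebraMap (E ⧸ q) q.ResidueField t ≠ 0 := (IsLocalization.map_units _ t).ne_zero
      rw [← Ideal.algebraMap_quotient_residueField_mk, ← hz, ← Ideal.algebraMap_quotient_residueField_mk q b, hb,
        mul_div_assoc, div_self hb0, mul_one]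
    let ε := AlgEquiv.ofBijective (Algebra.ofId m.ResidueField q.ResidueField) ⟨RingHom.injective _, hs⟩
    exact ⟨_, key ((Algebra.ofId m.ResidueField (ResidueField S)).comp ε.symm.toAlgHom)⟩
  · haveI := hsep
    haveI : Algebra.IsSeparable m.ResidueField q.ResidueField := inferInstance
    exact ⟨_, key IsSepClosed.lift⟩

omit [IsLocalRing A] [IsLocalHom (algebraMap A S)] in
/-- An étale algebra with trivial residue extension maps flatly to the henselization. -/
theorem nilradical_prime_of_nbhd [IsLocalRing A] [HenselianLocalRing S] [IsLocalHom (algebraMap A S)] [Algebra R S]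
    [IsScalarTower R A S] (hS : (nilradical S).IsPrime) (E : Type u) [CommRing E] [Algebra R E] [Algebra.Etale R E]
    (q : Ideal E) [q.IsPrime] (hqm : q.comap (algebraMap R E) = m) (hfr : ApproxLib.IsFrac (algebraMap R E) q) :
    (nilradical (Localization.AtPrime q)).IsPrime := by
  obtain ⟨φ, hφ⟩ := exists_residueHom m A S E q hqm (Or.inl hfr)
  obtain ⟨θ, hθ, -⟩ := exists_faithfullyFlat_hom m A S E q φ hφ
  exact nilradical_prime_of_injective θ hθ.injective hS

end

end HenselBranchLib
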