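import Groth.Agent.HenselBranchLib.EtaleNbhdScheme
import Mathlib.RingTheory.Ideal.GoingDown
import Mathlib.Data.Set.Card

/-! Counting minimal primes along flat maps and irreducible components through a point. -/

set_option autoImplicit false
set_option linter.style.haveILetI false
set_option linter.overlappingInstances false
set_option maxHeartbeats 1000000
set_option backward.isDefEq.respectTransparency false
universe u

open CategoryTheory AlgebraicGeometry IsLocalRing Topology

namespace HenselBranchLib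

noncomputable section

theorem comap_mem_minimalPrimes_of_flat (B S : Type u) [CommRing B] [CommRing S] [Algebra B S] [Module.Flat B S]
    {q : Ideal S} (hq : q ∈ minimalPrimes S) : q.comap (algebraMap B S) ∈ minimalPrimes B := by
  haveI := hq.1.1
  refine ⟨⟨Ideal.IsPrime.comap _, bot_le⟩, fun p hp hle => ?_⟩
  haveI := hp.1
  haveI : q.LiesOver (q.comap (algebraMap B S)) := ⟨rfl⟩
  obtain ⟨q', hq'le, hq'p, hq'⟩ := Ideal.exists_ideal_le_liesOver_of_le (p := p) (q := q.comap (algebraMap B S)) q hle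
  haveI := hq'p
  exact (Ideal.comap_mono (hq.2 ⟨hq'p, bot_le⟩ hq'le)).trans hq'.over.symm.le

theorem exists_minimalPrimes_over (B S : Type u) [CommRing B] [CommRing S] [Algebra B S] [Module.FaithfullyFlat B S]
    {p : Ideal B} (hp : p ∈ minimalPrimes B) : ∃ q ∈ minimalPrimes S, q.comap (algebraMap B S) = p := by
  obtain ⟨P, hP⟩ := PrimeSpectrum.comap_surjective_of_faithfullyFlat (A := B) (B := S) ⟨p, hp.1.1⟩
  obtain ⟨q, hq, hqP⟩ := Ideal.exists_minimalPrimes_le (I := (⊥ : Ideal S)) (J := P.asIdeal) bot_le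
  haveI := hq.1.1
  have h1 : q.comap (algebraMap B S) ≤ p := (Ideal.comap_mono hqP).trans (congrArg PrimeSpectrum.asIdeal hP).le
  exact ⟨q, hq, le_antisymm h1 (hp.2 ⟨Ideal.IsPrime.comap _, bot_le⟩ h1)⟩

theorem card_minimalPrimes_le (B S : Type u) [CommRing B] [CommRing S] [Algebra B S] [Module.FaithfullyFlat B S] :
    ENat.card (minimalPrimes B) ≤ ENat.card (minimalPrimes S) := by
  choose g hg hgp using fun p : minimalPrimes B => exists_minimalPrimes_over B S p.2
  refine ENat.card_le_card_of_injective (f := fun p => (⟨g p, hg p⟩ : minimalPrimes S)) fun p p' e => Subtype.ext ?_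
  rw [← hgp p, ← hgp p']
  exact congrArg (fun q : minimalPrimes S => q.1.comap (algebraMap B S)) e

theorem card_minimalPrimes_congr {B S : Type u} [CommRing B] [CommRing S] (e : B ≃+* S) :
    ENat.card (minimalPrimes B) = ENat.card (minimalPrimes S) := by
  refine le_antisymm ?_ ?_
  · letI := e.toRingHom.toAlgebra
    haveI : Module.FaithfullyFlat B S :=
      RingHom.faithfullyFlat_algebraMap_iff.1 (RingHom.FaithfullyFlat.of_bijective e.bijective)
    exact card_minimalPrimes_le B S
  · letI := e.symm.toRingHom.toAlgebra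
    haveI : Module.FaithfullyFlat S B :=
      RingHom.faithfullyFlat_algebraMap_iff.1 (RingHom.FaithfullyFlat.of_bijective e.symm.bijective)
    exact card_minimalPrimes_le S B

/-- The components through a point are the minimal primes of its local ring. -/
theorem encard_components (U : Scheme.{u}) (u : U) :
    {Z : Set U | Z ∈ irreducibleComponents U ∧ u ∈ Z}.encard = ENat.card (minimalPrimes (U.presheaf.stalk u)) := by
  obtain ⟨_, ⟨W, hW, rfl⟩, huW, -⟩ := U.isBasis_affineOpens.exists_subset_of_mem_open (Set.mem_univ u) isOpen_univ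
  letI := TopCat.Presheaf.algebra_section_stalk U.presheaf (⟨u, huW⟩ : W)
  haveI := hW.isLocalization_stalk ⟨u, huW⟩
  let q := (hW.primeIdealOf ⟨u, huW⟩).asIdeal
  let L : Type u := U.presheaf.stalk u
  let G : Set U := {η | η ∈ genericPoints U ∧ η ⤳ u}
  have hset : {Z : Set U | Z ∈ irreducibleComponents U ∧ u ∈ Z} = (fun η => closure {η}) '' G := by
    ext Z
    constructor
    · rintro ⟨hZ, hu⟩
      obtain ⟨η, hη⟩ := QuasiSober.sober hZ.1 (isClosed_of_mem_irreducibleComponents Z hZ)
      exact ⟨η, ⟨show closure {η} ∈ irreducibleComponents U by rw [hη.def]; exact hZ, hη.specializes hu⟩, hη.def⟩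
    · rintro ⟨η, ⟨hη, hs⟩, rfl⟩
      exact ⟨hη, hs.mem_closure⟩
  have hinj : Set.InjOn (fun η : U => closure {η}) G := fun a _ b _ e => (inseparable_iff_closure_eq.2 e).eq
  rw [hset, hinj.encard_image, ← ENat.card_coe_set_eq]
  have hmem : ∀ η : G, (η : U) ∈ W := fun η => η.2.2.mem_open W.2 huW
  have hle : ∀ η : G, (hW.primeIdealOf ⟨η, hmem η⟩).asIdeal ≤ q := fun η =>
    (BirUnibLib.le_iff_specializes hW (hmem η) huW).2 η.2.2
  have hd : ∀ P : Ideal Γ(U, W), P ≤ q → Disjoint (q.primeCompl : Set Γ(U, W)) P := fun P hP =>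
    Set.disjoint_left.2 fun x hx hxP => hx (hP hxP)
  have hc : ∀ η : G, Ideal.comap (algebraMap Γ(U, W) L)
      (Ideal.map (algebraMap Γ(U, W) L) (hW.primeIdealOf ⟨η, hmem η⟩).asIdeal) =
      (hW.primeIdealOf ⟨η, hmem η⟩).asIdeal := fun η =>
    IsLocalization.comap_map_of_isPrime_disjoint q.primeCompl L (hW.primeIdealOf ⟨η, hmem η⟩).isPrime (hd _ (hle η))
  let f : G → minimalPrimes L := fun η => ⟨(hW.primeIdealOf ⟨η, hmem η⟩).asIdeal.map (algebraMap Γ(U, W) L), by
    have hp := IsLocalization.isPrime_of_isPrime_disjoint q.primeCompl L _ (hW.primeIdealOf ⟨η, hmem η⟩).isPrime (hd _ (hle η))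
    refine ⟨⟨hp, bot_le⟩, fun P hP hPle => ?_⟩
    haveI := hP.1
    have h1 : (hW.primeIdealOf ⟨η, hmem η⟩).asIdeal ≤ P.comap (algebraMap Γ(U, W) L) :=
      ((BirUnibLib.minimalPrimes_iff hW (hmem η)).2 η.2.1).2 ⟨Ideal.IsPrime.comap _, bot_le⟩
        ((Ideal.comap_mono hPle).trans (hc η).le)
    exact Ideal.map_le_iff_le_comap.2 h1⟩
  refine ENat.card_congr (Equiv.ofBijective f ⟨fun a b e => Subtype.ext ?_, fun P => ?_⟩)
  · refine BirUnibLib.point_inj hW (hmem a) (hmem b) ?_
    rw [← hc a, ← hc b]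
    exact congrArg (fun P : minimalPrimes L => P.1.comap (algebraMap Γ(U, W) L)) e
  · haveI := P.2.1.1
    haveI : (P.1.comap (algebraMap Γ(U, W) L)).IsPrime := Ideal.IsPrime.comap _
    haveI : Module.Flat Γ(U, W) L := IsLocalization.flat L q.primeCompl
    obtain ⟨η, hη, he⟩ := BirUnibLib.exists_point hW (P.1.comap (algebraMap Γ(U, W) L))
    have hq : (hW.primeIdealOf ⟨η, hη⟩).asIdeal ≤ q := by
      rw [he, ← IsLocalization.AtPrime.comap_maximalIdeal L q]
      exact Ideal.comap_mono (IsLocalRing.le_maximalIdeal P.2.1.1.ne_top)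
    have hgen : η ∈ genericPoints U := (BirUnibLib.minimalPrimes_iff hW hη).1
      (he ▸ comap_mem_minimalPrimes_of_flat Γ(U, W) L P.2)
    refine ⟨⟨η, hgen, (BirUnibLib.le_iff_specializes hW hη huW).1 hq⟩, Subtype.ext ?_⟩
    show Ideal.map _ (hW.primeIdealOf ⟨η, hη⟩).asIdeal = P.1
    rw [he]
    exact IsLocalization.map_under q.primeCompl L P.1

end

end HenselBranchLib
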