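import Groth.Agent.HenselBranchLib.Count
import Groth.Agent.HenselBranchLib.MinCount
import Groth.Agent.HenselBranchLib.Unibranch
import Groth.Agent.AzInvLib.Local
import Groth.Agent.S16174
import Mathlib.RingTheory.TensorProduct.Quotient

/-! Henselizations commute with quotients: counting branches of a quotient. -/

set_option autoImplicit false
set_option linter.style.haveILetI false
set_option linter.overlappingInstances false
set_option maxHeartbeats 1000000
set_option synthInstance.maxHeartbeats 400000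
set_option backward.isDefEq.respectTransparency false
universe u

open IsLocalRing TensorProduct

namespace HenselBranchLib

noncomputable section

variable (A S A' : Type u) [CommRing A] [IsLocalRing A] [CommRing S] [IsLocalRing S] [Algebra A S]
  [IsLocalHom (algebraMap A S)] [Module.Flat A S] [CommRing A'] [IsLocalRing A'] [Algebra A A']

omit [IsLocalRing A] [IsLocalRing S] [IsLocalHom (algebraMap A S)] [Module.Flat A S] [IsLocalRing A'] in
theorem exists_bc_equiv (hA : Function.Surjective (algebraMap A A')) :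
    ∃ e : A' ⊗[A] S ≃+* S ⧸ (RingHom.ker (algebraMap A A')).map (algebraMap A S),
      ∀ s, e (1 ⊗ₜ s) = Ideal.Quotient.mk _ s := by
  refine ⟨(Algebra.TensorProduct.congr
      (Ideal.quotientKerAlgEquivOfSurjective (f := Algebra.ofId A A') hA).symm AlgEquiv.refl).toRingEquiv.trans
    (Algebra.TensorProduct.quotIdealMapEquivQuotTensor S (RingHom.ker (algebraMap A A'))).symm.toRingEquiv, fun s => ?_⟩
  show (Algebra.TensorProduct.quotIdealMapEquivQuotTensor S (RingHom.ker (algebraMap A A'))).symm _ = _
  refine (AlgEquiv.symm_apply_eq _).2 ?_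
  rw [Algebra.TensorProduct.quotIdealMapEquivQuotTensor_mk]
  show Algebra.TensorProduct.congr _ AlgEquiv.refl ((1 : A') ⊗ₜ[A] s) = _
  simp

omit [Module.Flat A S] in
theorem bc_local (hA : Function.Surjective (algebraMap A A')) :
    IsLocalRing (A' ⊗[A] S) ∧ Function.Surjective (Algebra.TensorProduct.includeRight : S →ₐ[A] A' ⊗[A] S) := by
  obtain ⟨e, he⟩ := exists_bc_equiv A S A' hA
  have hne : (RingHom.ker (algebraMap A A')).map (algebraMap A S) ≠ ⊤ := fun h => by
    have h1 : (maximalIdeal A).map (algebraMap A S) = ⊤ :=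
      top_le_iff.1 (h ▸ Ideal.map_mono (IsLocalRing.le_maximalIdeal (RingHom.ker_ne_top _)))
    exact (maximalIdeal.isMaximal S).ne_top (top_le_iff.1 (h1 ▸
      ((IsLocalRing.local_hom_TFAE (algebraMap A S)).out 0 2 :).1 ‹_›))
  haveI : Nontrivial (S ⧸ (RingHom.ker (algebraMap A A')).map (algebraMap A S)) := Ideal.Quotient.nontrivial_iff.2 hne
  haveI := IsLocalRing.of_surjective' (Ideal.Quotient.mk ((RingHom.ker (algebraMap A A')).map (algebraMap A S)))
    Ideal.Quotient.mk_surjective
  refine ⟨e.symm.isLocalRing, fun t => ?_⟩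
  obtain ⟨s, hs⟩ := Ideal.Quotient.mk_surjective (e t)
  exact ⟨s, e.injective ((he s).trans hs)⟩

omit [Module.Flat A S] in
theorem bc_data (hA : Function.Surjective (algebraMap A A')) [HenselianLocalRing S] :
    ∃ _ : HenselianLocalRing (A' ⊗[A] S), IsLocalHom (algebraMap A' (A' ⊗[A] S)) ∧
      IsLocalHom (Algebra.TensorProduct.includeRight : S →ₐ[A] A' ⊗[A] S).toRingHom := by
  obtain ⟨e, he⟩ := exists_bc_equiv A S A' hA
  obtain ⟨hl, hs⟩ := bc_local A S A' hA
  haveI := hl
  let ι : S →+* A' ⊗[A] S := (Algebra.TensorProduct.includeRight : S →ₐ[A] A' ⊗[A] S).toRingHom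
  haveI hι : IsLocalHom ι := IsLocalHom.of_surjective ι hs
  haveI := Groth.Agent.S16174.henselian_quot ((RingHom.ker (algebraMap A A')).map (algebraMap A S))
    (fun h => not_nontrivial_iff_subsingleton.2 (Ideal.Quotient.subsingleton_iff.2 h) e.symm.toEquiv.nontrivial)
  refine ⟨AzInvLib.henselianLocalRing_of_ringEquiv e.symm, ⟨fun a' ha => ?_⟩, hι⟩
  obtain ⟨a, rfl⟩ := hA a'
  have h1 : IsUnit (ι (algebraMap A S a)) := by
    rwa [show ι (algebraMap A S a) = algebraMap A' _ (algebraMap A A' a) from
      (AlgHom.commutes _ a).trans (IsScalarTower.algebraMap_apply A A' _ a)]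
  exact ((isUnit_map_iff (algebraMap A S) a).1 ((isUnit_map_iff ι _).1 h1)).map _

/-- Branches of a quotient. -/
theorem card_quot_eq_numBranches (hA : Function.Surjective (algebraMap A A')) [HenselianLocalRing S]
    (hcov : ∀ x : S, HenselLib.EtCov (R := A) x) (hres : ∀ s : S, ∃ a : A, s - algebraMap A S a ∈ maximalIdeal S) :
    Brnch.numBranches A' = ENat.card (minimalPrimes (S ⧸ (RingHom.ker (algebraMap A A')).map (algebraMap A S))) := by
  obtain ⟨e, he⟩ := exists_bc_equiv A S A' hA
  obtain ⟨_, _, hι⟩ := bc_data A S A' hA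
  obtain ⟨-, hs⟩ := bc_local A S A' hA
  rw [← card_minimalPrimes_congr e]
  refine (card_eq_numBranches A' (A' ⊗[A] S) (etCov_bc A S hcov A') fun t => ?_).symm
  obtain ⟨s, rfl⟩ := hs t
  obtain ⟨a, ha⟩ := hres s
  refine ⟨algebraMap A A' a, ?_⟩
  rw [← IsScalarTower.algebraMap_apply, ← AlgHom.commutes (Algebra.TensorProduct.includeRight : S →ₐ[A] A' ⊗[A] S),
    ← map_sub]
  exact fun hu => ha ((isUnit_map_iff (Algebra.TensorProduct.includeRight : S →ₐ[A] A' ⊗[A] S).toRingHom _).1 hu)

/-- Geometric branches of a quotient. -/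
theorem card_quot_eq_numGeomBranches (hA : Function.Surjective (algebraMap A A')) [HenselianLocalRing S]
    (hcov : ∀ x : S, HenselLib.EtCov (R := A) x) [IsSepClosed (ResidueField S)]
    [Algebra.IsAlgebraic (ResidueField A) (ResidueField S)] :
    Brnch.numGeomBranches A' =
      ENat.card (minimalPrimes (S ⧸ (RingHom.ker (algebraMap A A')).map (algebraMap A S))) := by
  obtain ⟨e, he⟩ := exists_bc_equiv A S A' hA
  obtain ⟨_, _, hι⟩ := bc_data A S A' hA
  obtain ⟨-, hs⟩ := bc_local A S A' hA
  rw [← card_minimalPrimes_congr e]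
  let ι : S →+* A' ⊗[A] S := (Algebra.TensorProduct.includeRight : S →ₐ[A] A' ⊗[A] S).toRingHom
  haveI : IsLocalHom ι := hι
  let g := IsLocalRing.ResidueField.map ι
  have hg : Function.Bijective g := ⟨g.injective, fun z => by
    obtain ⟨t, rfl⟩ := residue_surjective z
    obtain ⟨s, rfl⟩ := hs t
    exact ⟨residue S s, rfl⟩⟩
  haveI := AzInvLib.isSepClosed_of_ringEquiv (RingEquiv.ofBijective g hg)
  haveI : IsLocalHom (algebraMap A A') := IsLocalHom.of_surjective _ hA
  haveI : Algebra.IsAlgebraic (ResidueField A') (ResidueField (A' ⊗[A] S)) := by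
    refine Algebra.IsAlgebraic.ringHom_of_comp_eq (IsLocalRing.ResidueField.map (algebraMap A A')) g
      (RingHom.injective _) hg.2 (RingHom.ext fun z => ?_)
    obtain ⟨a, rfl⟩ := residue_surjective z
    show residue _ (algebraMap A' (A' ⊗[A] S) (algebraMap A A' a)) = residue _ (ι (algebraMap A S a))
    rw [← IsScalarTower.algebraMap_apply]
    exact congrArg _ (AlgHom.commutes _ a).symm
  exact (card_eq_numGeomBranches A' (A' ⊗[A] S) (etCov_bc A S hcov A')).symm

end

end HenselBranchLib
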