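import Groth.Agent.HenselBranchLib.NbhdCount
import Groth.Agent.HenselBranchLib.QuotHens
import Groth.Agent.S9501

/-! Branches of fibres and components of fibres of étale neighbourhoods. -/

set_option autoImplicit false
set_option linter.style.haveILetI false
set_option linter.overlappingInstances false
set_option maxHeartbeats 1000000
set_option synthInstance.maxHeartbeats 400000
set_option backward.isDefEq.respectTransparency false
universe u

open CategoryTheory AlgebraicGeometry IsLocalRing Topology TensorProduct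

namespace HenselBranchLib

noncomputable section

theorem faithfullyFlat_quotient (B S : Type u) [CommRing B] [CommRing S] [Algebra B S] [Module.FaithfullyFlat B S]
    (I : Ideal B) : Module.FaithfullyFlat (B ⧸ I) (S ⧸ I.map (algebraMap B S)) :=
  Module.FaithfullyFlat.of_linearEquiv _ _ (Algebra.TensorProduct.quotIdealMapEquivQuotTensor S I).toLinearEquiv

section Ring

variable {R : Type u} [CommRing R] (m : Ideal R) [m.IsPrime] (A : Type u) [CommRing A] [IsLocalRing A]
  [Algebra R A] [IsLocalization.AtPrime A m] (S : Type u) [CommRing S] [IsLocalRing S] [Algebra A S]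
  [Module.Flat A S] [IsLocalHom (algebraMap A S)] (J : Ideal R)

theorem card_nbhd_quot_le [HenselianLocalRing S] [Algebra R S] [IsScalarTower R A S] (E : Type u) [CommRing E]
    [Algebra R E] [Algebra.Etale R E] (q : Ideal E) [q.IsPrime] (hqm : q.comap (algebraMap R E) = m)
    (h : ApproxLib.IsFrac (algebraMap R E) q ∨ IsSepClosed (ResidueField S)) :
    ENat.card (minimalPrimes (Localization.AtPrime q ⧸ J.map (algebraMap R (Localization.AtPrime q)))) ≤
      ENat.card (minimalPrimes (S ⧸ J.map (algebraMap R S))) := by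
  obtain ⟨φ, hφ⟩ := exists_residueHom m A S E q hqm h
  obtain ⟨θ, hθ, hθR⟩ := exists_faithfullyFlat_hom m A S E q φ hφ
  letI := θ.toAlgebra
  haveI : Module.FaithfullyFlat (Localization.AtPrime q) S := RingHom.faithfullyFlat_algebraMap_iff.1 hθ
  haveI := faithfullyFlat_quotient (Localization.AtPrime q) S (J.map (algebraMap R (Localization.AtPrime q)))
  refine (card_minimalPrimes_le (Localization.AtPrime q ⧸ J.map (algebraMap R (Localization.AtPrime q)))
    (S ⧸ (J.map (algebraMap R (Localization.AtPrime q))).map (algebraMap (Localization.AtPrime q) S))).trans (le_of_eq ?_)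
  exact card_minimalPrimes_congr (Ideal.quotEquivOfEq ((Ideal.map_map _ _).trans (congrArg (fun φ => Ideal.map φ J) hθR)))

theorem exists_nbhd_quot_card_ge (hcov : ∀ x : S, HenselLib.EtCov (R := A) x) (n : ℕ)
    (hn : (n : ℕ∞) ≤ ENat.card (minimalPrimes (S ⧸ J.map ((algebraMap A S).comp (algebraMap R A))))) :
    ∃ (E : Type u) (_ : CommRing E) (_ : Algebra R E) (q : Ideal E) (_ : q.IsPrime), Algebra.Etale R E ∧
      q.comap (algebraMap R E) = m ∧
      (n : ℕ∞) ≤ ENat.card (minimalPrimes (Localization.AtPrime q ⧸ J.map (algebraMap R (Localization.AtPrime q)))) ∧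
      ((∀ s : S, ∃ a : A, s - algebraMap A S a ∈ maximalIdeal S) → ApproxLib.IsFrac (algebraMap R E) q) := by
  classical
  let K := J.map ((algebraMap A S).comp (algebraMap R A))
  rw [ENat.card_coe_set_eq] at hn
  obtain ⟨F, hF, hFn⟩ := Set.exists_subset_encard_eq hn
  have hfin : F.Finite := Set.finite_of_encard_eq_coe hFn
  have hsep : ∀ P Q : F, P ≠ Q → ∃ x : S, Ideal.Quotient.mk K x ∈ P.1 ∧ Ideal.Quotient.mk K x ∉ Q.1 := fun P Q hne => by
    by_contra hc
    push Not at hc
    refine hne (Subtype.ext (le_antisymm ?_ ((hF Q.2).2 ⟨(hF P.2).1.1, bot_le⟩ ?_))) <;>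
    · intro z hz
      obtain ⟨x, rfl⟩ := Ideal.Quotient.mk_surjective z
      exact hc x hz
  haveI := hfin.to_subtype
  choose sep hsep using hsep
  let I : Type u := {p : F × F // p.1 ≠ p.2}
  haveI : Fintype I := Fintype.ofFinite I
  obtain ⟨E, _, _, q, hq, θ, het, hm, ⟨hff, hθR⟩, hθ, hfr⟩ := exists_nbhd_of_finset m A S hcov
    (Finset.univ.image fun p : I => sep p.1.1 p.1.2 p.2)
  refine ⟨E, _, _, q, hq, het, hm, ?_, hfr⟩
  letI := θ.toAlgebra
  haveI : Module.FaithfullyFlat (Localization.AtPrime q) S := RingHom.faithfullyFlat_algebraMap_iff.1 hff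
  haveI := faithfullyFlat_quotient (Localization.AtPrime q) S (J.map (algebraMap R (Localization.AtPrime q)))
  let π : Localization.AtPrime q ⧸ J.map (algebraMap R (Localization.AtPrime q)) →+*
      S ⧸ (J.map (algebraMap R (Localization.AtPrime q))).map (algebraMap (Localization.AtPrime q) S) :=
    algebraMap (Localization.AtPrime q ⧸ J.map (algebraMap R (Localization.AtPrime q)))
      (S ⧸ (J.map (algebraMap R (Localization.AtPrime q))).map (algebraMap (Localization.AtPrime q) S))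
  have hK : (J.map (algebraMap R (Localization.AtPrime q))).map (algebraMap (Localization.AtPrime q) S) = K :=
    (Ideal.map_map _ _).trans (congrArg (fun φ => Ideal.map φ J) hθR)
  let e := Ideal.quotEquivOfEq hK
  let ρ : Localization.AtPrime q ⧸ J.map (algebraMap R (Localization.AtPrime q)) →+* S ⧸ K := e.toRingHom.comp π
  letI := ρ.toAlgebra
  haveI : Module.Flat (Localization.AtPrime q ⧸ J.map (algebraMap R (Localization.AtPrime q))) (S ⧸ K) :=
    (RingHom.flat_algebraMap_iff.2 inferInstance).comp (g := e.toRingHom) (RingHom.Flat.of_bijective e.bijective)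
  rw [← hFn, ← ENat.card_coe_set_eq]
  refine ENat.card_le_card_of_injective
    (f := fun P : F => (⟨P.1.comap ρ, comap_mem_minimalPrimes_of_flat _ (S ⧸ K) (hF P.2)⟩ :
      minimalPrimes (Localization.AtPrime q ⧸ J.map (algebraMap R (Localization.AtPrime q)))))
    fun P Q h => by_contra fun hne => ?_
  obtain ⟨y, hy⟩ := hθ (sep P Q hne) (Finset.mem_image.2 ⟨⟨(P, Q), hne⟩, Finset.mem_univ _, rfl⟩)
  have hρ : ρ (Ideal.Quotient.mk _ y) = Ideal.Quotient.mk K (θ y) := rfl
  have h1 : Ideal.Quotient.mk _ y ∈ P.1.comap ρ := Ideal.mem_comap.2 (by rw [hρ, hy]; exact (hsep P Q hne).1)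
  rw [show P.1.comap ρ = Q.1.comap ρ from congrArg Subtype.val h, Ideal.mem_comap, hρ, hy] at h1
  exact (hsep P Q hne).2 h1

end Ring

theorem exists_fiber_stalk_equiv {W T : Scheme.{u}} (h : W ⟶ T) (s : T) (y : h.fiber s) (u : W)
    (hy : h.fiberι s y = u) : Nonempty ((h.fiber s).presheaf.stalk y ≃+*
      W.presheaf.stalk u ⧸ (maximalIdeal (T.presheaf.stalk (h u))).map (h.stalkMap u).hom) := by
  subst hy
  obtain ⟨hsurj, hker⟩ := Groth.Agent.S9501.result h s y
  exact ⟨(RingHom.quotientKerEquivOfSurjective hsurj).symm.trans (Ideal.quotEquivOfEq hker)⟩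

theorem encard_fiber_components {W T : Scheme.{u}} (h : W ⟶ T) (s : T) (u : W) (hs : h u = s) :
    {Z : Set (h.fiber s) | Z ∈ irreducibleComponents (h.fiber s) ∧ ∃ u' ∈ Z, h.fiberι s u' = u}.encard =
      ENat.card (minimalPrimes (W.presheaf.stalk u ⧸ (maximalIdeal (T.presheaf.stalk (h u))).map (h.stalkMap u).hom)) := by
  obtain ⟨y, hy⟩ : u ∈ Set.range (h.fiberι s) := by rw [h.range_fiberι]; exact hs
  obtain ⟨e⟩ := exists_fiber_stalk_equiv h s y u hy
  rw [show {Z : Set (h.fiber s) | Z ∈ irreducibleComponents (h.fiber s) ∧ ∃ u' ∈ Z, h.fiberι s u' = u} =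
      {Z : Set (h.fiber s) | Z ∈ irreducibleComponents (h.fiber s) ∧ y ∈ Z} from Set.ext fun Z => and_congr_right fun _ =>
    ⟨fun ⟨u', hu', he⟩ => (h.fiberι s).isEmbedding.injective (he.trans hy.symm) ▸ hu', fun hyZ => ⟨y, hyZ, hy⟩⟩,
    encard_components, card_minimalPrimes_congr e]

section Scheme

variable {X T : Scheme.{u}} (f : X ⟶ T) (x : X) (S : Type u) [CommRing S] [IsLocalRing S]
  [Algebra (X.presheaf.stalk x) S] [Module.Flat (X.presheaf.stalk x) S] [IsLocalHom (algebraMap (X.presheaf.stalk x) S)]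

/-- The ideal cutting out the fibre. -/
abbrev fibIdeal : Ideal (X.presheaf.stalk x) := (maximalIdeal (T.presheaf.stalk (f x))).map (f.stalkMap x).hom

omit [IsLocalRing S] [Algebra (X.presheaf.stalk x) S] [Module.Flat (X.presheaf.stalk x) S]
  [IsLocalHom (algebraMap (X.presheaf.stalk x) S)] in
theorem fiber_stalk_quot {U : Scheme.{u}} (g : U ⟶ X) (u : U) {V : X.Opens} (hV : IsAffineOpen V) {W : U.Opens}
    (hW : IsAffineOpen W) (hWV : W ≤ g ⁻¹ᵁ V) (huW : u ∈ W) :
    letI : Algebra Γ(X, V) Γ(U, W) := (g.appLE V W hWV).hom.toAlgebra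
    Nonempty (U.presheaf.stalk u ⧸ (maximalIdeal (T.presheaf.stalk ((g ≫ f) u))).map ((g ≫ f).stalkMap u).hom ≃+*
      Localization.AtPrime (hW.primeIdealOf ⟨u, huW⟩).asIdeal ⧸
        ((fibIdeal f (g u)).comap (X.presheaf.germ V (g u) (hWV huW)).hom).map
          (algebraMap Γ(X, V) (Localization.AtPrime (hW.primeIdealOf ⟨u, huW⟩).asIdeal))) := by
  letI : Algebra Γ(X, V) Γ(U, W) := (g.appLE V W hWV).hom.toAlgebra
  letI := TopCat.Presheaf.algebra_section_stalk X.presheaf (⟨g u, hWV huW⟩ : V)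
  haveI := hV.isLocalization_stalk ⟨g u, hWV huW⟩
  letI := TopCat.Presheaf.algebra_section_stalk U.presheaf (⟨u, huW⟩ : W)
  haveI := hW.isLocalization_stalk ⟨u, huW⟩
  let ε := IsLocalization.algEquiv (hW.primeIdealOf ⟨u, huW⟩).asIdeal.primeCompl
    (U.presheaf.stalk u) (Localization.AtPrime (hW.primeIdealOf ⟨u, huW⟩).asIdeal)
  refine ⟨Ideal.quotientEquiv _ _ ε.toRingEquiv ?_⟩
  conv_rhs => rw [Scheme.Hom.stalkMap_comp, CommRingCat.hom_comp, ← Ideal.map_map, Ideal.map_map]
  have hJ : fibIdeal f (g u) = ((fibIdeal f (g u)).comap (algebraMap Γ(X, V) (X.presheaf.stalk (g u)))).map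
      (algebraMap Γ(X, V) (X.presheaf.stalk (g u))) :=
    (IsLocalization.map_under (hV.primeIdealOf ⟨g u, hWV huW⟩).asIdeal.primeCompl _ _).symm
  show _ = Ideal.map _ (fibIdeal f (g u))
  refine Eq.trans ?_ (congrArg (Ideal.map _) hJ.symm)
  rw [Ideal.map_map]
  refine congrArg (fun φ => Ideal.map φ _) (RingHom.ext fun r => ?_)
  show algebraMap Γ(U, W) _ (g.appLE V W hWV r) = ε (g.stalkMap u (X.presheaf.germ V (g u) (hWV huW) r))
  rw [Scheme.Hom.germ_stalkMap_apply, ← ε.commutes]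
  refine congrArg ε ?_
  show U.presheaf.germ W u huW (g.appLE V W hWV r) = _
  rw [Scheme.Hom.appLE, CommRingCat.comp_apply, TopCat.Presheaf.germ_res_apply]

theorem encard_fiber_components_le [HenselianLocalRing S] {U : Scheme.{u}} (g : U ⟶ X) [Etale g] (u : U) (hgx : g u = x)
    (h : Function.Bijective (g.residueFieldMap u) ∨ IsSepClosed (ResidueField S)) :
    {Z : Set ((g ≫ f).fiber (f x)) | Z ∈ irreducibleComponents ((g ≫ f).fiber (f x)) ∧
        ∃ u' ∈ Z, (g ≫ f).fiberι (f x) u' = u}.encard ≤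
      ENat.card (minimalPrimes (S ⧸ (fibIdeal f x).map (algebraMap (X.presheaf.stalk x) S))) := by
  subst hgx
  rw [encard_fiber_components (g ≫ f) (f (g u)) u rfl]
  obtain ⟨_, ⟨V, hV, rfl⟩, hxV, -⟩ := X.isBasis_affineOpens.exists_subset_of_mem_open (Set.mem_univ (g u)) isOpen_univ
  obtain ⟨_, ⟨W, hW, rfl⟩, huW, hWV⟩ := U.isBasis_affineOpens.exists_subset_of_mem_open
    (show u ∈ g ⁻¹ᵁ V from hxV) (g ⁻¹ᵁ V).2
  letI : Algebra Γ(X, V) (X.presheaf.stalk (g u)) := TopCat.Presheaf.algebra_section_stalk X.presheaf (⟨g u, hxV⟩ : V)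
  haveI : IsLocalization.AtPrime (X.presheaf.stalk (g u)) (hV.primeIdealOf ⟨g u, hxV⟩).asIdeal :=
    hV.isLocalization_stalk ⟨g u, hxV⟩
  letI : Algebra Γ(X, V) Γ(U, W) := (g.appLE V W hWV).hom.toAlgebra
  haveI : Algebra.Etale Γ(X, V) Γ(U, W) :=
    RingHom.etale_algebraMap.1 (HasRingHomProperty.appLE @Etale g inferInstance ⟨V, hV⟩ ⟨W, hW⟩ hWV)
  letI : Algebra Γ(X, V) S := ((algebraMap (X.presheaf.stalk (g u)) S).comp
    (algebraMap Γ(X, V) (X.presheaf.stalk (g u)))).toAlgebra
  haveI : IsScalarTower Γ(X, V) (X.presheaf.stalk (g u)) S := .of_algebraMap_eq' rfl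
  have hqm : Ideal.comap (algebraMap Γ(X, V) Γ(U, W)) (hW.primeIdealOf ⟨u, huW⟩).asIdeal =
      (hV.primeIdealOf ⟨g u, hxV⟩).asIdeal :=
    congrArg PrimeSpectrum.asIdeal (IsAffineOpen.comap_primeIdealOf_appLE (f := g) V hV W hW hWV huW)
  obtain ⟨e⟩ := fiber_stalk_quot f g u hV hW hWV huW
  rw [card_minimalPrimes_congr e]
  refine (card_nbhd_quot_le (hV.primeIdealOf ⟨g u, hxV⟩).asIdeal (X.presheaf.stalk (g u)) S
    ((fibIdeal f (g u)).comap (X.presheaf.germ V (g u) (hWV huW)).hom) Γ(U, W)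
    (hW.primeIdealOf ⟨u, huW⟩).asIdeal hqm (h.imp_left (isFrac_of_bijective g hV hW hWV huW))).trans (le_of_eq ?_)
  refine card_minimalPrimes_congr (Ideal.quotEquivOfEq ?_)
  rw [IsScalarTower.algebraMap_eq Γ(X, V) (X.presheaf.stalk (g u)) S, ← Ideal.map_map]
  exact congrArg _ (IsLocalization.map_under (hV.primeIdealOf ⟨g u, hxV⟩).asIdeal.primeCompl _ _)

theorem exists_fiber_nbhd_card_ge (hcov : ∀ s : S, HenselLib.EtCov (R := X.presheaf.stalk x) s) (n : ℕ)
    (hn : (n : ℕ∞) ≤ ENat.card (minimalPrimes (S ⧸ (fibIdeal f x).map (algebraMap (X.presheaf.stalk x) S)))) :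
    ∃ (U : Scheme.{u}) (g : U ⟶ X) (u : U), Etale g ∧ g u = x ∧
      ((∀ s : S, ∃ a : X.presheaf.stalk x, s - algebraMap _ S a ∈ maximalIdeal S) → Function.Bijective (g.residueFieldMap u)) ∧
      (n : ℕ∞) ≤ {Z : Set ((g ≫ f).fiber (f x)) | Z ∈ irreducibleComponents ((g ≫ f).fiber (f x)) ∧
        ∃ u' ∈ Z, (g ≫ f).fiberι (f x) u' = u}.encard := by
  obtain ⟨_, ⟨V, hV, rfl⟩, hxV, -⟩ := X.isBasis_affineOpens.exists_subset_of_mem_open (Set.mem_univ x) isOpen_univ
  letI : Algebra Γ(X, V) (X.presheaf.stalk x) := TopCat.Presheaf.algebra_section_stalk X.presheaf (⟨x, hxV⟩ : V)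
  haveI : IsLocalization.AtPrime (X.presheaf.stalk x) (hV.primeIdealOf ⟨x, hxV⟩).asIdeal := hV.isLocalization_stalk ⟨x, hxV⟩
  obtain ⟨E, _, _, q, hq, het, hqm, hcard, hfr⟩ :=
    exists_nbhd_quot_card_ge (hV.primeIdealOf ⟨x, hxV⟩).asIdeal (X.presheaf.stalk x) S
      ((fibIdeal f x).comap (algebraMap Γ(X, V) (X.presheaf.stalk x))) hcov n (hn.trans (le_of_eq
        (card_minimalPrimes_congr (Ideal.quotEquivOfEq (I := (fibIdeal f x).map (algebraMap (X.presheaf.stalk x) S)) (J := ((fibIdeal f x).comap (algebraMap Γ(X, V) (X.presheaf.stalk x))).map ((algebraMap (X.presheaf.stalk x) S).comp (algebraMap Γ(X, V) (X.presheaf.stalk x)))) (by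
          rw [← Ideal.map_map, IsLocalization.map_under (hV.primeIdealOf ⟨x, hxV⟩).asIdeal.primeCompl])))))
  let φ : Γ(X, V) ⟶ CommRingCat.of E := CommRingCat.ofHom (algebraMap Γ(X, V) E)
  haveI : Etale (Spec.map φ) := (HasRingHomProperty.Spec_iff (P := @Etale)).2 (RingHom.etale_algebraMap.2 het)
  let v : Spec (CommRingCat.of E) := ⟨q, hq⟩
  let g := Spec.map φ ≫ hV.fromSpec
  have hgx : g v = x := by
    show hV.fromSpec ((Spec.map φ) v) = x
    rw [show (Spec.map φ) v = hV.primeIdealOf ⟨x, hxV⟩ from PrimeSpectrum.ext hqm]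
    exact hV.fromSpec_primeIdealOf ⟨x, hxV⟩
  refine ⟨_, g, v, inferInstance, hgx,
    fun hres => ApproxLib.residueFieldMap_bijective_of_isFrac hV φ v (hfr hres), ?_⟩
  rw [encard_fiber_components (g ≫ f) (f x) v (by rw [Scheme.Hom.comp_apply, hgx])]
  refine hcard.trans (le_of_eq (card_minimalPrimes_congr ?_))
  letI : Algebra E ((Spec (CommRingCat.of E)).presheaf.stalk v) := (ApproxLib.toStalkSpec (CommRingCat.of E) v).hom.toAlgebra
  haveI : IsLocalization.AtPrime ((Spec (CommRingCat.of E)).presheaf.stalk v) q :=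
    ApproxLib.isLocalization_toStalkSpec (CommRingCat.of E) v
  let ε := IsLocalization.algEquiv q.primeCompl (Localization.AtPrime q) ((Spec (CommRingCat.of E)).presheaf.stalk v)
  refine Ideal.quotientEquiv _ _ ε.toRingEquiv ?_
  conv_lhs => rw [Scheme.Hom.stalkMap_comp, CommRingCat.hom_comp, ← Ideal.map_map]
  have hgerm : ∀ (hv : g v ∈ V) (r : Γ(X, V)), g.stalkMap v (X.presheaf.germ V (g v) hv r) =
      algebraMap E ((Spec (CommRingCat.of E)).presheaf.stalk v) (algebraMap Γ(X, V) E r) := fun hv r =>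
    RingHom.congr_fun (congrArg CommRingCat.Hom.hom (ApproxLib.germ_stalkMap_of_eq hV g φ rfl v hv)) r
  clear_value g
  subst hgx
  show Ideal.map (g.stalkMap v).hom (fibIdeal f (g v)) = _
  refine (congrArg (fun I => Ideal.map (g.stalkMap v).hom I)
    (IsLocalization.map_under (hV.primeIdealOf ⟨g v, hxV⟩).asIdeal.primeCompl (X.presheaf.stalk (g v)) (fibIdeal f (g v))).symm).trans ?_
  rw [Ideal.map_map, Ideal.map_map]
  refine congrArg (fun φ => Ideal.map φ _) (RingHom.ext fun r => ?_)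
  exact (hgerm hxV r).trans (ε.commutes _).symm

theorem exists_fiber_stalk_algebra :
    ∃ _ : Algebra (X.presheaf.stalk x) ((f.fiber (f x)).presheaf.stalk (f.asFiber x)),
      Function.Surjective (algebraMap (X.presheaf.stalk x) ((f.fiber (f x)).presheaf.stalk (f.asFiber x))) ∧
      RingHom.ker (algebraMap (X.presheaf.stalk x) ((f.fiber (f x)).presheaf.stalk (f.asFiber x))) = fibIdeal f x := by
  obtain ⟨e⟩ := exists_fiber_stalk_equiv f (f x) (f.asFiber x) x (f.fiberι_asFiber x)
  let φ := e.symm.toRingHom.comp (Ideal.Quotient.mk (fibIdeal f x))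
  refine ⟨φ.toAlgebra, e.symm.surjective.comp Ideal.Quotient.mk_surjective, ?_⟩
  show RingHom.ker φ = _
  ext a
  rw [RingHom.mem_ker]
  show e.symm (Ideal.Quotient.mk (fibIdeal f x) a) = 0 ↔ _
  rw [map_eq_zero_iff _ e.symm.injective, Ideal.Quotient.eq_zero_iff_mem]

theorem numBranchesAt_fiber_eq : Brnch.numBranchesAt (f.fiber (f x)) (f.asFiber x) =
    ⨆ (U : Scheme.{u}) (g : U ⟶ X) (u : U) (_ : Hens2.IsEtaleNbhd g u x),
      {Z : Set ((g ≫ f).fiber (f x)) | Z ∈ irreducibleComponents ((g ≫ f).fiber (f x)) ∧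
        ∃ u' ∈ Z, (g ≫ f).fiberι (f x) u' = u}.encard := by
  let A : Type u := X.presheaf.stalk x
  let S := HenselLib.HR A
  haveI : HenselianLocalRing S := Hensel.IsHenselization.henselian (R := A)
  haveI : Module.FaithfullyFlat A S := Groth.Agent.S0509.result A S
  obtain ⟨e⟩ := HenselLib.nonempty_algEquiv_HR (R := A) S
  have hcov := HenselLib.etCov_of_algEquiv e (HenselLib.etCov_hens _)
  have hres : ∀ s : S, ∃ a : A, s - algebraMap A S a ∈ maximalIdeal S := fun s => by
    obtain ⟨c, hc⟩ := (Groth.Agent.S0508.result A S).2 (residue S s)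
    obtain ⟨a, rfl⟩ := residue_surjective c
    exact ⟨a, (residue_eq_zero_iff _).1 (by rw [map_sub, ← hc]; exact sub_self _)⟩
  obtain ⟨_, hsurj, hker⟩ := exists_fiber_stalk_algebra f x
  unfold Brnch.numBranchesAt
  rw [card_quot_eq_numBranches A S _ hsurj hcov hres, hker]
  refine le_antisymm (ENat.forall_natCast_le_iff_le.1 fun n hn => ?_) ?_
  · obtain ⟨U, g, u, het, hgx, hb, hle⟩ := exists_fiber_nbhd_card_ge f x S hcov n hn
    exact le_iSup_of_le U (le_iSup_of_le g (le_iSup_of_le u (le_iSup_of_le ⟨het, hgx, hb hres⟩ hle)))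
  · refine iSup_le fun U => iSup_le fun g => iSup_le fun u => iSup_le fun h => ?_
    obtain ⟨het, hgx, hb⟩ := h
    haveI := het
    exact encard_fiber_components_le f x S g u hgx (Or.inl hb)

theorem numGeomBranchesAt_fiber_eq : Brnch.numGeomBranchesAt (f.fiber (f x)) (f.asFiber x) =
    ⨆ (U : Scheme.{u}) (g : U ⟶ X) (u : U) (_ : Etale g ∧ g u = x),
      {Z : Set ((g ≫ f).fiber (f x)) | Z ∈ irreducibleComponents ((g ≫ f).fiber (f x)) ∧
        ∃ u' ∈ Z, (g ≫ f).fiberι (f x) u' = u}.encard := by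
  let A : Type u := X.presheaf.stalk x
  let S := HenselLib.SH A
  haveI : HenselianLocalRing S := Hensel.IsStrictHenselization.henselian (R := A)
  haveI := (Hensel.IsStrictHenselization.isSepClosure (R := A) (S := S)).sep_closed
  haveI : Algebra.IsSeparable (ResidueField A) (ResidueField S) :=
    (Hensel.IsStrictHenselization.isSepClosure (R := A) (S := S)).separable
  haveI : Module.FaithfullyFlat A S := Groth.Agent.S0539.result A S
  obtain ⟨e⟩ := HenselLib.nonempty_algEquiv_SH (R := A) S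
  have hcov := HenselLib.etCov_of_algEquiv e (HenselLib.etCov_hens _)
  obtain ⟨_, hsurj, hker⟩ := exists_fiber_stalk_algebra f x
  unfold Brnch.numGeomBranchesAt
  rw [card_quot_eq_numGeomBranches A S _ hsurj hcov, hker]
  refine le_antisymm (ENat.forall_natCast_le_iff_le.1 fun n hn => ?_) ?_
  · obtain ⟨U, g, u, het, hgx, -, hle⟩ := exists_fiber_nbhd_card_ge f x S hcov n hn
    exact le_iSup_of_le U (le_iSup_of_le g (le_iSup_of_le u (le_iSup_of_le ⟨het, hgx⟩ hle)))
  · refine iSup_le fun U => iSup_le fun g => iSup_le fun u => iSup_le fun h => ?_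
    haveI := h.1
    exact encard_fiber_components_le f x S g u h.2 (Or.inr ‹_›)

end Scheme

end

end HenselBranchLib
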