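import Groth.Agent.HenselBranchLib.Count
import Groth.Agent.HensFormalLib.Radicial

/-! Geometric branches do not change along purely inseparable (power map) extensions. -/

set_option autoImplicit false
set_option linter.style.haveILetI false
set_option linter.overlappingInstances false
set_option maxHeartbeats 1000000
set_option synthInstance.maxHeartbeats 400000
set_option backward.isDefEq.respectTransparency false
universe u

open IsLocalRing

namespace HenselBranchLib

noncomputable section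

variable (A B : Type u) [CommRing A] [CommRing B] [Algebra A B] (q : ℕ)

/-- The comap on primes is injective for a power map extension. -/
theorem eq_of_comap_eq_of_pow (hpow : ∀ b : B, ∃ (n : ℕ) (a : A), b ^ q ^ n = algebraMap A B a) (hq : 0 < q)
    (P P' : Ideal B) [hP : P.IsPrime] [hP' : P'.IsPrime]
    (h : P.comap (algebraMap A B) = P'.comap (algebraMap A B)) : P = P' := by
  refine Ideal.ext fun x => ?_
  obtain ⟨n, a, ha⟩ := hpow x
  rw [← hP.pow_mem_iff_mem (q ^ n) (pow_pos hq n), ← hP'.pow_mem_iff_mem (q ^ n) (pow_pos hq n), ha,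
    ← Ideal.mem_comap, h, Ideal.mem_comap]

theorem finite_minimalPrimes_iff_of_pow (hpow : ∀ b : B, ∃ (n : ℕ) (a : A), b ^ q ^ n = algebraMap A B a)
    (hker : RingHom.ker (algebraMap A B) ≤ nilradical A) (hq : 0 < q) :
    (minimalPrimes A).Finite ↔ (minimalPrimes B).Finite := by
  haveI : Algebra.IsIntegral A B := ⟨fun b => by
    obtain ⟨n, a, ha⟩ := hpow b
    refine IsIntegral.of_pow (pow_pos hq n) ?_
    rw [ha]; exact isIntegral_algebraMap⟩
  have hsurj : ∀ p : Ideal A, p.IsPrime → ∃ P : Ideal B, P.IsPrime ∧ P.comap (algebraMap A B) = p := fun p hp => by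
    haveI := hp
    obtain ⟨P, -, hP, hPp⟩ := Ideal.exists_ideal_over_prime_of_isIntegral p (⊥ : Ideal B)
      (by rw [← RingHom.ker_eq_comap_bot]; exact hker.trans (nilradical_le_prime p))
    exact ⟨P, hP, hPp⟩
  have hb : Set.BijOn (Ideal.comap (algebraMap A B)) (minimalPrimes B) (minimalPrimes A) := by
    refine ⟨fun P hP => ?_, fun P hP P' hP' h => ?_, fun p hp => ?_⟩
    · haveI := hP.1.1
      refine ⟨⟨Ideal.IsPrime.comap _, bot_le⟩, fun p hp hle => ?_⟩
      obtain ⟨P', hP'p, rfl⟩ := hsurj p hp.1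
      haveI := hP'p
      obtain ⟨P'', hP'', hle''⟩ := Ideal.exists_minimalPrimes_le (I := (⊥ : Ideal B)) (J := P') bot_le
      haveI := hP''.1.1
      have hPP : P' ≤ P := fun x hx => by
        obtain ⟨n, a, ha⟩ := hpow x
        refine hP.1.1.mem_of_pow_mem (q ^ n) ?_
        rw [ha]
        exact hle (show algebraMap A B a ∈ P' from ha ▸ Ideal.pow_mem_of_mem _ hx _ (pow_pos hq n))
      exact Ideal.comap_mono (hP.2 ⟨hP'p, bot_le⟩ hPP)
    · haveI := hP.1.1
      haveI := hP'.1.1
      exact eq_of_comap_eq_of_pow A B q hpow hq P P' h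
    · obtain ⟨P, hP, hPp⟩ := hsurj p hp.1.1
      haveI := hP
      obtain ⟨P', hP', hle⟩ := Ideal.exists_minimalPrimes_le (I := (⊥ : Ideal B)) (J := P) bot_le
      haveI := hP'.1.1
      have h1 : P'.comap (algebraMap A B) ≤ p := (Ideal.comap_mono hle).trans hPp.le
      exact ⟨P', hP', le_antisymm h1 (hp.2 ⟨Ideal.IsPrime.comap _, bot_le⟩ h1)⟩
  exact hb.finite_iff_finite.symm

/-- Extension of the normalization map to a power map extension. -/
theorem exists_normRed_map (hpow : ∀ b : B, ∃ (n : ℕ) (a : A), b ^ q ^ n = algebraMap A B a)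
    (hker : RingHom.ker (algebraMap A B) ≤ nilradical A) (hq : 0 < q) :
    ∃ ν : CAlg2.normRed A →+* CAlg2.normRed B, Function.Injective ν ∧
      (∀ a, ν (algebraMap A _ a) = algebraMap B _ (algebraMap A B a)) ∧
      ∀ w, ∃ (n : ℕ) (z : CAlg2.normRed A), w ^ q ^ n = ν z := by
  haveI : Algebra.IsIntegral A B := ⟨fun b => by
    obtain ⟨n, a, ha⟩ := hpow b
    refine IsIntegral.of_pow (pow_pos hq n) ?_
    rw [ha]; exact isIntegral_algebraMap⟩
  haveI : IsReduced (CAlg2.red B) :=
    (Ideal.isRadical_iff_quotient_reduced _).1 (Ideal.radical_isRadical (⊥ : Ideal B))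
  let ι : CAlg2.red A →+* CAlg2.red B := Ideal.quotientMap (nilradical B) (algebraMap A B)
    fun a ha => mem_nilradical.2 ((mem_nilradical.1 ha).map _)
  have hι : Function.Injective ι := (injective_iff_map_eq_zero ι).2 fun z hz => by
    obtain ⟨a, rfl⟩ := Ideal.Quotient.mk_surjective z
    obtain ⟨k, hk⟩ := mem_nilradical.1 (Ideal.Quotient.eq_zero_iff_mem.1 hz)
    rw [← map_pow] at hk
    exact Ideal.Quotient.eq_zero_iff_mem.2 ((Ideal.radical_isRadical (⊥ : Ideal A)).radical.le ⟨k, hker hk⟩)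
  have hιpow : ∀ y : CAlg2.red B, ∃ (n : ℕ) (c : CAlg2.red A), y ^ q ^ n = ι c := fun y => by
    obtain ⟨b, rfl⟩ := Ideal.Quotient.mk_surjective y
    obtain ⟨n, a, ha⟩ := hpow b
    exact ⟨n, Ideal.Quotient.mk _ a, by rw [← map_pow, ha]; rfl⟩
  have hnzd : nonZeroDivisors (CAlg2.red A) ≤ (nonZeroDivisors (CAlg2.red B)).comap ι := fun a ha => by
    refine mem_nonZeroDivisors_iff_right.2 fun y hy => ?_
    obtain ⟨n, c, hc⟩ := hιpow y
    have h1 : c * a ^ q ^ n = 0 := hι (by
      rw [map_mul, map_pow, map_zero, ← hc, ← mul_pow, hy, zero_pow (pow_pos hq n).ne'])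
    have h2 : y ^ q ^ n = 0 := by rw [hc, mem_nonZeroDivisors_iff_right.1 (pow_mem ha _) c h1, map_zero]
    exact IsReduced.eq_zero _ ⟨_, h2⟩
  let KA := FractionRing (CAlg2.red A)
  let KB := FractionRing (CAlg2.red B)
  let κ : KA →+* KB := IsLocalization.map KB ι hnzd
  have hκι : ∀ c, κ (algebraMap _ KA c) = algebraMap _ KB (ι c) := IsLocalization.map_eq hnzd
  have hκ : Function.Injective κ := (injective_iff_map_eq_zero κ).2 fun z hz => by
    obtain ⟨⟨a, s⟩, hz'⟩ := IsLocalization.surj (nonZeroDivisors (CAlg2.red A)) z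
    have h1 := congrArg κ hz'
    rw [map_mul, hz, zero_mul, hκι] at h1
    rw [hι ((IsFractionRing.injective (CAlg2.red B) KB) (h1.symm.trans (map_zero _).symm) |>.trans (map_zero ι).symm),
      map_zero] at hz'
    exact (IsLocalization.map_units KA s).mul_left_eq_zero.1 hz'
  have hκA : ∀ a : A, κ (algebraMap A KA a) = algebraMap B KB (algebraMap A B a) := fun a => hκι _
  have hκpow : ∀ x : KB, ∃ (n : ℕ) (z : KA), x ^ q ^ n = κ z := fun x => by
    obtain ⟨⟨b, s⟩, hx⟩ := IsLocalization.surj (nonZeroDivisors (CAlg2.red B)) x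
    obtain ⟨n, a, ha⟩ := hιpow b
    obtain ⟨m, t, ht⟩ := hιpow (s : CAlg2.red B)
    have ht' : t ^ q ^ n ∈ nonZeroDivisors (CAlg2.red A) := mem_nonZeroDivisors_iff_right.2 fun y hy => hι (by
      rw [map_zero]
      refine mem_nonZeroDivisors_iff_right.1 (pow_mem (pow_mem s.2 (q ^ m)) (q ^ n)) _ ?_
      rw [ht, ← map_pow, ← map_mul, hy, map_zero])
    refine ⟨n + m, IsLocalization.mk' KA (a ^ q ^ m) ⟨_, ht'⟩, ?_⟩
    have hu : IsUnit (algebraMap (CAlg2.red B) KB (ι (t ^ q ^ n))) := IsLocalization.map_units KB (⟨ι (t ^ q ^ n), hnzd ht'⟩ : nonZeroDivisors (CAlg2.red B))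
    refine hu.mul_left_inj.1 ?_
    rw [← hκι (t ^ q ^ n), ← map_mul, IsLocalization.mk'_spec, hκι, hκι]
    simp only [map_pow, ← ha, ← ht]
    simp only [← pow_mul, ← pow_add, add_comm m n]
    rw [← mul_pow, hx]
  let ν : CAlg2.normRed A →+* CAlg2.normRed B :=
    (κ.comp (algebraMap (CAlg2.normRed A) KA)).codRestrict (integralClosure (CAlg2.red B) KB) fun z => by
      obtain ⟨p, hp, hpz⟩ := z.2
      refine ⟨p.map ι, hp.map ι, ?_⟩
      rw [Polynomial.eval₂_map, show (algebraMap (CAlg2.red B) KB).comp ι = κ.comp (algebraMap (CAlg2.red A) KA) from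
        RingHom.ext fun c => (hκι c).symm]
      show Polynomial.eval₂ _ (κ (z : KA)) p = 0
      rw [← Polynomial.hom_eval₂, hpz, map_zero]
  refine ⟨ν, fun z z' h => Subtype.ext (hκ (congrArg Subtype.val h)), fun a => Subtype.ext (hκA a), fun w => ?_⟩
  obtain ⟨n, z, hz⟩ := hκpow (w : KB)
  let κA : KA →ₐ[A] KB := { κ with
    commutes' := fun a => (hκA a).trans (IsScalarTower.algebraMap_apply A B KB a).symm }
  have h1 : IsIntegral B (w : KB) := isIntegral_trans (R := B) (A := CAlg2.red B) _ w.2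
  have h2 : IsIntegral A (w : KB) := isIntegral_trans (R := A) (A := B) _ h1
  have h3 : IsIntegral A z := by
    refine (isIntegral_algHom_iff κA hκ).1 ?_
    show IsIntegral A (κ z)
    rw [← hz]
    exact h2.pow _
  exact ⟨n, ⟨z, h3.tower_top⟩, Subtype.ext hz⟩

/-- Power map extensions have the same geometric branches. -/
theorem numGeomBranches_eq_of_pow [IsLocalRing A] [IsLocalRing B] [IsLocalHom (algebraMap A B)]
    [ExpChar (ResidueField B) q] (hpow : ∀ b : B, ∃ (n : ℕ) (a : A), b ^ q ^ n = algebraMap A B a)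
    (hker : RingHom.ker (algebraMap A B) ≤ nilradical A) :
    Brnch.numGeomBranches A = Brnch.numGeomBranches B := by
  have hq : 0 < q := expChar_pos (ResidueField B) q
  by_cases hfin : (minimalPrimes A).Finite
  · have hfinB := (finite_minimalPrimes_iff_of_pow A B q hpow hker hq).1 hfin
    haveI := (isNormRed_normRed A hfin).isIntegral
    obtain ⟨ν, hν, hνA, hνpow⟩ := exists_normRed_map A B q hpow hker hq
    rw [← card_hom_eq_numGeomBranches A hfin, ← card_hom_eq_numGeomBranches B hfinB]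
    let ΩA := AlgebraicClosure (ResidueField A)
    let Ω := AlgebraicClosure (ResidueField B)
    letI : Algebra A ΩA := (Brnch.toClosure A).toAlgebra
    letI : Algebra B Ω := (Brnch.toClosure B).toAlgebra
    letI : Algebra A Ω := ((algebraMap B Ω).comp (algebraMap A B)).toAlgebra
    haveI : ExpChar Ω q := expChar_of_injective_ringHom (algebraMap (ResidueField B) Ω).injective q
    haveI : Algebra.IsAlgebraic (ResidueField A) (ResidueField B) := ⟨fun z => by
      obtain ⟨b, rfl⟩ := residue_surjective z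
      obtain ⟨n, a, ha⟩ := hpow b
      refine (IsIntegral.of_pow (pow_pos hq n) ?_).isAlgebraic
      rw [← map_pow, ha]
      exact isIntegral_algebraMap (x := residue A a)⟩
    haveI : Algebra.IsAlgebraic (ResidueField A) Ω := Algebra.IsAlgebraic.trans (ResidueField A) (ResidueField B) Ω
    haveI : IsAlgClosure (ResidueField A) Ω := ⟨inferInstance, inferInstance⟩
    let ψ : ΩA ≃ₐ[ResidueField A] Ω := IsAlgClosure.equiv (ResidueField A) ΩA Ω
    let ψA : ΩA ≃ₐ[A] Ω := AlgEquiv.ofRingEquiv (f := ψ.toRingEquiv) fun a => by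
      refine (ψ.commutes (residue A a)).trans ?_
      rfl
    let e₁ : (CAlg2.normRed A →ₐ[A] ΩA) ≃ (CAlg2.normRed A →ₐ[A] Ω) :=
      { toFun := fun σ => (ψA : ΩA →ₐ[A] Ω).comp σ
        invFun := fun σ => (ψA.symm : Ω →ₐ[A] ΩA).comp σ
        left_inv := fun σ => AlgHom.ext fun z => ψA.symm_apply_apply _
        right_inv := fun σ => AlgHom.ext fun z => ψA.apply_symm_apply _ }
    have hinjpow : ∀ (n : ℕ) (x y : Ω), x ^ q ^ n = y ^ q ^ n → x = y := fun n x y h =>
      iterateFrobenius_inj Ω q n (by rwa [iterateFrobenius_def, iterateFrobenius_def])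
    let g : (CAlg2.normRed B →ₐ[B] Ω) → (CAlg2.normRed A →ₐ[A] Ω) := fun σ =>
      { σ.toRingHom.comp ν with
        commutes' := fun a => by
          show σ (ν (algebraMap A _ a)) = _
          rw [hνA, σ.commutes]
          rfl }
    refine (ENat.card_congr (e₁.trans (Equiv.ofBijective g ⟨fun σ σ' h => AlgHom.ext fun w => ?_, fun τ => ?_⟩).symm))
    · obtain ⟨n, z, hz⟩ := hνpow w
      refine hinjpow n _ _ ?_
      rw [← map_pow, ← map_pow, hz]
      exact congr($h z)
    · letI := ν.toAlgebra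
      haveI : Algebra.IsIntegral (CAlg2.normRed A) (CAlg2.normRed B) := ⟨fun w => by
        obtain ⟨n, z, hz⟩ := hνpow w
        refine IsIntegral.of_pow (pow_pos hq n) ?_
        rw [hz]; exact isIntegral_algebraMap⟩
      obtain ⟨φ, hφ⟩ := HensFormalLib.exists_lift_algClosed (CAlg2.normRed A) (CAlg2.normRed B) Ω τ.toRingHom
        (fun z hz => by
          rw [RingHom.mem_ker] at hz
          rw [hν (hz.trans (map_zero ν).symm)]
          exact zero_mem _)
      refine ⟨{ φ with commutes' := fun b => ?_ }, AlgHom.ext fun z => hφ z⟩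
      obtain ⟨n, a, ha⟩ := hpow b
      refine hinjpow n _ _ ?_
      show φ (algebraMap B _ b) ^ q ^ n = _
      rw [← map_pow φ, ← map_pow, ← map_pow, ha, ← hνA]
      exact (hφ _).trans (τ.commutes a)
  · have hfinB : ¬ (minimalPrimes B).Finite := fun h =>
      hfin ((finite_minimalPrimes_iff_of_pow A B q hpow hker hq).2 h)
    unfold Brnch.numGeomBranches
    rw [if_neg hfin, if_neg hfinB]

end

end HenselBranchLib
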