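import Groth.Agent.HenselBranchLib.NormBC
import Groth.Agent.HenselBranchLib.PurInsepBC
import Groth.Agent.HensFormalLib.FieldBC
import Groth.Agent.S2670
import Groth.Agent.S9238
import Mathlib.RingTheory.Localization.BaseChange

/-! Geometric branches do not change under extension of the ground field. -/

set_option autoImplicit false
set_option linter.style.haveILetI false
set_option linter.overlappingInstances false
set_option maxHeartbeats 1000000
set_option synthInstance.maxHeartbeats 400000
set_option backward.isDefEq.respectTransparency false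
universe u

open IsLocalRing TensorProduct

namespace HenselBranchLib

noncomputable section

/-- Normal field extension. -/
theorem numGeomBranches_tensor_of_isNormalHom (k A k1 : Type u) [Field k] [CommRing A] [IsLocalRing A]
    [Algebra k A] [Field k1] [Algebra k k1] (h : EGA4.IsNormalHom k k1) (P : Ideal (A ⊗[k] k1)) [P.IsPrime]
    (hP : P.comap (algebraMap A (A ⊗[k] k1)) = maximalIdeal A) :
    Brnch.numGeomBranches A = Brnch.numGeomBranches (Localization.AtPrime P) := by
  let S := A ⊗[k] k1
  let C := Localization.AtPrime P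
  haveI : Module.Flat A C := Module.Flat.trans A S C
  haveI : IsLocalHom (algebraMap A C) := ⟨fun a ha => by
    by_contra hu
    rw [IsScalarTower.algebraMap_apply A S C, IsLocalization.AtPrime.isUnit_to_map_iff C P] at ha
    exact ha (hP.ge hu)⟩
  rw [← Groth.Agent.S9238.result A (HenselLib.SH A), ← Groth.Agent.S9238.result C (HenselLib.SH C)]
  refine card_strictHenselization_eq A C (fun hfin => ?_) _ _
  let N := CAlg2.normRed A
  have h0 : EGA4.IsNormalRing (k1 ⊗[k] N) :=
    Groth.Agent.S2670.result k k1 h N fun n _ => (isNormRed_normRed A hfin).normal n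
  have h1 : EGA4.IsNormalRing (N ⊗[A] S) := by
    refine GeomRedFibLib.isNormalRing_of_ringEquiv _ _ ?_ h0
    exact (Algebra.TensorProduct.comm k k1 N).toRingEquiv.trans
      (Algebra.TensorProduct.cancelBaseChange k A A N k1).toRingEquiv.symm
  letI : Algebra (N ⊗[A] S) (N ⊗[A] C) :=
    (Algebra.TensorProduct.map (AlgHom.id A N) (IsScalarTower.toAlgHom A S C)).toAlgebra
  haveI : IsScalarTower N (N ⊗[A] S) (N ⊗[A] C) :=
    IsScalarTower.of_algebraMap_eq (R := N) (S := N ⊗[A] S) (A := N ⊗[A] C) <| by
      intro n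
      show (algebraMap N N n) ⊗ₜ[A] (1 : C) =
        (Algebra.TensorProduct.map (AlgHom.id A N) (IsScalarTower.toAlgHom A S C)) ((algebraMap N N n) ⊗ₜ[A] (1 : S))
      rw [Algebra.TensorProduct.map_tmul, map_one]
      rfl
  haveI := IsLocalization.tensorProduct_tensorProduct_right A N P.primeCompl C
    (RingHom.ext fun s => by
      show (Algebra.TensorProduct.map (AlgHom.id A N) (IsScalarTower.toAlgHom A S C)) ((1 : N) ⊗ₜ[A] s) =
        (1 : N) ⊗ₜ[A] algebraMap S C s
      rw [Algebra.TensorProduct.map_tmul]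
      rfl)
  exact HensFormalLib.isNormalRing_of_isLocalization (N ⊗[A] S) (N ⊗[A] C)
    (P.primeCompl.map (Algebra.TensorProduct.includeRight (R := A) (A := N))) h1

/-- Arbitrary field extension. -/
theorem numGeomBranches_tensor_field (k A k' : Type u) [Field k] [CommRing A] [IsLocalRing A]
    [Algebra k A] [Field k'] [Algebra k k'] (Q : Ideal (A ⊗[k] k')) [Q.IsPrime]
    (hQ : Q.comap (algebraMap A (A ⊗[k] k')) = maximalIdeal A) :
    Brnch.numGeomBranches A = Brnch.numGeomBranches (Localization.AtPrime Q) := by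
  obtain ⟨k1, _, _, _, _, _, hred⟩ := HensFormalLib.exists_separable_purelyInseparable k k'
  let T := A ⊗[k] k1
  let U := A ⊗[k] k'
  let g : T →ₐ[k] U := Algebra.TensorProduct.map (AlgHom.id k A) (IsScalarTower.toAlgHom k k1 k')
  letI : Algebra T U := g.toRingHom.toAlgebra
  have hg : Function.Injective (algebraMap T U) :=
    Module.Flat.lTensor_preserves_injective_linearMap (M := A) (IsScalarTower.toAlgHom k k1 k').toLinearMap
      (algebraMap k1 k').injective
  have hgA : ∀ a : A, algebraMap T U (algebraMap A T a) = algebraMap A U a := fun a => by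
    show g (a ⊗ₜ 1) = a ⊗ₜ 1
    exact congrArg (fun y => a ⊗ₜ[k] y) (map_one (algebraMap k1 k'))
  let P := Q.comap (algebraMap T U)
  haveI hPp : P.IsPrime := Ideal.IsPrime.comap _
  have hP : P.comap (algebraMap A T) = maximalIdeal A := by
    rw [Ideal.comap_comap, ← hQ]
    exact congrArg (fun φ => Ideal.comap φ Q) (RingHom.ext hgA)
  rw [numGeomBranches_tensor_of_isNormalHom k A k1 (HensFormalLib.isNormalHom_field k k1 hred) P hP]
  obtain ⟨q, hq⟩ := ExpChar.exists k1
  haveI := hq
  haveI : ExpChar k' q := expChar_of_injective_ringHom (algebraMap k1 k').injective q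
  haveI hqk : ExpChar k q := (algebraMap k k1).expChar (algebraMap k k1).injective q
  let C := Localization.AtPrime P
  let B := Localization.AtPrime Q
  letI : Algebra C B := (Localization.localRingHom P Q (algebraMap T U) rfl).toAlgebra
  haveI : IsLocalHom (algebraMap C B) := Localization.isLocalHom_localRingHom P Q (algebraMap T U) rfl
  haveI : ExpChar (ResidueField B) q :=
    expChar_of_injective_ringHom (algebraMap k (ResidueField B)).injective q
  haveI : Nontrivial (U ⧸ Q) := Ideal.Quotient.nontrivial_iff.2 ‹Q.IsPrime›.ne_top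
  haveI : Nontrivial U := (Ideal.Quotient.mk Q).domain_nontrivial
  haveI : ExpChar U q := expChar_of_injective_ringHom (algebraMap k U).injective q
  have hpow : ∀ u : U, ∃ (n : ℕ) (t : T), u ^ q ^ n = algebraMap T U t := fun u => by
    induction u using TensorProduct.induction_on with
    | zero => exact ⟨0, 0, by simp⟩
    | tmul a c =>
      obtain ⟨n, d, hd⟩ := IsPurelyInseparable.pow_mem k1 q c
      refine ⟨n, (a ^ q ^ n) ⊗ₜ d, ?_⟩
      rw [Algebra.TensorProduct.tmul_pow, ← hd]
      rfl
    | add x y hx hy =>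
      obtain ⟨n, t, ht⟩ := hx
      obtain ⟨m, t', ht'⟩ := hy
      refine ⟨n + m, t ^ q ^ m + t' ^ q ^ n, ?_⟩
      rw [add_pow_expChar_pow, map_add, map_pow, map_pow, ← ht, ← ht', ← pow_mul, ← pow_mul, ← pow_add, ← pow_add,
        add_comm m n]
  have hq0 : 0 < q := expChar_pos k q
  have halg : ∀ t, algebraMap C B (algebraMap T C t) = algebraMap U B (algebraMap T U t) :=
    Localization.localRingHom_to_map P Q _ rfl
  refine numGeomBranches_eq_of_pow C B q (fun x => ?_) fun z hz => ?_
  · obtain ⟨⟨a, b⟩, hab⟩ := IsLocalization.surj Q.primeCompl x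
    obtain ⟨n, ta, hta⟩ := hpow a
    obtain ⟨m, tb, htb⟩ := hpow (b : U)
    have hbP : tb ^ q ^ n ∈ P.primeCompl := fun hmem => b.2 (‹Q.IsPrime›.mem_of_pow_mem (q ^ m)
      (htb ▸ ((hPp.mem_of_pow_mem _ hmem) : _)))
    refine ⟨n + m, IsLocalization.mk' C (ta ^ q ^ m) ⟨tb ^ q ^ n, hbP⟩, ?_⟩
    show x ^ q ^ (n + m) = Localization.localRingHom P Q (algebraMap T U) rfl _
    rw [Localization.localRingHom_mk', IsLocalization.eq_mk'_iff_mul_eq]
    show x ^ q ^ (n + m) * algebraMap U _ (algebraMap T U (tb ^ q ^ n)) = algebraMap U _ (algebraMap T U (ta ^ q ^ m))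
    simp only [map_pow, ← hta, ← htb]
    simp only [← pow_mul, ← pow_add, add_comm m n]
    rw [← mul_pow, hab]
  · obtain ⟨⟨a, s⟩, has⟩ := IsLocalization.surj P.primeCompl z
    rw [RingHom.mem_ker] at hz
    have h1 : algebraMap U B (algebraMap T U a) = 0 := by
      rw [← halg, ← has, map_mul, hz, zero_mul]
    obtain ⟨c, hc⟩ := (IsLocalization.map_eq_zero_iff Q.primeCompl B _).1 h1
    obtain ⟨n, tc, htc⟩ := hpow (c : U)
    have h2 : tc * a = 0 := hg (by
      rw [map_mul, map_zero, ← htc, ← Nat.succ_pred_eq_of_ne_zero (pow_pos hq0 n).ne', pow_succ, mul_assoc, hc,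
        mul_zero])
    have htc' : tc ∉ P := fun hm => c.2 (‹Q.IsPrime›.mem_of_pow_mem (q ^ n) (htc ▸ (hm : _)))
    have h3 : algebraMap T C a = 0 := (IsLocalization.map_eq_zero_iff P.primeCompl C a).2 ⟨⟨tc, htc'⟩, h2⟩
    rw [h3] at has
    rw [(IsLocalization.map_units C s).mul_left_eq_zero.1 has]
    exact zero_mem _

end

end HenselBranchLib

namespace HenselBranchLib

theorem numGeomBranches_congr {A B : Type u} [CommRing A] [IsLocalRing A] [CommRing B] [IsLocalRing B] (e : A ≃+* B) :
    Brnch.numGeomBranches A = Brnch.numGeomBranches B := by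
  letI := e.toRingHom.toAlgebra
  haveI : IsLocalHom (algebraMap A B) := ⟨fun a ha => by
    have h := ha.map e.symm.toRingHom
    rwa [show e.symm.toRingHom (algebraMap A B a) = a from e.symm_apply_apply a] at h⟩
  obtain ⟨q, hq⟩ := ExpChar.exists (IsLocalRing.ResidueField B)
  haveI := hq
  refine numGeomBranches_eq_of_pow A B q (fun b => ⟨0, e.symm b, ?_⟩) fun a ha => ?_
  · rw [pow_zero, pow_one]
    exact (e.apply_symm_apply b).symm
  · rw [e.injective ((RingHom.mem_ker.1 ha).trans (map_zero e).symm)]
    exact zero_mem _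

end HenselBranchLib
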