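import Groth.Agent.HenselBranchLib.NormCpl
import Groth.Agent.NorLocLib.SmoothLocal
import Groth.Agent.HensFormalLib.NormalBCUnibranch

/-! Branches along flat local maps that keep the normalization normal, e.g. smooth ones. -/

set_option autoImplicit false
set_option linter.style.haveILetI false
set_option linter.overlappingInstances false
set_option maxHeartbeats 1000000
set_option synthInstance.maxHeartbeats 400000
set_option backward.isDefEq.respectTransparency false
universe u

open IsLocalRing TensorProduct

namespace HenselBranchLib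

noncomputable section

attribute [local instance] Algebra.TensorProduct.rightAlgebra

variable (A B : Type u) [CommRing A] [IsLocalRing A] [CommRing B] [IsLocalRing B] [Algebra A B]
  [IsLocalHom (algebraMap A B)] [Module.Flat A B]

omit [IsLocalHom (algebraMap A B)] [Module.Flat A B] in
theorem infinite_of_flat_local [Module.Flat A B] [IsLocalHom (algebraMap A B)] (h : ¬ (minimalPrimes A).Finite) :
    ¬ (minimalPrimes B).Finite := fun hB => by
  haveI : Module.FaithfullyFlat A B := Module.FaithfullyFlat.of_flat_of_isLocalHom
  refine h ((hB.image (Ideal.comap (algebraMap A B))).subset fun p hp => ?_)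
  obtain ⟨q, hq, hqp⟩ := exists_minimalPrimes_over A B hp
  exact ⟨q, hq, hqp⟩

theorem nonempty_equiv_of_purelyInseparable (N : Type u) [CommRing N] [Algebra A N] [Algebra.IsIntegral A N]
    [IsPurelyInseparable (ResidueField A) (ResidueField B)] :
    Nonempty (MaximalSpectrum (N ⊗[A] B) ≃ MaximalSpectrum N) := by
  let T := N ⊗[A] B
  haveI := isIntegral_normTensor A B N
  have hmax : ∀ M : MaximalSpectrum T, (Ideal.comap (algebraMap N T) M.asIdeal).IsMaximal := fun M => by
    haveI := M.isMaximal
    refine Ideal.isMaximal_of_isIntegral_of_isMaximal_comap (R := A) _ ?_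
    have hAS : (maximalIdeal B).comap (algebraMap A B) = maximalIdeal A :=
      ((IsLocalRing.local_hom_TFAE (algebraMap A B)).out 0 4 :).1 ‹_›
    rw [Ideal.comap_comap, ← IsScalarTower.algebraMap_eq, IsScalarTower.algebraMap_eq A B T, ← Ideal.comap_comap,
      comap_maximal A B N M, hAS]
    exact maximalIdeal.isMaximal A
  let f : MaximalSpectrum T → MaximalSpectrum N := fun M => ⟨Ideal.comap (algebraMap N T) M.asIdeal, hmax M⟩
  refine ⟨Equiv.ofBijective f ⟨fun M M' e => MaximalSpectrum.ext ?_, fun n => ?_⟩⟩
  · have e' : Ideal.comap (algebraMap N T) M.asIdeal = Ideal.comap (algebraMap N T) M'.asIdeal :=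
      congrArg MaximalSpectrum.asIdeal e
    haveI := M.isMaximal
    haveI := M'.isMaximal
    letI := Ideal.Quotient.field M.asIdeal
    let Ω := AlgebraicClosure (T ⧸ M.asIdeal)
    let Φ : T →+* Ω := (algebraMap (T ⧸ M.asIdeal) Ω).comp (Ideal.Quotient.mk M.asIdeal)
    have hΦ : RingHom.ker Φ = M.asIdeal := by
      ext t
      rw [RingHom.mem_ker, RingHom.comp_apply, map_eq_zero, Ideal.Quotient.eq_zero_iff_mem]
    let π' : N →+* T ⧸ M'.asIdeal := (Ideal.Quotient.mk M'.asIdeal).comp (algebraMap N T)
    letI := π'.toAlgebra
    haveI : Algebra.IsIntegral N (T ⧸ M'.asIdeal) := ⟨fun z => by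
      obtain ⟨t, rfl⟩ := Ideal.Quotient.mk_surjective z
      induction t using TensorProduct.induction_on with
      | zero => rw [map_zero]; exact isIntegral_zero
      | tmul b s =>
        have h1 : IsIntegral N (Ideal.Quotient.mk M'.asIdeal ((1 : N) ⊗ₜ[A] s)) := by
          have hs : IsIntegral A (residue B s) := by
            haveI : Algebra.IsAlgebraic (ResidueField A) (ResidueField B) := inferInstance
            obtain ⟨p, hp, hps⟩ := Algebra.IsIntegral.isIntegral (R := ResidueField A) (residue B s)
            obtain ⟨p', hp'map, hp'deg, hp'mon⟩ := Polynomial.lifts_and_degree_eq_and_monic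
              (Polynomial.mem_lifts p |>.2 (Polynomial.map_surjective (residue A) residue_surjective p)) hp
            refine ⟨p', hp'mon, ?_⟩
            rw [← hps, ← hp'map, Polynomial.eval₂_map]
            rfl
          let g : ResidueField B →+* T ⧸ M'.asIdeal := Ideal.Quotient.lift (maximalIdeal B)
            ((Ideal.Quotient.mk M'.asIdeal).comp (algebraMap B T)) fun z hz =>
              Ideal.Quotient.eq_zero_iff_mem.2 ((comap_maximal A B N M').ge hz)
          have h2 : IsIntegral N (g (residue B s)) := by
            obtain ⟨p, hp, hps⟩ := hs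
            refine ⟨p.map (algebraMap A N), hp.map _, ?_⟩
            rw [Polynomial.eval₂_map]
            have := congrArg g hps
            rw [Polynomial.hom_eval₂, map_zero] at this
            have hc : (algebraMap N (T ⧸ M'.asIdeal)).comp (algebraMap A N) = g.comp (algebraMap A (ResidueField B)) := by
              refine RingHom.ext fun a => ?_
              show Ideal.Quotient.mk M'.asIdeal (algebraMap N T (algebraMap A N a)) = Ideal.Quotient.mk M'.asIdeal (algebraMap B T (algebraMap A B a))
              rw [← IsScalarTower.algebraMap_apply, ← IsScalarTower.algebraMap_apply]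
            rw [hc]
            exact this
          convert h2 using 1
          show Ideal.Quotient.mk M'.asIdeal ((1 : N) ⊗ₜ[A] s) = Ideal.Quotient.mk M'.asIdeal (algebraMap B T s)
          rw [Algebra.TensorProduct.right_algebraMap_apply]
        have h2 := (isIntegral_algebraMap (R := N) (A := T ⧸ M'.asIdeal) (x := b)).mul h1
        have heq : Ideal.Quotient.mk M'.asIdeal (b ⊗ₜ[A] s) =
            algebraMap N (T ⧸ M'.asIdeal) b * Ideal.Quotient.mk M'.asIdeal ((1 : N) ⊗ₜ[A] s) := by
          show _ = Ideal.Quotient.mk M'.asIdeal (algebraMap N T b) * _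
          rw [← map_mul, Algebra.TensorProduct.algebraMap_apply, Algebra.TensorProduct.tmul_mul_tmul, mul_one, one_mul]
          rfl
        rw [heq]
        exact h2
      | add x y hx hy => rw [map_add]; exact hx.add hy⟩
    obtain ⟨ψ, hψ⟩ := HensFormalLib.exists_lift_algClosed N (T ⧸ M'.asIdeal) Ω (Φ.comp (algebraMap N T)) (fun z hz => by
      rw [RingHom.mem_ker, RingHom.comp_apply, ← RingHom.mem_ker, hΦ, ← Ideal.mem_comap, e', Ideal.mem_comap]
      exact Ideal.Quotient.eq_zero_iff_mem.1 (RingHom.mem_ker.1 hz))
    let Ψ : T →+* Ω := ψ.comp (Ideal.Quotient.mk M'.asIdeal)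
    have hΨ : RingHom.ker Ψ = M'.asIdeal := (M'.isMaximal.eq_of_le (RingHom.ker_ne_top Ψ) fun t ht => by
      rw [RingHom.mem_ker, RingHom.comp_apply, Ideal.Quotient.eq_zero_iff_mem.2 ht, map_zero]).symm
    have hk : ∀ (X : T →+* Ω), RingHom.ker X = M.asIdeal ∨ RingHom.ker X = M'.asIdeal →
        ∀ s ∈ maximalIdeal B, X (algebraMap B T s) = 0 := fun X hX s hs => by
      rcases hX with hX | hX
      · exact RingHom.mem_ker.1 (hX.ge ((comap_maximal A B N M).ge hs))
      · exact RingHom.mem_ker.1 (hX.ge ((comap_maximal A B N M').ge hs))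
    have hB : Φ.comp (algebraMap B T) = Ψ.comp (algebraMap B T) := by
      let a := Ideal.Quotient.lift (maximalIdeal B) (Φ.comp (algebraMap B T)) (hk Φ (Or.inl hΦ))
      let b := Ideal.Quotient.lift (maximalIdeal B) (Ψ.comp (algebraMap B T)) (hk Ψ (Or.inr hΨ))
      have hab : a = b := by
        refine IsPurelyInseparable.injective_comp_algebraMap (ResidueField A) (ResidueField B) _ ?_
        refine RingHom.ext fun z => ?_
        obtain ⟨c, rfl⟩ := residue_surjective z
        show Φ (algebraMap B T (algebraMap A B c)) = Ψ (algebraMap B T (algebraMap A B c))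
        rw [← IsScalarTower.algebraMap_apply, IsScalarTower.algebraMap_apply A N T]
        exact (hψ (algebraMap A N c)).symm
      exact RingHom.ext fun s => RingHom.congr_fun hab (residue B s)
    have hall : Φ = Ψ := RingHom.ext fun t => by
      induction t using TensorProduct.induction_on with
      | zero => simp
      | tmul b s =>
        have h2 : (b ⊗ₜ[A] s : T) = algebraMap N T b * algebraMap B T s := by
          rw [Algebra.TensorProduct.right_algebraMap_apply, Algebra.TensorProduct.algebraMap_apply,
            Algebra.TensorProduct.tmul_mul_tmul, mul_one, one_mul]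
          rfl
        rw [h2, map_mul, map_mul]
        exact congrArg₂ (· * ·) (hψ b).symm (RingHom.congr_fun hB s)
      | add x y hx hy => rw [map_add, map_add, hx, hy]
    rw [← hΦ, ← hΨ, hall]
  · haveI : Module.FaithfullyFlat A B := Module.FaithfullyFlat.of_flat_of_isLocalHom
    haveI := n.isMaximal
    obtain ⟨P, hP⟩ := PrimeSpectrum.comap_surjective_of_faithfullyFlat (A := N) (B := T) ⟨n.asIdeal, n.isMaximal.isPrime⟩
    obtain ⟨M, hM, hPM⟩ := Ideal.exists_le_maximal P.asIdeal P.isPrime.ne_top
    refine ⟨⟨M, hM⟩, MaximalSpectrum.ext (n.isMaximal.eq_of_le (hmax ⟨M, hM⟩).ne_top ?_).symm⟩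
    exact (congrArg PrimeSpectrum.asIdeal hP).ge.trans (Ideal.comap_mono hPM)

variable (hn : (minimalPrimes A).Finite → EGA4.IsNormalRing (CAlg2.normRed A ⊗[A] B))
include hn

/-- Purely inseparable residue extension and normal base change: same branches. -/
theorem card_henselization_eq [IsPurelyInseparable (ResidueField A) (ResidueField B)]
    (Ah Bh : Type u) [CommRing Ah] [IsLocalRing Ah] [Algebra A Ah] [IsLocalHom (algebraMap A Ah)]
    [Hensel.IsHenselization A Ah] [CommRing Bh] [IsLocalRing Bh] [Algebra B Bh] [IsLocalHom (algebraMap B Bh)]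
    [Hensel.IsHenselization B Bh] : ENat.card (minimalPrimes Ah) = ENat.card (minimalPrimes Bh) := by
  haveI : Module.FaithfullyFlat B Bh := Groth.Agent.S0509.result B Bh
  haveI : HenselianLocalRing Bh := Hensel.IsHenselization.henselian (R := B)
  rw [Groth.Agent.S9237.result A Ah]
  by_cases hfin : (minimalPrimes A).Finite
  · have hN := isNormRed_normRed A hfin
    haveI := hN.isIntegral
    have hB := isNormRed_bc A B (CAlg2.normRed A) hN (hn hfin)
    haveI := hB.isIntegral
    obtain ⟨eH⟩ := HenselLib.nonempty_algEquiv_HR (R := B) Bh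
    obtain ⟨e⟩ := nonempty_equiv_maximalSpectrum B Bh (CAlg2.normRed A ⊗[A] B) hB
      (HenselLib.etCov_of_algEquiv eH (HenselLib.etCov_hens _))
    obtain ⟨e₁⟩ := nonempty_equiv_of_residue B Bh (CAlg2.normRed A ⊗[A] B) fun s => by
      obtain ⟨c, hc⟩ := (Groth.Agent.S0508.result B Bh).2 (residue Bh s)
      obtain ⟨b, rfl⟩ := residue_surjective c
      exact ⟨b, (residue_eq_zero_iff _).1 (by rw [map_sub, ← hc]; exact sub_self _)⟩
    obtain ⟨e₂⟩ := nonempty_equiv_of_purelyInseparable A B (CAlg2.normRed A)
    rw [ENat.card_congr ((e.trans e₁).trans e₂)]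
    unfold Brnch.numBranches
    rw [if_pos hfin]
  · haveI := (Set.not_finite.1 (infinite_of_flat_local B Bh (infinite_of_flat_local A B hfin))).to_subtype
    rw [ENat.card_eq_top_of_infinite (α := minimalPrimes Bh)]
    unfold Brnch.numBranches
    rw [if_neg hfin]

/-- Normal base change: same geometric branches. -/
theorem card_strictHenselization_eq
    (Ah Bh : Type u) [CommRing Ah] [IsLocalRing Ah] [Algebra A Ah] [IsLocalHom (algebraMap A Ah)]
    [Hensel.IsStrictHenselization A Ah] [CommRing Bh] [IsLocalRing Bh] [Algebra B Bh] [IsLocalHom (algebraMap B Bh)]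
    [Hensel.IsStrictHenselization B Bh] : ENat.card (minimalPrimes Ah) = ENat.card (minimalPrimes Bh) := by
  haveI : Module.FaithfullyFlat B Bh := Groth.Agent.S0539.result B Bh
  haveI : HenselianLocalRing Bh := Hensel.IsStrictHenselization.henselian (R := B)
  haveI : Module.FaithfullyFlat A Ah := Groth.Agent.S0539.result A Ah
  haveI : HenselianLocalRing Ah := Hensel.IsStrictHenselization.henselian (R := A)
  by_cases hfin : (minimalPrimes A).Finite
  · let N := CAlg2.normRed A
    have hN := isNormRed_normRed A hfin
    haveI := hN.isIntegral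
    have hB := isNormRed_bc A B N hN (hn hfin)
    haveI := hB.isIntegral
    obtain ⟨eA⟩ := HenselLib.nonempty_algEquiv_SH (R := A) Ah
    obtain ⟨eB⟩ := HenselLib.nonempty_algEquiv_SH (R := B) Bh
    obtain ⟨a₁⟩ := nonempty_equiv_maximalSpectrum A Ah N hN (HenselLib.etCov_of_algEquiv eA (HenselLib.etCov_hens _))
    obtain ⟨b₁⟩ := nonempty_equiv_maximalSpectrum B Bh (N ⊗[A] B) hB
      (HenselLib.etCov_of_algEquiv eB (HenselLib.etCov_hens _))
    let Ω := AlgebraicClosure (ResidueField B)
    letI : Algebra B Ω := ((algebraMap (ResidueField B) Ω).comp (residue B)).toAlgebra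
    letI : Algebra (ResidueField A) Ω :=
      ((algebraMap (ResidueField B) Ω).comp (algebraMap (ResidueField A) (ResidueField B))).toAlgebra
    letI : Algebra A Ω := ((algebraMap B Ω).comp (algebraMap A B)).toAlgebra
    haveI : @IsScalarTower A B Ω Algebra.toSMul Algebra.toSMul Algebra.toSMul := .of_algebraMap_eq' rfl
    haveI := (Hensel.IsStrictHenselization.isSepClosure (R := A) (S := Ah)).sep_closed
    haveI := (Hensel.IsStrictHenselization.isSepClosure (R := B) (S := Bh)).sep_closed
    haveI : Algebra.IsSeparable (ResidueField A) (ResidueField Ah) :=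
      (Hensel.IsStrictHenselization.isSepClosure (R := A) (S := Ah)).separable
    haveI : Algebra.IsSeparable (ResidueField B) (ResidueField Bh) :=
      (Hensel.IsStrictHenselization.isSepClosure (R := B) (S := Bh)).separable
    let ιA : ResidueField Ah →ₐ[ResidueField A] Ω := IsAlgClosed.lift
    let ιB : ResidueField Bh →ₐ[ResidueField B] Ω := IsAlgClosed.lift
    obtain ⟨a₂⟩ := nonempty_equiv_hom A Ah N Ω ιA.toRingHom fun a => ιA.commutes (residue A a)
    obtain ⟨b₂⟩ := nonempty_equiv_hom B Bh (N ⊗[A] B) Ω ιB.toRingHom fun a => ιB.commutes (residue B a)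
    let F : ((N ⊗[A] B) →ₐ[B] Ω) ≃ (N →ₐ[A] Ω) :=
      { toFun := fun σ => (σ.restrictScalars A).comp (Algebra.TensorProduct.includeLeft : N →ₐ[A] N ⊗[A] B)
        invFun := fun σ =>
          { Algebra.TensorProduct.lift σ (IsScalarTower.toAlgHom A B Ω) fun _ _ => Commute.all _ _ with
            commutes' := fun s => by
              show Algebra.TensorProduct.lift σ (IsScalarTower.toAlgHom A B Ω) (fun _ _ => Commute.all _ _)
                ((1 : N) ⊗ₜ[A] s) = _
              simp }
        left_inv := fun σ => AlgHom.ext fun t => by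
          induction t using TensorProduct.induction_on with
          | zero => simp
          | tmul b s =>
            show σ (b ⊗ₜ 1) * algebraMap B Ω s = σ (b ⊗ₜ s)
            rw [← σ.commutes, ← map_mul, Algebra.TensorProduct.right_algebraMap_apply,
              Algebra.TensorProduct.tmul_mul_tmul, mul_one, one_mul]
          | add x y hx hy => rw [map_add, map_add, hx, hy]
        right_inv := fun σ => AlgHom.ext fun b => by
          show σ b * algebraMap B Ω 1 = σ b
          rw [map_one, mul_one] }
    rw [ENat.card_congr (a₁.trans a₂), ENat.card_congr ((b₁.trans b₂).trans F)]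
  · haveI := (Set.not_finite.1 (infinite_of_flat_local B Bh (infinite_of_flat_local A B hfin))).to_subtype
    haveI := (Set.not_finite.1 (infinite_of_flat_local A Ah hfin)).to_subtype
    rw [ENat.card_eq_top_of_infinite (α := minimalPrimes Bh), ENat.card_eq_top_of_infinite (α := minimalPrimes Ah)]

end

end HenselBranchLib
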