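import Groth.Agent.HenselBranchLib.DimOneBranch
import Groth.Agent.GeomRedFibLib.NormalBC
import Groth.Agent.GeomRedFibLib.Normal
import Mathlib.RingTheory.LocalProperties.Reduced

/-! Completion preserves branches when the formal fibres are geometrically normal. -/

set_option autoImplicit false
set_option linter.style.haveILetI false
set_option linter.overlappingInstances false
set_option maxHeartbeats 1000000
set_option synthInstance.maxHeartbeats 400000
set_option backward.isDefEq.respectTransparency false
universe u

open IsLocalRing TensorProduct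

namespace HenselBranchLib

noncomputable section

attribute [local instance] Algebra.TensorProduct.rightAlgebra

section Descent

variable (A S B : Type u) [CommRing A] [IsLocalRing A] [CommRing S] [IsLocalRing S] [Algebra A S]
  [IsLocalHom (algebraMap A S)] [Module.Flat A S] [CommRing B] [Algebra A B]

local notation "T" => B ⊗[A] S

omit [IsLocalRing A] [IsLocalRing S] [IsLocalHom (algebraMap A S)] in
/-- A normal base change of a normalization is a normalization. -/
theorem isNormRed_bc (hB : IsNormRed A B) (hn : EGA4.IsNormalRing T) : IsNormRed S T := by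
  haveI := hB.isIntegral
  haveI hred : IsReduced T := isReduced_ofLocalizationMaximal T fun M _ => by
    haveI := (hn M).1
    infer_instance
  let ι : CAlg2.red A →ₐ[A] B := Ideal.Quotient.liftₐ (nilradical A) (Algebra.ofId A B) fun a ha => hB.ker_le.ge ha
  have hι : Function.Injective ι := (injective_iff_map_eq_zero ι).2 fun z hz => by
    obtain ⟨a, rfl⟩ := Ideal.Quotient.mk_surjective z
    exact Ideal.Quotient.eq_zero_iff_mem.2 (hB.ker_le.le hz)
  let e := Algebra.TensorProduct.quotIdealMapEquivTensorQuot S (nilradical A)
  have hker : RingHom.ker (algebraMap S T) = nilradical S := by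
    refine le_antisymm (fun z hz => ?_) fun z hz => ((mem_nilradical.1 hz).map (algebraMap S T)).eq_zero
    have h1 : z ⊗ₜ[A] (1 : CAlg2.red A) = 0 := by
      refine Module.Flat.lTensor_preserves_injective_linearMap (M := S) ι.toLinearMap hι ?_
      rw [map_zero, LinearMap.lTensor_tmul, show ι.toLinearMap 1 = 1 from map_one ι]
      refine (TensorProduct.comm A S B).injective ?_
      rw [map_zero, TensorProduct.comm_tmul]
      exact hz
    have h2 := congrArg e.symm h1
    rw [map_zero] at h2
    have h3 : z ∈ (nilradical A).map (algebraMap A S) := Ideal.Quotient.eq_zero_iff_mem.1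
      ((Algebra.TensorProduct.quotIdealMapEquivTensorQuot_symm_tmul _ _ z 1).symm.trans h2 |> fun e => by simpa using e)
    exact (Ideal.map_le_iff_le_comap.2 fun a ha => mem_nilradical.2 ((mem_nilradical.1 ha).map _) :
      (nilradical A).map (algebraMap A S) ≤ nilradical S) h3
  have hnA : ∀ n : A, Ideal.Quotient.mk (nilradical A) n ∈ nonZeroDivisors (CAlg2.red A) →
      ∀ t : T, algebraMap A T n * t = 0 → t = 0 := fun n hn' t ht => by
    have hinj : Function.Injective (LinearMap.rTensor S (LinearMap.mulLeft A (algebraMap A B n))) :=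
      Module.Flat.rTensor_preserves_injective_linearMap _ fun a b hab =>
        (mul_cancel_left_mem_nonZeroDivisors (hB.nzd n hn')).1 hab
    refine hinj ?_
    rw [map_zero, ← ht]
    clear ht
    induction t using TensorProduct.induction_on with
    | zero => simp
    | tmul b s =>
      rw [LinearMap.rTensor_tmul, LinearMap.mulLeft_apply, Algebra.TensorProduct.algebraMap_apply,
        Algebra.TensorProduct.tmul_mul_tmul, one_mul]
    | add x y hx hy => rw [map_add, hx, hy, mul_add]
  have hfr : ∀ t : T, ∃ n : A, Ideal.Quotient.mk (nilradical A) n ∈ nonZeroDivisors (CAlg2.red A) ∧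
      ∃ s : S, algebraMap A T n * t = algebraMap S T s := by
    intro t
    induction t using TensorProduct.induction_on with
    | zero => exact ⟨1, by rw [map_one]; exact one_mem _, 0, by simp⟩
    | tmul b s =>
      obtain ⟨n, a, hn', hb⟩ := hB.frac b
      refine ⟨n, hn', algebraMap A S a * s, ?_⟩
      rw [Algebra.TensorProduct.algebraMap_apply, Algebra.TensorProduct.tmul_mul_tmul, one_mul, hb,
        Algebra.TensorProduct.right_algebraMap_apply, ← Algebra.smul_def, Algebra.algebraMap_eq_smul_one,
        TensorProduct.smul_tmul]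
    | add x y hx hy =>
      obtain ⟨n, hn', s, hs⟩ := hx
      obtain ⟨n', hn'', s', hs'⟩ := hy
      refine ⟨n * n', by rw [map_mul]; exact mul_mem hn' hn'', algebraMap A S n' * s + algebraMap A S n * s', ?_⟩
      rw [map_mul, map_add, map_mul, map_mul, ← IsScalarTower.algebraMap_apply, ← IsScalarTower.algebraMap_apply,
        ← hs, ← hs']
      ring
  have hnS : ∀ n : A, Ideal.Quotient.mk (nilradical A) n ∈ nonZeroDivisors (CAlg2.red A) →
      Ideal.Quotient.mk (nilradical S) (algebraMap A S n) ∈ nonZeroDivisors (CAlg2.red S) := fun n hn' => by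
    refine mem_nonZeroDivisors_iff_right.2 fun y hy => ?_
    obtain ⟨y, rfl⟩ := Ideal.Quotient.mk_surjective y
    rw [← map_mul, Ideal.Quotient.eq_zero_iff_mem, ← hker, RingHom.mem_ker, map_mul, ← IsScalarTower.algebraMap_apply,
      mul_comm] at hy
    exact Ideal.Quotient.eq_zero_iff_mem.2 (hker.le (RingHom.mem_ker.2 (hnA n hn' _ hy)))
  refine ⟨isIntegral_normTensor A S B, hker, fun z hz => mem_nonZeroDivisors_iff_right.2 fun t ht => ?_,
    fun t => ?_, fun n _ => hn n⟩
  · obtain ⟨n, hn', s, hs⟩ := hfr t
    have h1 : z * s ∈ nilradical S := by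
      rw [← hker, RingHom.mem_ker, map_mul, ← hs, mul_left_comm, mul_comm _ t, ht, mul_zero]
    have h2 : s ∈ nilradical S := by
      refine Ideal.Quotient.eq_zero_iff_mem.1 ((mem_nonZeroDivisors_iff_left.1 hz) _ ?_)
      rw [← map_mul, Ideal.Quotient.eq_zero_iff_mem]
      exact h1
    rw [← hker, RingHom.mem_ker, ← hs] at h2
    exact hnA n hn' t h2
  · obtain ⟨n, hn', s, hs⟩ := hfr t
    exact ⟨algebraMap A S n, s, hnS n hn', by rw [← IsScalarTower.algebraMap_apply, hs]⟩

end Descent

theorem numBranches_completion_eq_of_geomNormal (A : Type u) [CommRing A] [IsLocalRing A] [IsNoetherianRing A]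
    (hA : EGA4.HasGeomNormalFormalFibres A) :
    Brnch.numBranches (AdicCompletion (maximalIdeal A) A) = Brnch.numBranches A ∧
      Brnch.numGeomBranches (AdicCompletion (maximalIdeal A) A) = Brnch.numGeomBranches A := by
  let S := AdicCompletion (maximalIdeal A) A
  obtain ⟨hS, -, -, -, hdense⟩ := NormalLib.completion_props A
  haveI : IsNoetherianRing S := hS
  haveI : Module.Flat A S := AdicCompletion.flat_of_isNoetherian _
  haveI := henselianLocalRing_completion A
  have hfin : (minimalPrimes A).Finite := minimalPrimes.finite_of_isNoetherianRing A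
  let N := CAlg2.normRed A
  have hN := isNormRed_normRed A hfin
  haveI := hN.isIntegral
  have hnT : EGA4.IsNormalRing (N ⊗[A] S) :=
    GeomRedFibLib.isNormalRing_of_ringEquiv (S ⊗[A] N) (N ⊗[A] S) (Algebra.TensorProduct.comm A S N).toRingEquiv
      (GeomRedFibLib.isNormalRing_bc A S ⟨inferInstance, hA⟩ N fun n _ => hN.normal n)
  have hB := isNormRed_bc A S N hN hnT
  haveI := hB.isIntegral
  have hres : ∀ s : S, ∃ a : A, s - algebraMap A S a ∈ maximalIdeal S := fun s => by
    obtain ⟨a, ha⟩ := hdense s
    exact ⟨a, ((IsLocalRing.local_hom_TFAE (algebraMap A S)).out 0 2 :).1 inferInstance ha⟩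
  haveI : IsLocalHom (algebraMap S S) := ⟨fun _ h => h⟩
  constructor
  · rw [← numBranches_eq_card S]
    obtain ⟨e⟩ := nonempty_equiv_maximalSpectrum S S (N ⊗[A] S) hB
      fun x => ⟨S, inferInstance, inferInstance, inferInstance, AlgHom.id S S, x, rfl⟩
    obtain ⟨e₁⟩ := nonempty_equiv_of_residue S S (N ⊗[A] S) fun s => ⟨s, by simp⟩
    obtain ⟨e₂⟩ := nonempty_equiv_of_residue A S N hres
    rw [ENat.card_congr ((e.trans e₁).trans e₂)]
    unfold Brnch.numBranches
    rw [if_pos hfin]
  · let T := HenselLib.SH S
    haveI : HenselianLocalRing T := Hensel.IsStrictHenselization.henselian (R := S)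
    haveI := (Hensel.IsStrictHenselization.isSepClosure (R := S) (S := T)).sep_closed
    haveI : Algebra.IsSeparable (ResidueField S) (ResidueField T) :=
      (Hensel.IsStrictHenselization.isSepClosure (R := S) (S := T)).separable
    haveI : Module.FaithfullyFlat S T := Groth.Agent.S0539.result S T
    obtain ⟨eSH⟩ := HenselLib.nonempty_algEquiv_SH (R := S) T
    rw [← Groth.Agent.S9238.result S T]
    obtain ⟨e⟩ := nonempty_equiv_maximalSpectrum S T (N ⊗[A] S) hB
      (HenselLib.etCov_of_algEquiv eSH (HenselLib.etCov_hens _))
    letI : Algebra A (AlgebraicClosure (ResidueField A)) := (Brnch.toClosure A).toAlgebra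
    let Ω := AlgebraicClosure (ResidueField A)
    let ρ : ResidueField A ≃+* ResidueField S := RingEquiv.ofBijective _
      (AdicCompletion.residueField_map_bijective_of_fg (R := A) (IsNoetherian.noetherian _))
    letI : Algebra (ResidueField S) Ω := ((algebraMap (ResidueField A) Ω).comp ρ.symm.toRingHom).toAlgebra
    letI : Algebra S Ω := ((algebraMap (ResidueField S) Ω).comp (residue S)).toAlgebra
    haveI : @IsScalarTower A S Ω Algebra.toSMul Algebra.toSMul Algebra.toSMul :=
      IsScalarTower.of_algebraMap_eq (R := A) (S := S) (A := Ω) fun a => by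
      show algebraMap (ResidueField A) Ω (residue A a) = algebraMap (ResidueField A) Ω (ρ.symm (residue S (algebraMap A S a)))
      rw [show residue S (algebraMap A S a) = ρ (residue A a) from rfl, RingEquiv.symm_apply_apply]
    let ι : ResidueField T →ₐ[ResidueField S] Ω := IsAlgClosed.lift
    obtain ⟨e'⟩ := nonempty_equiv_hom S T (N ⊗[A] S) Ω ι.toRingHom fun s => ι.commutes (residue S s)
    let F : ((N ⊗[A] S) →ₐ[S] Ω) ≃ (N →ₐ[A] Ω) :=
      { toFun := fun σ => (σ.restrictScalars A).comp (Algebra.TensorProduct.includeLeft : N →ₐ[A] N ⊗[A] S)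
        invFun := fun σ =>
          { Algebra.TensorProduct.lift σ (IsScalarTower.toAlgHom A S Ω) fun _ _ => Commute.all _ _ with
            commutes' := fun s => by
              show Algebra.TensorProduct.lift σ (IsScalarTower.toAlgHom A S Ω) (fun _ _ => Commute.all _ _)
                ((1 : N) ⊗ₜ[A] s) = _
              simp }
        left_inv := fun σ => AlgHom.ext fun t => by
          induction t using TensorProduct.induction_on with
          | zero => simp
          | tmul b s =>
            show σ (b ⊗ₜ 1) * algebraMap S Ω s = σ (b ⊗ₜ s)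
            rw [← σ.commutes, ← map_mul, Algebra.TensorProduct.right_algebraMap_apply,
              Algebra.TensorProduct.tmul_mul_tmul, mul_one, one_mul]
          | add x y hx hy => rw [map_add, map_add, hx, hy]
        right_inv := fun σ => AlgHom.ext fun b => by
          show σ b * algebraMap S Ω 1 = σ b
          rw [map_one, mul_one] }
    rw [ENat.card_congr ((e.trans e').trans F)]
    exact card_hom_eq_numGeomBranches A hfin

end

end HenselBranchLib
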