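import Groth.Agent.HenselBranchLib.Completion
import Groth.Agent.HenselLib.Criteria
import Mathlib.RingTheory.Flat.EquationalCriterion
import Mathlib.RingTheory.Spectrum.Prime.Topology

/-! Clopen subsets of the punctured spectrum descend from the completion of a henselian local ring. -/

set_option autoImplicit false
set_option linter.style.haveILetI false
set_option linter.overlappingInstances false
set_option maxHeartbeats 1000000
set_option backward.isDefEq.respectTransparency false
universe u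

open IsLocalRing Polynomial

namespace HenselBranchLib

noncomputable section

/-- Colon ideals commute with flat extensions, elementwise. -/
theorem mem_span_colon_of_flat (S T : Type u) [CommRing S] [CommRing T] [Algebra S T] [Module.Flat S T]
    {ι : Type u} [Finite ι] (g : ι → S) (F : S) (t : T) (τ : ι → T)
    (h : ∀ j, algebraMap S T (g j) * t = algebraMap S T F * τ j) :
    ∃ (k : ℕ) (s : Fin k → S) (y : Fin k → T), t = ∑ l, algebraMap S T (s l) * y l ∧ ∀ l j, ∃ σ, g j * s l = F * σ := by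
  classical
  haveI := Fintype.ofFinite ι
  let x : (Option ι → S) →ₗ[S] T := Fintype.linearCombination S (fun o => o.elim t τ)
  let f : (ι → S) →ₗ[S] (Option ι → S) := Fintype.linearCombination S
    (fun j => g j • Pi.single (none : Option ι) (1 : S) - F • Pi.single (some j) (1 : S))
  have hxs : ∀ o, x (Pi.single o (1 : S)) = o.elim t τ := fun o => by
    simp [x]
  have hxf : x ∘ₗ f = 0 := by
    refine (Pi.basisFun S ι).ext fun j => ?_
    simp only [LinearMap.comp_apply, Pi.basisFun_apply, f, Fintype.linearCombination_apply_single, one_smul,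
      map_sub, map_smul, hxs, Option.elim, LinearMap.zero_apply]
    rw [Algebra.smul_def, Algebra.smul_def, h, sub_self]
  obtain ⟨k, a, y, hxya, haf⟩ := Module.Flat.exists_factorization_of_comp_eq_zero_of_free hxf
  refine ⟨k, fun l => a (Pi.single none 1) l, fun l => y (Finsupp.single l 1), ?_, fun l j => ⟨a (Pi.single (some j) 1) l, ?_⟩⟩
  · have h1 : t = y (a (Pi.single none 1)) := by
      rw [← LinearMap.comp_apply, ← hxya, hxs]; rfl
    rw [h1]
    conv_lhs => rw [← Finsupp.univ_sum_single (a (Pi.single none 1))]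
    rw [map_sum]
    refine Finset.sum_congr rfl fun l _ => ?_
    rw [← Finsupp.smul_single_one, map_smul, Algebra.smul_def]
  · have h2 := congrArg (fun v => v l) (LinearMap.congr_fun haf (Pi.single j 1))
    simp only [LinearMap.comp_apply, f, Fintype.linearCombination_apply_single, one_smul, map_sub, map_smul,
      Finsupp.sub_apply, Finsupp.smul_apply, LinearMap.zero_apply, Finsupp.zero_apply, smul_eq_mul, sub_eq_zero] at h2
    exact h2


theorem exists_mul_pow_eq_zero (T : Type u) [CommRing T] (Q : Ideal T) [Q.IsPrime] (z : T)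
    (h : ∀ R : Ideal T, R.IsPrime → R ≤ Q → z ∈ R) : ∃ x ∉ Q, ∃ N : ℕ, x * z ^ N = 0 := by
  let L := Localization.AtPrime Q
  have h1 : algebraMap T L z ∈ nilradical L := by
    rw [nilradical_eq_sInf, Ideal.mem_sInf]
    intro R hR
    haveI : R.IsPrime := hR
    exact Ideal.mem_comap.1 (h (R.comap (algebraMap T L)) (Ideal.IsPrime.comap _)
      ((Ideal.comap_mono (IsLocalRing.le_maximalIdeal hR.ne_top)).trans (IsLocalization.AtPrime.comap_maximalIdeal L Q).le))
  obtain ⟨N, hN⟩ := mem_nilradical.1 h1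
  rw [← map_pow] at hN
  obtain ⟨⟨x, hx⟩, hxz⟩ := (IsLocalization.map_eq_zero_iff Q.primeCompl L _).1 hN
  exact ⟨x, hx, N, hxz⟩

theorem pow_succ_of_sq_eq {T : Type u} [CommRing T] (t F : T) (ht : t * t = t * F) (N : ℕ) :
    t ^ (N + 1) = t * F ^ N := by
  induction N with
  | zero => simp
  | succ N ih => rw [pow_succ, ih, mul_assoc, mul_comm (F ^ N) t, ← mul_assoc, ht, pow_succ]; ring

variable (S T : Type u) [CommRing S] [HenselianLocalRing S] [IsNoetherianRing S] [CommRing T] [IsLocalRing T]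
  [Algebra S T] [Module.FaithfullyFlat S T]

theorem saturated_of_split (hmT : (maximalIdeal S).map (algebraMap S T) = maximalIdeal T)
    (hap : ∀ (x : T) (k : ℕ), ∃ a : S, x - algebraMap S T a ∈ (maximalIdeal S ^ k).map (algebraMap S T))
    (f : S) (n k : ℕ) (t : T) (ht : t * t = t * algebraMap S T f ^ n)
    (hcol : ∀ g ∈ maximalIdeal S ^ k, ∃ τ : T, algebraMap S T g * t = algebraMap S T f ^ n * τ)
    (P P' : Ideal T) [P.IsPrime] [P'.IsPrime] (hPP : P.comap (algebraMap S T) = P'.comap (algebraMap S T))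
    (hfP : algebraMap S T f ∉ P) : t ∈ P ↔ t ∈ P' := by
  classical
  have hfP' : algebraMap S T f ∉ P' := fun h => hfP (Ideal.mem_comap.1 (hPP.ge h))
  obtain ⟨G, hG⟩ := (IsNoetherian.noetherian (maximalIdeal S ^ k) : (maximalIdeal S ^ k).FG)
  have hτ : ∀ g : G, ∃ τ : T, algebraMap S T g * t = algebraMap S T (f ^ n) * τ := fun g => by
    rw [map_pow]; exact hcol g (hG ▸ Submodule.subset_span g.2)
  choose τ hτ using hτ
  let F := f ^ n
  obtain ⟨l, s, y, hts, hs⟩ := mem_span_colon_of_flat S T (fun g : G => (g : S)) F t τ hτ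
  choose c hc using fun j => hap (y j) k
  let a := ∑ j, s j * c j
  obtain ⟨w, hw⟩ : ∃ w : T, t = algebraMap S T a + algebraMap S T F * w := by
    suffices h : t - algebraMap S T a ∈ Ideal.span {algebraMap S T F} by
      obtain ⟨w, hw⟩ := Ideal.mem_span_singleton.1 h
      exact ⟨w, by rw [← hw]; ring⟩
    rw [hts, map_sum, ← Finset.sum_sub_distrib]
    refine Ideal.sum_mem _ fun j _ => ?_
    rw [map_mul, ← mul_sub]
    have hle : (maximalIdeal S ^ k).map (algebraMap S T) ≤
        Submodule.comap (LinearMap.mulLeft T (algebraMap S T (s j))) (Ideal.span {algebraMap S T F}) := by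
      rw [← hG, Ideal.map_span, Ideal.span_le]
      rintro _ ⟨g, hg, rfl⟩
      obtain ⟨σ, hσ⟩ := hs j ⟨g, hg⟩
      show algebraMap S T (s j) * algebraMap S T g ∈ Ideal.span {algebraMap S T F}
      rw [mul_comm, ← map_mul, hσ, map_mul]
      exact Ideal.mul_mem_right _ _ (Ideal.mem_span_singleton_self _)
    exact hle (hc j)
  have hF : algebraMap S T F = algebraMap S T f ^ n := map_pow _ _ _
  rw [← hF] at ht
  have hmem : a * a ∈ Ideal.span ({a * F, F * F} : Set S) := by
    rw [← Ideal.comap_map_eq_self_of_faithfullyFlat (B := T) (Ideal.span ({a * F, F * F} : Set S)), Ideal.mem_comap,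
      Ideal.map_span, Set.image_pair, Ideal.mem_span_pair]
    refine ⟨1 - 2 * w, w - w * w, ?_⟩
    rw [hw] at ht
    simp only [map_mul]
    linear_combination -ht
  obtain ⟨r₁, r₀, hr⟩ := Ideal.mem_span_pair.1 hmem
  let k₀ := T ⧸ maximalIdeal T
  letI : Field k₀ := Ideal.Quotient.field (maximalIdeal T)
  have hk : ∀ z : k₀, ∃ c : S, algebraMap S k₀ c = z := fun z => by
    obtain ⟨x, rfl⟩ := Ideal.Quotient.mk_surjective z
    obtain ⟨c, hc⟩ := hap x 1
    rw [pow_one, hmT] at hc
    exact ⟨c, (Ideal.Quotient.eq.2 hc).symm⟩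
  have hval : ∀ g : S[X], ∃ (z : S) (N : ℕ), ∀ (R : Ideal T) (e : T),
      algebraMap S T F * e - algebraMap S T a ∈ R → algebraMap S T F ^ N * aeval e g - algebraMap S T z ∈ R := by
    intro g
    induction g using Polynomial.induction_on with
    | C c => exact ⟨c, 0, fun R e _ => by simp⟩
    | add p q hp hq =>
      obtain ⟨z, N, h⟩ := hp
      obtain ⟨z', N', h'⟩ := hq
      refine ⟨F ^ N' * z + F ^ N * z', N + N', fun R e he => ?_⟩
      have := R.add_mem (R.mul_mem_left (algebraMap S T F ^ N') (h R e he)) (R.mul_mem_left (algebraMap S T F ^ N) (h' R e he))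
      convert this using 1
      simp only [map_add, map_mul, map_pow]
      ring
    | monomial m c ih =>
      obtain ⟨z, N, h⟩ := ih
      refine ⟨z * a, N + 1, fun R e he => ?_⟩
      have := R.add_mem (R.mul_mem_left (algebraMap S T F * e) (h R e he)) (R.mul_mem_left (algebraMap S T z) he)
      convert this using 1
      simp only [map_mul, map_pow, aeval_X, pow_succ]
      ring
  have key : ∀ (R : Ideal T), R.IsPrime → algebraMap S T f ∉ R →
      R.comap (algebraMap S T) = P.comap (algebraMap S T) → ∀ e : T, algebraMap S T F * e - algebraMap S T a ∈ R →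
        ∀ g : S[X], (aeval e g ∈ R ↔ (hval g).choose ∈ P.comap (algebraMap S T)) := by
    intro R hR hfR hcR e he g
    obtain ⟨N, hN⟩ := (hval g).choose_spec
    rw [← hcR, Ideal.mem_comap]
    have h1 := hN R e he
    constructor
    · intro h
      simpa using R.sub_mem (R.mul_mem_left (algebraMap S T F ^ N) h) h1
    · intro h
      have h2 := R.add_mem h1 h
      rw [sub_add_cancel] at h2
      exact (hR.mem_or_mem h2).resolve_left fun h3 => hfR (hR.mem_of_pow_mem n (hF ▸ hR.mem_of_pow_mem N h3))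
  have hval' : ∀ (R : Ideal T), R.IsPrime → algebraMap S T f ∉ R → ∀ ε : T, t - algebraMap S T F * ε ∈ R →
      algebraMap S T F * (ε - w) - algebraMap S T a ∈ R := fun R _ _ ε hε => by
    convert R.neg_mem hε using 1
    rw [hw]; ring
  have heps : ∀ (R : Ideal T), R.IsPrime → t ∉ R → t - algebraMap S T F * 1 ∈ R := fun R hR htR => by
    refine (hR.mem_or_mem (?_ : t * (t - algebraMap S T F * 1) ∈ R)).resolve_left htR
    rw [mul_one, mul_sub, ht, sub_self]; exact R.zero_mem
  suffices main : ∀ (R R' : Ideal T), R.IsPrime → R'.IsPrime → algebraMap S T f ∉ R → algebraMap S T f ∉ R' →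
      R.comap (algebraMap S T) = P.comap (algebraMap S T) → R'.comap (algebraMap S T) = P.comap (algebraMap S T) →
      t ∈ R → t ∈ R' from
    ⟨main P P' ‹_› ‹_› hfP hfP' rfl hPP.symm, main P' P ‹_› ‹_› hfP' hfP hPP.symm rfl⟩
  intro R R' hR hR' hfR hfR' hcR hcR' htR
  by_contra htR'
  haveI := hR
  haveI := hR'
  have he : algebraMap S T F * (0 - w) - algebraMap S T a ∈ R := hval' R hR hfR 0 (by simpa using htR)
  have he' : algebraMap S T F * (1 - w) - algebraMap S T a ∈ R' := hval' R' hR' hfR' 1 (heps R' hR' htR')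
  let φ : S[X] →ₐ[S] T ⧸ R := aeval (Ideal.Quotient.mk R (0 - w))
  have hφ : ∀ g, φ g = Ideal.Quotient.mk R (aeval (0 - w) g) := fun g => aeval_algHom_apply (Ideal.Quotient.mkₐ S R) _ g
  let q := RingHom.ker φ
  haveI : q.IsPrime := RingHom.ker_isPrime φ
  have hqR : ∀ g, g ∈ q ↔ aeval (0 - w) g ∈ R := fun g => by
    rw [RingHom.mem_ker, hφ, Ideal.Quotient.eq_zero_iff_mem]
  haveI : Algebra.IsIntegral S (S[X] ⧸ q) := by
    have hmon : (X ^ 2 - (C r₁ * X + C r₀) : S[X]).Monic :=
      monic_X_pow_sub (lt_of_le_of_lt degree_linear_le (by norm_num))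
    have hX : IsIntegral S (Ideal.Quotient.mkₐ S q (X : S[X])) := by
      refine ⟨_, hmon, ?_⟩
      rw [← aeval_def, aeval_algHom_apply, Ideal.Quotient.mkₐ_eq_mk, Ideal.Quotient.eq_zero_iff_mem, hqR]
      simp only [aeval_X_left, AlgHom.id_apply, map_sub, map_pow, map_add, map_mul, aeval_X, aeval_C]
      refine (hR.mem_or_mem (?_ : algebraMap S T F ^ 2 * _ ∈ R)).resolve_left fun h =>
        hfR (hR.mem_of_pow_mem n (hF ▸ hR.mem_of_pow_mem 2 h))
      have h2 : algebraMap S T a * algebraMap S T a =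
          algebraMap S T r₁ * (algebraMap S T a * algebraMap S T F) + algebraMap S T r₀ * (algebraMap S T F * algebraMap S T F) := by
        rw [← map_mul, ← hr]; simp only [map_add, map_mul]
      convert R.mul_mem_right (algebraMap S T F * (0 - w) + algebraMap S T a - algebraMap S T r₁ * algebraMap S T F) he using 1
      linear_combination h2
    refine ⟨fun z => ?_⟩
    obtain ⟨g, rfl⟩ := Ideal.Quotient.mk_surjective z
    rw [← Ideal.Quotient.mkₐ_eq_mk S, show g = aeval X g from (aeval_X_left_apply g).symm, ← aeval_algHom_apply]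
    have hle : Algebra.adjoin S {Ideal.Quotient.mkₐ S q (X : S[X])} ≤ integralClosure S (S[X] ⧸ q) :=
      Algebra.adjoin_le (Set.singleton_subset_iff.2 hX)
    exact hle ((Algebra.adjoin_singleton_eq_range_aeval S _).ge ⟨g, rfl⟩)
  haveI := HensFormalLib.isLocalRing_of_integral_domain S (S[X] ⧸ q)
  have hker : ∀ (R₁ : Ideal T), R₁.IsPrime → algebraMap S T f ∉ R₁ → R₁.comap (algebraMap S T) = P.comap (algebraMap S T) →
      ∀ e, algebraMap S T F * e - algebraMap S T a ∈ R₁ →
      RingHom.ker (aeval (Ideal.Quotient.mk (maximalIdeal T) e) : S[X] →ₐ[S] k₀) =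
        (maximalIdeal (S[X] ⧸ q)).comap (Ideal.Quotient.mk q) := by
    intro R₁ hR₁ hfR₁ hcR₁ e he₁
    let ev : S[X] →ₐ[S] k₀ := aeval (Ideal.Quotient.mk (maximalIdeal T) e)
    have hle : q ≤ RingHom.ker ev := fun g hg => by
      have h2 : aeval e g ∈ R₁ := (key R₁ hR₁ hfR₁ hcR₁ e he₁ g).2 ((key R hR hfR hcR _ he g).1 ((hqR g).1 hg))
      show aeval (Ideal.Quotient.mkₐ S (maximalIdeal T) e) g = 0
      rw [aeval_algHom_apply, Ideal.Quotient.mkₐ_eq_mk, Ideal.Quotient.eq_zero_iff_mem]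
      exact IsLocalRing.le_maximalIdeal hR₁.ne_top h2
    haveI : (RingHom.ker ev).IsMaximal := RingHom.ker_isMaximal_of_surjective ev.toRingHom fun z => by
      obtain ⟨c, rfl⟩ := hk z
      exact ⟨C c, aeval_C _ _⟩
    rcases Ideal.map_eq_top_or_isMaximal_of_surjective (Ideal.Quotient.mk q) Ideal.Quotient.mk_surjective
        ‹(RingHom.ker ev).IsMaximal› with h | h
    · exfalso
      have h1 := congrArg (Ideal.comap (Ideal.Quotient.mk q)) h
      rw [Ideal.comap_map_of_surjective _ Ideal.Quotient.mk_surjective, Ideal.comap_top, ← RingHom.ker_eq_comap_bot,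
        Ideal.mk_ker, sup_eq_left.2 hle] at h1
      exact Ideal.IsMaximal.ne_top ‹_› h1
    · have h1 := congrArg (Ideal.comap (Ideal.Quotient.mk q)) (IsLocalRing.eq_maximalIdeal h)
      rwa [Ideal.comap_map_of_surjective _ Ideal.Quotient.mk_surjective, ← RingHom.ker_eq_comap_bot, Ideal.mk_ker,
        sup_eq_left.2 hle] at h1
  obtain ⟨c, hcc⟩ := hk (Ideal.Quotient.mk (maximalIdeal T) (0 - w))
  have h1 : (X - C c : S[X]) ∈ RingHom.ker (aeval (Ideal.Quotient.mk (maximalIdeal T) (0 - w)) : S[X] →ₐ[S] k₀) := by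
    rw [RingHom.mem_ker, map_sub, aeval_X, aeval_C, hcc, sub_self]
  rw [hker R hR hfR hcR _ he, ← hker R' hR' hfR' hcR' _ he', RingHom.mem_ker, map_sub, aeval_X, aeval_C, hcc, ← map_sub,
    Ideal.Quotient.eq_zero_iff_mem, show (1 - w) - (0 - w) = (1 : T) by ring] at h1
  exact (maximalIdeal.isMaximal T).ne_top ((Ideal.eq_top_iff_one _).2 h1)

/-- The two halves of a clopen decomposition of the punctured spectrum are unions of fibres. -/
theorem saturated_of_clopen [IsNoetherianRing T] (hmT : (maximalIdeal S).map (algebraMap S T) = maximalIdeal T)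
    (hap : ∀ (x : T) (k : ℕ), ∃ a : S, x - algebraMap S T a ∈ (maximalIdeal S ^ k).map (algebraMap S T))
    (V : Set (PrimeSpectrum T)) (hV : IsOpen V)
    (hV' : IsOpen ({closedPoint T}ᶜ \ V)) (P P' : PrimeSpectrum T) (hP : P ≠ closedPoint T) (hP' : P' ≠ closedPoint T)
    (hPP : PrimeSpectrum.comap (algebraMap S T) P = PrimeSpectrum.comap (algebraMap S T) P') : P ∈ V ↔ P' ∈ V := by
  classical
  obtain ⟨f, hfm, hfP⟩ : ∃ f ∈ maximalIdeal S, algebraMap S T f ∉ P.asIdeal := by
    by_contra hc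
    push Not at hc
    refine hP (PrimeSpectrum.ext (le_antisymm (IsLocalRing.le_maximalIdeal P.isPrime.ne_top) ?_))
    show maximalIdeal T ≤ _
    rw [← hmT]
    exact Ideal.map_le_iff_le_comap.2 hc
  have hfP' : algebraMap S T f ∉ P'.asIdeal := fun h => hfP ((congrArg PrimeSpectrum.asIdeal hPP).ge h)
  let F := algebraMap S T f
  have hFm : F ∈ maximalIdeal T := hmT ▸ Ideal.mem_map_of_mem _ hfm
  let L := Localization.Away F
  let π := PrimeSpectrum.comap (algebraMap T L)
  have hπU : ∀ z, π z ≠ closedPoint T := fun z h => by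
    have h1 : F ∈ (π z).asIdeal := h ▸ hFm
    exact z.isPrime.ne_top (Ideal.eq_top_of_isUnit_mem _ h1 (IsLocalization.Away.algebraMap_isUnit F))
  have hclopen : IsClopen (π ⁻¹' V) := by
    refine ⟨⟨?_⟩, hV.preimage (PrimeSpectrum.continuous_comap _)⟩
    have : (π ⁻¹' V)ᶜ = π ⁻¹' ({closedPoint T}ᶜ \ V) := Set.ext fun z => ⟨fun h => ⟨hπU z, h⟩, fun h => h.2⟩
    rw [this]
    exact hV'.preimage (PrimeSpectrum.continuous_comap _)
  obtain ⟨e, he, heV⟩ := PrimeSpectrum.isClopen_iff.1 hclopen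
  obtain ⟨t, n, htn⟩ : ∃ (t : T) (n : ℕ), e * algebraMap T L (F ^ n) = algebraMap T L t := by
    obtain ⟨⟨t, ⟨_, n, rfl⟩⟩, h⟩ := IsLocalization.surj (Submonoid.powers F) e
    exact ⟨t, n, h⟩
  have hsq : algebraMap T L (t * t) = algebraMap T L (t * F ^ n) := by
    rw [map_mul, map_mul, ← htn]
    linear_combination (algebraMap T L (F ^ n)) * (algebraMap T L (F ^ n)) * he.eq
  obtain ⟨⟨_, l, rfl⟩, hl⟩ := (IsLocalization.eq_iff_exists (Submonoid.powers F) L).1 hsq
  have hQ : ∀ Q : PrimeSpectrum T, F ∉ Q.asIdeal → (Q ∈ V ↔ t * F ^ l ∉ Q.asIdeal) := by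
    intro Q hQ
    have hpow : ∀ j : ℕ, F ^ j ∉ Q.asIdeal := fun j h => hQ (Q.isPrime.mem_of_pow_mem j h)
    obtain ⟨z, hz⟩ : ∃ z, π z = Q := by
      have : Q ∈ Set.range π := by
        rw [PrimeSpectrum.localization_away_comap_range L F]; exact hQ
      exact this
    rw [← hz]
    show z ∈ π ⁻¹' V ↔ _
    rw [heV]
    show e ∉ z.asIdeal ↔ algebraMap T L (t * F ^ l) ∉ z.asIdeal
    have hu : ∀ j : ℕ, algebraMap T L (F ^ j) ∉ z.asIdeal := fun j h => by
      rw [map_pow] at h
      exact z.isPrime.ne_top (Ideal.eq_top_of_isUnit_mem _ h ((IsLocalization.Away.algebraMap_isUnit F).pow j))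
    rw [map_mul, ← htn]
    constructor
    · intro h h'
      rcases z.isPrime.mem_or_mem h' with h'' | h''
      · exact (z.isPrime.mem_or_mem h'').elim h (hu n)
      · exact hu l h''
    · exact fun h h' => h (Ideal.mul_mem_right _ _ (Ideal.mul_mem_right _ _ h'))
  let t₀ := t * F ^ l
  have ht₀ : t₀ * t₀ = t₀ * F ^ (n + l) := by
    rw [pow_add]; linear_combination (F ^ l) * hl
  let I : Ideal T :=
    { carrier := {x | ∃ j : ℕ, F ^ (n + l + j) ∣ x * t₀ * F ^ j}
      zero_mem' := ⟨0, by simp⟩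
      add_mem' := fun {x y} ⟨j, hj⟩ ⟨j', hj'⟩ => ⟨j + j', by
        rw [add_mul, add_mul]
        refine dvd_add ?_ ?_
        · have := mul_dvd_mul_right hj (F ^ j')
          rwa [← pow_add, mul_assoc _ (F ^ j), ← pow_add, add_assoc (n + l)] at this
        · have := mul_dvd_mul_right hj' (F ^ j)
          rwa [← pow_add, mul_assoc _ (F ^ j'), ← pow_add, add_assoc (n + l), add_comm j' j] at this⟩
      smul_mem' := fun c x ⟨j, hj⟩ => ⟨j, by rw [smul_eq_mul, mul_assoc c, mul_assoc c]; exact dvd_mul_of_dvd_right hj c⟩ }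
  have hrad : maximalIdeal T ≤ I.radical := by
    rw [Ideal.radical_eq_sInf]
    refine le_sInf fun Q ⟨hIQ, hQp⟩ => ?_
    by_contra hne
    have hQc : (⟨Q, hQp⟩ : PrimeSpectrum T) ≠ closedPoint T := fun h => hne (congrArg PrimeSpectrum.asIdeal h).ge
    haveI := hQp
    by_cases hQV : (⟨Q, hQp⟩ : PrimeSpectrum T) ∈ V
    · obtain ⟨x, hx, N, hxN⟩ := exists_mul_pow_eq_zero T Q ((F ^ (n + l) - t₀) * F) fun R hR hle => by
        by_cases hFR : F ∈ R
        · exact R.mul_mem_left _ hFR
        have hRV : (⟨R, hR⟩ : PrimeSpectrum T) ∈ V :=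
          Specializes.mem_open ((PrimeSpectrum.le_iff_specializes ⟨R, hR⟩ ⟨Q, hQp⟩).1 hle) hV hQV
        refine R.mul_mem_right _ ((hR.mem_or_mem (?_ : t₀ * (F ^ (n + l) - t₀) ∈ R)).resolve_left ((hQ ⟨R, hR⟩ hFR).1 hRV))
        rw [mul_sub, ht₀, sub_self]; exact R.zero_mem
      refine hx (hIQ ⟨(n + l) * N + (N + 1), ?_⟩)
      have hd := pow_succ_of_sq_eq (F ^ (n + l) - t₀) (F ^ (n + l)) (by linear_combination ht₀) N
      have h0 : x * ((F ^ (n + l) - t₀) * F) ^ (N + 1) = 0 := by rw [pow_succ, ← mul_assoc, hxN, zero_mul]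
      rw [mul_pow, hd, ← pow_mul] at h0
      refine ⟨x, ?_⟩
      rw [pow_add F (n + l) ((n + l) * N + (N + 1)), pow_add F ((n + l) * N)]
      linear_combination -h0
    · obtain ⟨x, hx, N, hxN⟩ := exists_mul_pow_eq_zero T Q (t₀ * F) fun R hR hle => by
        by_cases hFR : F ∈ R
        · exact R.mul_mem_left _ hFR
        refine R.mul_mem_right _ (of_not_not fun h => ?_)
        have hRc : (⟨R, hR⟩ : PrimeSpectrum T) ≠ closedPoint T := fun h' => hFR ((congrArg PrimeSpectrum.asIdeal h').ge hFm)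
        exact (Specializes.mem_open ((PrimeSpectrum.le_iff_specializes ⟨R, hR⟩ ⟨Q, hQp⟩).1 hle) hV' ⟨hQc, hQV⟩).2
          ((hQ ⟨R, hR⟩ hFR).2 h)
      refine hx (hIQ ⟨(n + l) * N + (N + 1), ?_⟩)
      have hd := pow_succ_of_sq_eq t₀ (F ^ (n + l)) ht₀ N
      have h0 : x * (t₀ * F) ^ (N + 1) = 0 := by rw [pow_succ, ← mul_assoc, hxN, zero_mul]
      rw [mul_pow, hd, ← pow_mul] at h0
      rw [pow_add F ((n + l) * N)]
      refine ⟨0, ?_⟩
      rw [mul_zero]
      linear_combination h0
  obtain ⟨k, hk⟩ := Ideal.exists_pow_le_of_le_radical_of_fg hrad (IsNoetherian.noetherian _)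
  obtain ⟨G, hG⟩ := (IsNoetherian.noetherian (maximalIdeal S ^ k) : (maximalIdeal S ^ k).FG)
  have hj : ∀ g : G, ∃ j : ℕ, F ^ (n + l + j) ∣ algebraMap S T g * t₀ * F ^ j := fun g => hk (by
    rw [← hmT, ← Ideal.map_pow]; exact Ideal.mem_map_of_mem _ (hG ▸ Submodule.subset_span g.2))
  choose j hj using hj
  let J := ∑ g : G, j g
  have hsat := saturated_of_split S T hmT hap f (n + l + J) k (t₀ * F ^ J) (by
    rw [pow_add]; linear_combination (F ^ J * F ^ J) * ht₀) (fun g hg => by
    rw [← hG] at hg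
    induction hg using Submodule.span_induction with
    | mem g hg =>
      obtain ⟨d, hd⟩ := Nat.le.dest (Finset.single_le_sum (fun i _ => Nat.zero_le (j i)) (Finset.mem_univ (⟨g, hg⟩ : G)))
      obtain ⟨τ, hτ⟩ := hj ⟨g, hg⟩
      refine ⟨τ, ?_⟩
      show algebraMap S T g * (t₀ * F ^ J) = F ^ (n + l + J) * τ
      rw [show J = j ⟨g, hg⟩ + d from hd.symm, pow_add F (j ⟨g, hg⟩), ← add_assoc, pow_add F _ d, mul_right_comm (F ^ _) (F ^ d)]
      linear_combination (F ^ d) * hτ
    | zero => exact ⟨0, by simp⟩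
    | add x y _ _ hx hy =>
      obtain ⟨τ, hτ⟩ := hx
      obtain ⟨τ', hτ'⟩ := hy
      exact ⟨τ + τ', by rw [map_add, add_mul, hτ, hτ', mul_add]⟩
    | smul c x _ hx =>
      obtain ⟨τ, hτ⟩ := hx
      exact ⟨algebraMap S T c * τ, by rw [smul_eq_mul, map_mul, mul_assoc, hτ, mul_left_comm]⟩)
    P.asIdeal P'.asIdeal (congrArg PrimeSpectrum.asIdeal hPP) hfP
  have hmul : ∀ Q : PrimeSpectrum T, F ∉ Q.asIdeal → (t₀ * F ^ J ∈ Q.asIdeal ↔ Q ∉ V) := fun Q hFQ => by
    rw [hQ Q hFQ, not_not]
    exact ⟨fun h => (Q.isPrime.mem_or_mem h).resolve_right fun h' => hFQ (Q.isPrime.mem_of_pow_mem J h'),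
      fun h => Q.asIdeal.mul_mem_right _ h⟩
  rw [hmul P hfP, hmul P' hfP'] at hsat
  exact not_iff_not.1 hsat

end

end HenselBranchLib
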