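import Groth.Prelude.Def_Hensel
import Groth.Agent.HenselBranchLib.IntegralHens
import Groth.Agent.AzInvLib.Local

/-! Strict henselizations of quotients. -/

set_option autoImplicit false
set_option linter.style.haveILetI false
universe u

open IsLocalRing Hensel

namespace HenselBranchLib

/-- If `S` is a strict henselization of `A` and `I ≤ m`, then `S / IS` is one of `A / I`. -/
theorem isStrictHenselization_quot (A S : Type u) [CommRing A] [IsLocalRing A] [CommRing S] [IsLocalRing S]
    [Algebra A S] [IsLocalHom (algebraMap A S)] [IsStrictHenselization A S] (I : Ideal A) (hI : I ≤ maximalIdeal A) :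
    ∃ (_ : IsLocalRing (A ⧸ I)) (_ : IsLocalRing (S ⧸ I.map (algebraMap A S)))
      (_ : IsLocalHom (algebraMap (A ⧸ I) (S ⧸ I.map (algebraMap A S)))),
      IsStrictHenselization (A ⧸ I) (S ⧸ I.map (algebraMap A S)) := by
  haveI : HenselianLocalRing S := IsStrictHenselization.henselian (R := A)
  haveI hk : IsSepClosure (ResidueField A) (ResidueField S) := IsStrictHenselization.isSepClosure
  haveI : Nontrivial (A ⧸ I) :=
    Ideal.Quotient.nontrivial_iff.mpr fun h => (maximalIdeal.isMaximal A).ne_top (top_le_iff.1 (h ▸ hI))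
  have hJle : I.map (algebraMap A S) ≤ maximalIdeal S :=
    Ideal.map_le_iff_le_comap.2 fun a ha => map_nonunit (algebraMap A S) a (hI ha)
  haveI : Nontrivial (S ⧸ I.map (algebraMap A S)) :=
    Ideal.Quotient.nontrivial_iff.mpr fun h => (maximalIdeal.isMaximal S).ne_top (top_le_iff.1 (h ▸ hJle))
  haveI hA' : IsLocalRing (A ⧸ I) := IsLocalRing.of_surjective' (Ideal.Quotient.mk I) Ideal.Quotient.mk_surjective
  haveI hS' : IsLocalRing (S ⧸ I.map (algebraMap A S)) :=
    IsLocalRing.of_surjective' (Ideal.Quotient.mk _) Ideal.Quotient.mk_surjective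
  haveI hmA : IsLocalHom (Ideal.Quotient.mk I) := IsLocalHom.of_surjective _ Ideal.Quotient.mk_surjective
  haveI hmS : IsLocalHom (Ideal.Quotient.mk (I.map (algebraMap A S))) :=
    IsLocalHom.of_surjective _ Ideal.Quotient.mk_surjective
  haveI hloc : IsLocalHom (algebraMap (A ⧸ I) (S ⧸ I.map (algebraMap A S))) := by
    refine ⟨fun x hx => ?_⟩
    obtain ⟨a, rfl⟩ := Ideal.Quotient.mk_surjective x
    exact ((isUnit_of_map_unit (Ideal.Quotient.mk (I.map (algebraMap A S))) _ hx).of_map (algebraMap A S)).map _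
  refine ⟨hA', hS', hloc, ?_⟩
  letI : Algebra S (S ⧸ I.map (algebraMap A S)) := Ideal.Quotient.algebra S
  haveI : Algebra.IsIntegral S (S ⧸ I.map (algebraMap A S)) :=
    Algebra.isIntegral_of_surjective Ideal.Quotient.mk_surjective
  let eA := RingEquiv.ofBijective (ResidueField.map (Ideal.Quotient.mk I))
    ⟨RingHom.injective _, fun y => by
      obtain ⟨y, rfl⟩ := residue_surjective y
      obtain ⟨a, rfl⟩ := Ideal.Quotient.mk_surjective y
      exact ⟨residue A a, rfl⟩⟩
  let eS := RingEquiv.ofBijective (ResidueField.map (Ideal.Quotient.mk (I.map (algebraMap A S))))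
    ⟨RingHom.injective _, fun y => by
      obtain ⟨y, rfl⟩ := residue_surjective y
      obtain ⟨a, rfl⟩ := Ideal.Quotient.mk_surjective y
      exact ⟨residue S a, rfl⟩⟩
  refine { henselian := henselianLocalRing_of_isIntegral' S _, isSepClosure := ⟨?_, ?_⟩, universal := ?_ }
  · haveI : IsSepClosed (ResidueField S) := hk.sep_closed
    exact AzInvLib.isSepClosed_of_ringEquiv eS
  · haveI : Algebra.IsSeparable (ResidueField A) (ResidueField S) := hk.separable
    refine Algebra.IsSeparable.of_equiv_equiv eA eS (RingHom.ext fun x => ?_)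
    obtain ⟨a, rfl⟩ := residue_surjective x
    rfl
  · intro T _ _ f hf τ hτ
    haveI := hf
    obtain ⟨g, ⟨hg1, hg2⟩, hgu⟩ := IsStrictHenselization.universal (R := A) (S := S) T (f.comp (Ideal.Quotient.mk I))
      (τ.comp eS.toRingHom) (RingHom.ext fun x => by
        obtain ⟨a, rfl⟩ := residue_surjective x
        exact RingHom.congr_fun hτ (residue (A ⧸ I) (Ideal.Quotient.mk I a)))
    have hI' : ∀ s ∈ I.map (algebraMap A S), g s = 0 := fun s hs => by
      refine (Ideal.map_le_iff_le_comap.2 fun a ha => ?_ : I.map (algebraMap A S) ≤ RingHom.ker g) hs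
      rw [Ideal.mem_comap, RingHom.mem_ker]
      refine (RingHom.congr_fun hg1 a).trans ?_
      show f (Ideal.Quotient.mk I a) = 0
      rw [Ideal.Quotient.eq_zero_iff_mem.2 ha, map_zero]
    refine ⟨Ideal.Quotient.lift _ g hI', ⟨Ideal.Quotient.ringHom_ext (RingHom.ext fun a => RingHom.congr_fun hg1 a),
      fun x => ?_⟩, fun G hG => Ideal.Quotient.ringHom_ext ?_⟩
    · obtain ⟨s, rfl⟩ := Ideal.Quotient.mk_surjective x
      exact hg2 s
    · rw [hgu (G.comp (Ideal.Quotient.mk _)) ⟨RingHom.ext fun a => RingHom.congr_fun hG.1 (Ideal.Quotient.mk I a),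
        fun s => hG.2 (Ideal.Quotient.mk _ s)⟩]
      rfl

end HenselBranchLib
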