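import Groth.Agent.HenselBranchLib.NormBC
import Mathlib.RingTheory.Localization.BaseChange

/-! Smooth maps preserve branches. -/

set_option autoImplicit false
set_option linter.style.haveILetI false
set_option linter.overlappingInstances false
set_option maxHeartbeats 1000000
set_option synthInstance.maxHeartbeats 400000
set_option backward.isDefEq.respectTransparency false
universe u

open IsLocalRing TensorProduct

namespace HenselBranchLib

noncomputable section

theorem normal_tensor_localization (R S : Type u) [CommRing R] [CommRing S] [Algebra R S] [Algebra.Smooth R S]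
    (p : Ideal R) [p.IsPrime] (q : Ideal S) [q.IsPrime] [q.LiesOver p] (N : Type u) [CommRing N]
    [Algebra (Localization.AtPrime p) N] (hN : EGA4.IsNormalRing N) :
    letI := Localization.AtPrime.algebraOfLiesOver p q
    EGA4.IsNormalRing (N ⊗[Localization.AtPrime p] Localization.AtPrime q) := by
  letI := Localization.AtPrime.algebraOfLiesOver p q
  letI : Algebra R N := ((algebraMap (Localization.AtPrime p) N).comp (algebraMap R (Localization.AtPrime p))).toAlgebra
  haveI : IsScalarTower R (Localization.AtPrime p) N := .of_algebraMap_eq' rfl
  have h1 : EGA4.IsNormalRing (N ⊗[R] S) := NorLocLib.isNormalRing_of_smooth_general N (N ⊗[R] S) hN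
  letI : Algebra (N ⊗[R] S) (N ⊗[R] Localization.AtPrime q) :=
    (Algebra.TensorProduct.map (AlgHom.id R N) (IsScalarTower.toAlgHom R S (Localization.AtPrime q))).toAlgebra
  haveI : IsScalarTower N (N ⊗[R] S) (N ⊗[R] Localization.AtPrime q) :=
    .of_algebraMap_eq <| by intro; simp [RingHom.algebraMap_toAlgebra]
  haveI := IsLocalization.tensorProduct_tensorProduct_right R N q.primeCompl (Localization.AtPrime q)
    (by ext; simp [RingHom.algebraMap_toAlgebra])
  have h2 := HensFormalLib.isNormalRing_of_isLocalization (N ⊗[R] S) (N ⊗[R] Localization.AtPrime q)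
    (q.primeCompl.map (Algebra.TensorProduct.includeRight (R := R) (A := N))) h1
  haveI := IsLocalization.tensorProduct_compatibleSMul p.primeCompl (Localization.AtPrime p) N (Localization.AtPrime q)
  exact GeomRedFibLib.isNormalRing_of_ringEquiv _ _
    (Algebra.TensorProduct.equivOfCompatibleSMul R (Localization.AtPrime p) R N (Localization.AtPrime q)).symm.toRingEquiv h2

theorem card_strictHenselization_of_smooth {R S Ah Bh : Type u} [CommRing R] [CommRing S] [Algebra R S]
    [Algebra.Smooth R S] (q : Ideal S) [q.IsPrime] (p : Ideal R) [p.IsPrime] [q.LiesOver p]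
    [CommRing Ah] [IsLocalRing Ah] [Algebra (Localization.AtPrime p) Ah]
    [IsLocalHom (algebraMap (Localization.AtPrime p) Ah)] [Hensel.IsStrictHenselization (Localization.AtPrime p) Ah]
    [CommRing Bh] [IsLocalRing Bh] [Algebra (Localization.AtPrime q) Bh]
    [IsLocalHom (algebraMap (Localization.AtPrime q) Bh)] [Hensel.IsStrictHenselization (Localization.AtPrime q) Bh] :
    (minimalPrimes Ah).encard = (minimalPrimes Bh).encard := by
  letI := Localization.AtPrime.algebraOfLiesOver p q
  haveI : IsLocalHom (algebraMap (Localization.AtPrime p) (Localization.AtPrime q)) :=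
    inferInstanceAs (IsLocalHom (Localization.localRingHom p q (algebraMap R S) (q.over_def p)))
  haveI : Module.Flat (Localization.AtPrime p) (Localization.AtPrime q) :=
    RingHom.flat_algebraMap_iff.mp <| RingHom.Flat.localRingHom (RingHom.flat_algebraMap_iff.mpr inferInstance) ..
  rw [← ENat.card_coe_set_eq, ← ENat.card_coe_set_eq]
  exact card_strictHenselization_eq (Localization.AtPrime p) (Localization.AtPrime q)
    (fun hfin => normal_tensor_localization R S p q _ fun n _ => (isNormRed_normRed _ hfin).normal n) Ah Bh

theorem card_henselization_of_smooth {R S Ah Bh : Type u} [CommRing R] [CommRing S] [Algebra R S]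
    [Algebra.Smooth R S] (q : Ideal S) [q.IsPrime] (p : Ideal R) [p.IsPrime] [q.LiesOver p]
    (hpi : @IsPurelyInseparable p.ResidueField q.ResidueField _ _
      (Ideal.ResidueField.mapₐ p q (Algebra.ofId R S) (q.over_def p)).toRingHom.toAlgebra)
    [CommRing Ah] [IsLocalRing Ah] [Algebra (Localization.AtPrime p) Ah]
    [IsLocalHom (algebraMap (Localization.AtPrime p) Ah)] [Hensel.IsHenselization (Localization.AtPrime p) Ah]
    [CommRing Bh] [IsLocalRing Bh] [Algebra (Localization.AtPrime q) Bh]
    [IsLocalHom (algebraMap (Localization.AtPrime q) Bh)] [Hensel.IsHenselization (Localization.AtPrime q) Bh] :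
    (minimalPrimes Ah).encard = (minimalPrimes Bh).encard := by
  letI := Localization.AtPrime.algebraOfLiesOver p q
  haveI : IsLocalHom (algebraMap (Localization.AtPrime p) (Localization.AtPrime q)) :=
    inferInstanceAs (IsLocalHom (Localization.localRingHom p q (algebraMap R S) (q.over_def p)))
  haveI : Module.Flat (Localization.AtPrime p) (Localization.AtPrime q) :=
    RingHom.flat_algebraMap_iff.mp <| RingHom.Flat.localRingHom (RingHom.flat_algebraMap_iff.mpr inferInstance) ..
  haveI : IsPurelyInseparable (ResidueField (Localization.AtPrime p)) (ResidueField (Localization.AtPrime q)) := by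
    convert hpi using 1
    refine Algebra.algebra_ext _ _ fun z => ?_
    obtain ⟨a, rfl⟩ := residue_surjective z
    rfl
  rw [← ENat.card_coe_set_eq, ← ENat.card_coe_set_eq]
  exact card_henselization_eq (Localization.AtPrime p) (Localization.AtPrime q)
    (fun hfin => normal_tensor_localization R S p q _ fun n _ => (isNormRed_normRed _ hfin).normal n) Ah Bh

end

end HenselBranchLib
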