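import Groth.Agent.HenselBranchLib.NormCpl
import Groth.Agent.CatLib.Completion
import Groth.Agent.CatLib.CplEquiv
import Groth.Agent.S2636
import Groth.Agent.S2052

/-! Geometrically normal formal fibres and universal catenarity. -/

set_option autoImplicit false
set_option linter.style.haveILetI false
set_option linter.overlappingInstances false
set_option maxHeartbeats 1000000
set_option backward.isDefEq.respectTransparency false
universe u

open IsLocalRing

namespace HenselBranchLib

noncomputable section

theorem isEquidim_of_nilradical_prime (T : Type u) [CommRing T] (h : (nilradical T).IsPrime) : EGA4.IsEquidim T := by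
  intro p hp
  rw [BranchLib.eq_nilradical_of_mem_minimalPrimes hp]
  refine le_antisymm (ringKrullDim_quotient_le _) ?_
  rw [ringKrullDim_quotient, show PrimeSpectrum.zeroLocus (nilradical T : Set T) = Set.univ from
    Set.eq_univ_of_forall fun x => by
      haveI := x.isPrime
      exact nilradical_le_prime x.asIdeal]
  exact Order.krullDim_le_of_strictMono (fun x => (⟨x, Set.mem_univ x⟩ : (Set.univ : Set (PrimeSpectrum T))))
    fun a b hab => hab

theorem isUniversallyCatenary_of_geomNormal_unibranch (A : Type u) [CommRing A] [IsLocalRing A] [IsNoetherianRing A]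
    (hA : EGA4.HasGeomNormalFormalFibres A) (hu : CAlg2.IsUnibranch A) : CAlg.IsUniversallyCatenary A := by
  let S := HenselLib.HR A
  let T := AdicCompletion (maximalIdeal A) A
  haveI := henselianLocalRing_completion A
  have h1 : ENat.card (minimalPrimes T) = 1 := by
    rw [numBranches_eq_card T, (numBranches_completion_eq_of_geomNormal A hA).1, ← Groth.Agent.S9237.result A S]
    have hprime := (hasUniqueMinimalPrime_iff S).1 ((Groth.Agent.S2052.result (A := A) (Ah := S)).1 hu)
    rw [ENat.card_coe_set_eq, Set.encard_eq_one]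
    obtain ⟨P, hP⟩ := Ideal.nonempty_minimalPrimes (I := (⊥ : Ideal S)) bot_ne_top
    exact ⟨nilradical S, Set.eq_singleton_iff_unique_mem.2
      ⟨BranchLib.eq_nilradical_of_mem_minimalPrimes hP ▸ hP, fun q hq => BranchLib.eq_nilradical_of_mem_minimalPrimes hq⟩⟩
  have hfe : EGA4.IsFormallyEquidim A :=
    isEquidim_of_nilradical_prime T ((radical_isPrime_iff T (⊥ : Ideal T)).2 h1)
  refine Groth.Agent.S2636.result A fun p hp => ?_
  haveI : Nontrivial (A ⧸ p) := Ideal.Quotient.nontrivial_iff.2 hp.ne_top
  exact (CatLib.isEquidim_quotient_iff hfe p).1 (CatLib.isEquidim_of_isDomain _)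

theorem henselization_isUniversallyCatenary (A S : Type u) [CommRing A] [IsLocalRing A] [IsNoetherianRing A]
    [CommRing S] [IsLocalRing S] [Algebra A S] [IsLocalHom (algebraMap A S)] [Hensel.IsHenselization A S]
    (hA : EGA4.HasGeomNormalFormalFibres A) : CAlg.IsUniversallyCatenary S := by
  let T := AdicCompletion (maximalIdeal A) A
  haveI := henselianLocalRing_completion A
  haveI hS : HenselianLocalRing S := Hensel.IsHenselization.henselian (R := A)
  haveI : IsNoetherianRing S := (Groth.Agent.S0511.result A S).1 ‹_›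
  haveI : IsNoetherianRing T := (NormalLib.completion_props A).1
  obtain ⟨ψ, hψ⟩ := (Hensel.IsHenselization.universal (R := A) (S := S) T (algebraMap A T) inferInstance).exists
  have hrad := (numBranches_eq_completion_iff A S ψ hψ).1 (numBranches_completion_eq_of_geomNormal A hA).1.symm
  haveI : Module.FaithfullyFlat A S := Groth.Agent.S0509.result A S
  haveI : Module.Flat A T := AdicCompletion.flat_of_isNoetherian _
  have hmS : (maximalIdeal A).map (algebraMap A S) = maximalIdeal S := Groth.Agent.S0507.result A S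
  letI := ψ.toAlgebra
  haveI : IsScalarTower A S T := IsScalarTower.of_algebraMap_eq fun a => (RingHom.congr_fun hψ a).symm
  haveI hl : IsLocalHom (algebraMap S T) := by
    refine ((IsLocalRing.local_hom_TFAE (algebraMap S T)).out 0 2 :).2 ?_
    rw [← hmS, Ideal.map_map, ← IsScalarTower.algebraMap_eq]
    exact ((IsLocalRing.local_hom_TFAE (algebraMap A T)).out 0 2 :).1 inferInstance
  haveI hflat : Module.Flat S T := by
    have hinj := FlatLib.injective_lTensor_map (R := A) (S := S) (M := T) (maximalIdeal A)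
    have hJ : (maximalIdeal S).map (algebraMap S T) ≤ Ideal.jacobson ⊥ := by
      rw [IsLocalRing.jacobson_eq_maximalIdeal _ bot_ne_top]
      exact ((IsLocalRing.local_hom_TFAE (algebraMap S T)).out 0 2 :).1 hl
    letI := Ideal.Quotient.field (maximalIdeal S)
    exact FlatCrit.flat_of_injective_of_flat_quotient (S := T) (maximalIdeal S) hJ (hmS ▸ hinj) inferInstance
  refine Groth.Agent.S2636.result S fun p hp => ?_
  obtain ⟨q, hq, hqp⟩ := Ideal.exists_minimalPrimes_le (I := (⊥ : Ideal S)) (J := p) bot_le
  haveI := hq.1.1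
  let J := q.map (algebraMap S T)
  haveI : Nontrivial (S ⧸ q) := Ideal.Quotient.nontrivial_iff.2 hq.1.1.ne_top
  haveI : IsLocalRing (S ⧸ q) := IsLocalRing.of_surjective' _ Ideal.Quotient.mk_surjective
  have hne : J ≠ ⊤ := ne_top_of_le_ne_top (maximalIdeal.isMaximal T).ne_top
    ((Ideal.map_mono (le_maximalIdeal hq.1.1.ne_top)).trans (((IsLocalRing.local_hom_TFAE (algebraMap S T)).out 0 2 :).1 hl))
  haveI : Nontrivial (T ⧸ J) := Ideal.Quotient.nontrivial_iff.2 hne
  haveI : IsLocalRing (T ⧸ J) := IsLocalRing.of_surjective' _ Ideal.Quotient.mk_surjective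
  have hTJ : EGA4.IsFormallyEquidim (T ⧸ J) := by
    rw [CatLib.isFormallyEquidim_iff_quotient (A := T) (T ⧸ J) Ideal.Quotient.mk_surjective,
      Ideal.Quotient.algebraMap_eq, Ideal.mk_ker]
    refine CatLib.isEquidim_of_ringEquiv (R := T ⧸ J) (Ideal.quotientEquiv _ _
      (AdicCompletion.ofAlgEquiv (maximalIdeal T)).toRingEquiv rfl) ?_
    refine isEquidim_of_nilradical_prime _ ?_
    have h := hrad q hq
    rw [← Ideal.mk_ker (I := J)] at hne
    haveI : (Ideal.radical J).IsPrime := h
    have : nilradical (T ⧸ J) = J.radical.map (Ideal.Quotient.mk J) := by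
      rw [Ideal.map_radical_of_surjective Ideal.Quotient.mk_surjective (by rw [Ideal.mk_ker]), Ideal.map_quotient_self]
      rfl
    rw [this]
    exact Ideal.map_isPrime_of_surjective Ideal.Quotient.mk_surjective (by rw [Ideal.mk_ker]; exact Ideal.le_radical)
  haveI : Module.Flat (S ⧸ q) (T ⧸ J) :=
    Module.Flat.of_linearEquiv (Algebra.TensorProduct.quotIdealMapEquivQuotTensor T q).toLinearEquiv
  haveI : IsLocalHom (algebraMap (S ⧸ q) (T ⧸ J)) := ⟨fun z hz => by
    obtain ⟨c, rfl⟩ := Ideal.Quotient.mk_surjective z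
    haveI : IsLocalHom (Ideal.Quotient.mk J) := IsLocalHom.of_surjective _ Ideal.Quotient.mk_surjective
    exact ((isUnit_map_iff (algebraMap S T) c).1 ((isUnit_map_iff (Ideal.Quotient.mk J) _).1 hz)).map _⟩
  have hSq : EGA4.IsFormallyEquidim (S ⧸ q) := CatLib.isFormallyEquidim_of_flat hTJ
  haveI : Nontrivial (S ⧸ p) := Ideal.Quotient.nontrivial_iff.2 hp.ne_top
  haveI : IsLocalRing (S ⧸ p) := IsLocalRing.of_surjective' _ Ideal.Quotient.mk_surjective
  haveI : (p.map (Ideal.Quotient.mk q)).IsPrime :=
    Ideal.map_isPrime_of_surjective Ideal.Quotient.mk_surjective (by rwa [Ideal.mk_ker])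
  let e : ((S ⧸ q) ⧸ p.map (Ideal.Quotient.mk q)) ≃+* S ⧸ p :=
    (DoubleQuot.quotQuotEquivQuotSup q p).trans (Ideal.quotEquivOfEq (sup_eq_right.2 hqp))
  haveI : Nontrivial ((S ⧸ q) ⧸ p.map (Ideal.Quotient.mk q)) := Ideal.Quotient.nontrivial_iff.2 (Ideal.IsPrime.ne_top ‹_›)
  haveI : IsLocalRing ((S ⧸ q) ⧸ p.map (Ideal.Quotient.mk q)) := IsLocalRing.of_surjective' _ Ideal.Quotient.mk_surjective
  exact CatLib.isFormallyEquidim_of_ringEquiv e ((CatLib.isEquidim_quotient_iff hSq _).1 (CatLib.isEquidim_of_isDomain _))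

end

end HenselBranchLib
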